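import Cfsg.Agent.R2.Spec.E.SNum

/-!
# The engine (helper29): the exotic solutions, statements

Both classes are isolated in `S` : `M = H P`, `N = H' Q`, `P = ttor t' u i'`, `Q = ttor t' u j'`. The two linear relations
give a contradiction or one of the following exact families.
-/

set_option autoImplicit false

namespace Cfsg.Agent.R2.Spec.E

open Cfsg Cfsg.Agent.H426.LieFam Cfsg.Agent.R2.Spec Cfsg.Agent.R2.Spec.P1 Cfsg.Agent.R2.Spec.F1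

/-- type II -/
def FamII : Fam → Prop
  | .psp n => n % 2 = 1
  | .oodd n => n % 2 = 1
  | .oplus n => n % 2 = 0
  | _ => False

/-- `|y - 1|`, `y = u` for `L_m(u)`, `y = -u` for `U_m(u)` -/
def usg : Fam → ℕ → ℕ
  | .psl _, u => u - 1
  | .psu _, u => u + 1
  | _, _ => 0

/-- `L` and `S` linear or unitary -/
def ExoAA (t : Fam) (q : ℕ) (t' : Fam) (u i j i' j' H H' : ℕ) : Prop :=
  ∃ n m : ℕ, (t = .psl n ∨ t = .psu n) ∧ (t' = .psl m ∨ t' = .psu m) ∧ q ∣ usg t' u ∧ usg t' u ∣ m ∧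
    ((i = n ∧ j + 1 = n ∧ i' + 1 = m ∧ j' = m ∧ u = dgL t q * H) ∨
      (i + 1 = n ∧ j = n ∧ i' = m ∧ j' + 1 = m ∧ u = dgL t q * H'))

/-- `L` orthogonal of type `-`, `q = 3`, `S` linear or unitary: `3 ^ n + 1 = 2 u W`, `W = |y ^ (m - 1) - 1| / |y - 1|` -/
def ExoDA (t : Fam) (q : ℕ) (t' : Fam) (u : ℕ) : Prop :=
  ∃ n m W : ℕ, t = .ominus n ∧ q = 3 ∧ (t' = .psl m ∨ t' = .psu m) ∧ 3 ∣ usg t' u ∧ 3 ∣ m ∧
    W * usg t' u = ttor t' u (m - 1) * dgL t' u ∧ 3 ^ n + 1 = 2 * u * W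

/-- `L` of type II, `S` linear or unitary: `M = |y ^ m - 1| / |y - 1|`, `N = u |y ^ (m - 1) - 1| / |y - 1|` -/
def ExoIIA (t : Fam) (t' : Fam) (u i' j' H H' : ℕ) : Prop :=
  ∃ m : ℕ, FamII t ∧ (t' = .psl m ∨ t' = .psu m) ∧ usg t' u ∣ m ∧ i' = m ∧ j' + 1 = m ∧ H = usg t' u ∧ H' = u

/-- `L` of type II, `S` orthogonal of type `-` over the field with two or three elements -/
def ExoIID (t : Fam) (t' : Fam) (u i' j' H H' : ℕ) : Prop :=
  ∃ m : ℕ, FamII t ∧ t' = .ominus m ∧ (u = 2 ∨ u = 3) ∧ i' = 2 * m ∧ j' = 2 * (m - 1) ∧ H = u - 1 ∧ H' = u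

/-- the exotic families -/
def Exo (t : Fam) (q : ℕ) (t' : Fam) (u i j i' j' H H' : ℕ) : Prop :=
  ExoAA t q t' u i j i' j' H H' ∨ ExoDA t q t' u ∨ ExoIIA t t' u i' j' H H' ∨ ExoIID t t' u i' j' H H'

end Cfsg.Agent.R2.Spec.E
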