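import Cfsg.Agent.R2.Spec.E.Main
import Cfsg.Agent.R2.Spec.Gamma.Main

/-!
# The engine (helper29): all rows
-/

set_option autoImplicit false

namespace Cfsg.Agent.R2.Spec.E

open Cfsg Cfsg.Agent.H426.LieFam

/-- the rows of the engine -/
theorem rows : Rows :=
  ⟨fun _ _ _ _ _ _ _ _ _ _ _ _ _ _ _ _ _ _ _ _ _ _ h his hR hF hvp hp2 h5 h5' D ht hH =>
    Gamma.gamma_main h his hR hF hvp hp2 h5 h5' D ht hH⟩

end Cfsg.Agent.R2.Spec.E
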