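import Cfsg.Agent.R2.Spec.P1.TopDef
import Cfsg.Agent.R2.Spec.F1.NcV
import Cfsg.Agent.R2.Spec.F1.LSide

/-!
# The engine (helper29): the two isolated numbers, interface

`Duel t p f i j t' v f' i' j' w H S` : what the structure theory (box F1) gives for a classical composition factor `S`
(family `t'`, characteristic `v ≠ p`) of a group isospectral to the classical group `L` (family `t`):

* `i`, `j` : two isolated classes of `L` (`pairOK`), `M = ttor t q i`, `N = ttor t q j`;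
* `v ∤ M`, the primes of the class `i` are in the isolated class `i'` of `S`, `M = H * ttor t' u i'`;
* `w` : a (good) prime of the class `j`, of class `j'` in `S`; all element orders of `S` divisible by `w` divide `N`;
* `H ∣ h * κ`, `h` from `G / K : S`, `κ` from `K`.
-/

set_option autoImplicit false

namespace Cfsg.Agent.R2.Spec.E

open Cfsg Cfsg.Agent.H426.LieFam Cfsg.Agent.R2.Spec Cfsg.Agent.R2.Spec.P1 Cfsg.Agent.R2.Spec.F1

universe u

/-- the pairs of isolated classes used by the engine -/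
def PairOK : Fam → ℕ → ℕ → Prop
  | .psl n, i, j => (i = n ∧ j + 1 = n) ∨ (i + 1 = n ∧ j = n)
  | .psu n, i, j => (i = n ∧ j + 1 = n) ∨ (i + 1 = n ∧ j = n)
  | .psp n, i, j => n % 2 = 1 ∧ ((i = n ∧ j = 2 * n) ∨ (i = 2 * n ∧ j = n))
  | .oodd n, i, j => n % 2 = 1 ∧ ((i = n ∧ j = 2 * n) ∨ (i = 2 * n ∧ j = n))
  | .oplus n, i, j =>
    (n % 2 = 1 ∧ ((i = n ∧ j = 2 * (n - 1)) ∨ (i = 2 * (n - 1) ∧ j = n))) ∨
    (n % 2 = 0 ∧ ((i = n - 1 ∧ j = 2 * (n - 1)) ∨ (i = 2 * (n - 1) ∧ j = n - 1)))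
  | .ominus n, i, j => (i = 2 * n ∧ j = 2 * (n - 1)) ∨ (i = 2 * (n - 1) ∧ j = 2 * n)
  | _, _, _ => False

/-- a multiple of `|Out S|` -/
def outB : Fam → ℕ → ℕ → ℕ
  | .psl m, v, f => 2 * Nat.gcd m (v ^ f - 1) * f
  | .psu m, v, f => 2 * Nat.gcd m (v ^ f + 1) * f
  | .psp _, _, f => 2 * f
  | .oodd _, _, f => 2 * f
  | .oplus m, _, f => if m = 4 then 24 * f else 8 * f
  | .ominus _, _, f => 8 * f
  | _, _, _ => 0

/-- a multiple of the index of the group `S` in its automorphism group, see `outB`; `RkFour`: four pairwise nonadjacent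
regular classes -/
def RkFour : Fam → Prop
  | .psl m => 7 ≤ m
  | .psu m => 7 ≤ m
  | .psp m => 4 ≤ m
  | .oodd m => 4 ≤ m
  | .oplus m => 5 ≤ m
  | .ominus m => 4 ≤ m
  | _ => False

/-- five pairwise nonadjacent regular classes -/
def RkFive : Fam → Prop
  | .psl m => 9 ≤ m
  | .psu m => 9 ≤ m
  | .psp m => 5 ≤ m
  | .oodd m => 5 ≤ m
  | .oplus m => 7 ≤ m
  | .ominus m => 6 ≤ m
  | _ => False

/-- the interface of the engine -/
structure Duel (t : Fam) (p f i j : ℕ) (t' : Fam) (v f' i' j' w H : ℕ) (S : Type u) [Group S] : Prop where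
  p_prime : p.Prime
  p_ne : p ≠ 2
  f_pos : 1 ≤ f
  cla : Classical t
  pair : PairOK t i j
  v_prime : v.Prime
  vp : v ≠ p
  f'_pos : 1 ≤ f'
  big : BigS t'
  is : Fam.Is v f' S t'
  copMN : Nat.Coprime (ttor t (p ^ f) i) (ttor t (p ^ f) j)
  /-- the clean number -/
  vM : ¬ v ∣ ttor t (p ^ f) i
  topi' : top t' i'
  eqM : ttor t (p ^ f) i = H * ttor t' (v ^ f') i'
  copH : ∀ r : ℕ, r.Prime → cls t (p ^ f) r = i → ¬ r ∣ H
  /-- every prime of the class `i` is of the class `i'` in `S` -/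
  primi : ∀ r : ℕ, r.Prime → cls t (p ^ f) r = i → r ∣ Nat.card S ∧ cls t' (v ^ f') r = i'
  /-- the other number -/
  w_prime : w.Prime
  w5 : 5 ≤ w
  clsw : cls t (p ^ f) w = j
  clsw' : cls t' (v ^ f') w = j'
  j'3 : 3 ≤ j'
  memj' : mem t' j'
  na' : na t' i' j'
  wS : w ∣ Nat.card S
  ordw : ∀ x : S, w ∣ orderOf x → orderOf x ∣ ttor t (p ^ f) j
  /-- if the second class is isolated in `S` too, the primes of the class `j` do not divide the cofactor -/
  copH' : top t' j' → ∃ H' : ℕ, ttor t (p ^ f) j = H' * ttor t' (v ^ f') j' ∧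
    (∀ r : ℕ, r.Prime → cls t (p ^ f) r = j → ¬ r ∣ H')
  /-- the cofactor: `h` from the outer automorphisms, `κ` from the radical (if `κ ≠ 1` then `v` divides the OTHER
  number; otherwise one chooses the number which is not divisible by the primes of `K`) -/
  cof : ∃ h κ : ℕ, H ∣ h * κ ∧ h ∣ outB t' v f' ∧ 1 ≤ κ ∧
    κ ∣ ttor t (p ^ f) i ∧
    (κ ≠ 1 → An t' j' ∧ v ∣ ttor t (p ^ f) j ∧ ∃ h' e : ℕ,
      (∀ H' : ℕ, ttor t (p ^ f) j = H' * ttor t' (v ^ f') j' → H' ∣ h' * v ^ e) ∧ h' ∣ outB t' v f' ∧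
      v ^ e ∣ ttor t (p ^ f) j ∧ (cls t (p ^ f) v ≤ 2 ∨ ∃ m, t' = .ominus m)) ∧
    ∀ s : ℕ, s.Prime → s ∣ κ → s ≠ v ∧ s ≠ p ∧ cls t (p ^ f) s ≤ 2

end Cfsg.Agent.R2.Spec.E
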