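import Cfsg.Agent.R2.Spec.E.LNum

/-!
# The engine (helper29): elimination of two linear relations
-/

set_option autoImplicit false

namespace Cfsg.Agent.R2.Spec.E

open Cfsg Cfsg.Agent.H426.LieFam Cfsg.Agent.R2.Spec Cfsg.Agent.R2.Spec.P1 Cfsg.Agent.R2.Spec.F1

theorem elim {a b c a' b' c' M N P Q H1 H2 : ℤ} (h1 : a * M = b * N + c) (h2 : a' * P = b' * Q + c')
    (hM : M = H1 * P) (hN : N = H2 * Q) (hP : 0 < P) (hQ : 0 < Q)
    (hs : |a' * c - a * H1 * c'| < Q ∨ |b' * c - b * H2 * c'| < P) :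
    a * b' * H1 = a' * b * H2 ∧ b' * c = b * H2 * c' ∧ a' * c = a * H1 * c' := by
  have k1 : Q * (a * b' * H1 - a' * b * H2) = a' * c - a * H1 * c' := by
    rw [hM, hN] at h1
    linear_combination a' * h1 - a * H1 * h2
  have k2 : P * (a * b' * H1 - a' * b * H2) = b' * c - b * H2 * c' := by
    rw [hM, hN] at h1
    linear_combination b' * h1 - b * H2 * h2
  have k0 : a * b' * H1 - a' * b * H2 = 0 := by
    rcases hs with hs | hs
    · have h3 : a' * c - a * H1 * c' = 0 :=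
        Int.eq_zero_of_abs_lt_dvd (Dvd.intro _ k1) hs
      rw [h3] at k1
      rcases mul_eq_zero.1 k1 with h4 | h4
      · omega
      · exact h4
    · have h3 : b' * c - b * H2 * c' = 0 :=
        Int.eq_zero_of_abs_lt_dvd (Dvd.intro _ k2) hs
      rw [h3] at k2
      rcases mul_eq_zero.1 k2 with h4 | h4
      · omega
      · exact h4
  rw [k0, mul_zero] at k1 k2
  exact ⟨by omega, by omega, by omega⟩

/-- the kinds of relations for `S` : `0` linear and unitary, `1` difference `1`, `2`, `2` orthogonal, `3` the classes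
`2(m-1)`, `m-1` of the minus type -/
inductive SRel (u : ℕ) : ℕ → ℕ → ℤ → ℤ → ℤ → ℤ → Prop
  /-- the first number is the one of the class `m` -/
  | A1 (s : ℤ) (hs : s = 1 ∨ s = -1) (d : ℕ) (e : ℤ) (hd : (d : ℤ) * |e| = u + s) : SRel u 0 d s (u + s) u e
  /-- the first number is the one of the class `m - 1` -/
  | A2 (s : ℤ) (hs : s = 1 ∨ s = -1) (d : ℕ) (e : ℤ) (hd : (d : ℤ) * |e| = u + s) : SRel u 0 d s u (u + s) e
  | C (e : ℤ) (he : |e| = 1 ∨ |e| = 2) : SRel u 1 1 1 1 1 e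
  | D1 (s : ℤ) (hs : s = 1 ∨ s = -1) (d : ℕ) (hd4 : d ∣ 4) (e : ℤ) (hd : (d : ℤ) * |e| = (u + s) ^ 2) :
      SRel u 2 d s (u + s) u e
  | D2 (s : ℤ) (hs : s = 1 ∨ s = -1) (d : ℕ) (hd4 : d ∣ 4) (e : ℤ) (hd : (d : ℤ) * |e| = (u + s) ^ 2) :
      SRel u 2 d s u (u + s) e
  | E1 (s : ℤ) (hs : s = 1 ∨ s = -1) (d : ℕ) (hd4 : d ∣ 4) (e : ℤ) (hd : (d : ℤ) * |e| = 2 * ((u + s) * (u - s))) :
      SRel u 3 d s (u + s) (u - s) e

theorem SRel.symm {u k d : ℕ} {s a b c : ℤ} (h : SRel u k d s a b c) : ∃ s' : ℤ, (k ≠ 3 → s' = s) ∧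
    SRel u k d s' b a (-c) := by
  cases h with
  | A1 _ hs _ _ hd => exact ⟨s, fun _ => rfl, .A2 s hs d (-c) (by rwa [abs_neg])⟩
  | A2 _ hs _ _ hd => exact ⟨s, fun _ => rfl, .A1 s hs d (-c) (by rwa [abs_neg])⟩
  | C _ he => exact ⟨1, fun _ => rfl, .C (-c) (by rwa [abs_neg])⟩
  | D1 _ hs _ hd4 _ hd => exact ⟨s, fun _ => rfl, .D2 s hs d hd4 (-c) (by rwa [abs_neg])⟩
  | D2 _ hs _ hd4 _ hd => exact ⟨s, fun _ => rfl, .D1 s hs d hd4 (-c) (by rwa [abs_neg])⟩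
  | E1 _ hs _ hd4 _ hd =>
    refine ⟨-s, fun h => absurd rfl h, ?_⟩
    have := SRel.E1 (u := u) (-s) (by rcases hs with rfl | rfl <;> simp) d hd4 (-c)
      (by rw [abs_neg, hd]; ring)
    rwa [← sub_eq_add_neg, sub_neg_eq_add] at this

theorem not_dvd_four {q : ℕ} (hq3 : 3 ≤ q) (hq2 : q % 2 = 1) {d : ℕ} (hd : d ∣ 4) : ¬ (q : ℤ) ∣ d := by
  intro h1
  have h2 : q ∣ 4 := (Int.natCast_dvd_natCast.1 h1).trans hd
  have h3 := Nat.le_of_dvd (by norm_num) h2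
  interval_cases q <;> omega

/-- Type I: the coefficient `b` is divisible by `q`. -/
theorem typI_b {q u k d : ℕ} (hq3 : 3 ≤ q) (hq2 : q % 2 = 1) (hu : 2 ≤ u) (hqu : Nat.Coprime q u)
    {s a' b' c c' H2 : ℤ} (hc : IsCoprime (q : ℤ) c) (hS : SRel u k d s a' b' c') (hb0 : b' ≠ 0)
    (h : b' * c = q * H2 * c') :
    k = 0 ∧ (s = 1 ∨ s = -1) ∧ (d : ℤ) * |c'| = u + s ∧ a' = u ∧ b' = u + s ∧ (q : ℤ) ∣ d ∧
      (d : ℤ) * |c| = q * |H2| := by
  have hqi : IsCoprime (q : ℤ) (u : ℤ) := Nat.isCoprime_iff_coprime.2 hqu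
  have hqb : (q : ℤ) ∣ b' := by
    have h1 : (q : ℤ) ∣ b' * c := ⟨H2 * c', by rw [h]; ring⟩
    exact hc.dvd_of_dvd_mul_right h1
  have hq1 : ¬ (q : ℤ) ∣ 1 := by
    intro h1
    have := Int.le_of_dvd (by norm_num) h1
    omega
  have hqnu : ¬ (q : ℤ) ∣ u := by
    intro h1
    have := hqi.isUnit_of_dvd' (dvd_refl _) h1
    exact hq1 this.dvd
  have habs : |b'| * |c| = q * |H2| * |c'| := by
    rw [← abs_mul, h, abs_mul, abs_mul, Nat.abs_cast]
  have hcd : ∀ d : ℕ, (q : ℤ) ∣ d * |c| → (q : ℤ) ∣ d := by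
    intro d hd
    have h1 : IsCoprime (q : ℤ) |c| := by
      rcases abs_choice c with h2 | h2 <;> rw [h2]
      · exact hc
      · exact hc.neg_right
    exact h1.dvd_of_dvd_mul_right hd
  cases hS with
  | A1 _ hs _ _ hd => exact absurd hqb hqnu
  | A2 _ hs _ _ hd =>
    have hpos : 0 < (u : ℤ) + s := by rcases hs with rfl | rfl <;> omega
    rw [abs_of_pos hpos] at habs
    have h1 : (d : ℤ) * |c| = q * |H2| := by
      apply mul_right_cancel₀ (b := |c'|)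
      · intro h0
        rw [h0, mul_zero] at hd
        omega
      · rw [← habs, ← hd]
        ring
    exact ⟨rfl, hs, hd, rfl, rfl, hcd d ⟨_, h1⟩, h1⟩
  | C _ he => exact absurd hqb hq1
  | D1 _ hs _ hd4 _ hd => exact absurd hqb hqnu
  | D2 _ hs _ hd4 _ hd =>
    exfalso
    have hpos : 0 < (u : ℤ) + s := by rcases hs with rfl | rfl <;> omega
    rw [abs_of_pos hpos] at habs
    have h1 : (d : ℤ) * |c| = q * (|H2| * (u + s)) := by
      apply mul_right_cancel₀ (b := |c'|)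
      · intro h0
        rw [h0, mul_zero] at hd
        exact hpos.ne' ((pow_eq_zero_iff (two_ne_zero)).1 hd.symm)
      · have h2 : (d : ℤ) * |c| * |c'| = |c| * (u + s) ^ 2 := by rw [← hd]; ring
        rw [h2]
        linear_combination ((u : ℤ) + s) * habs
    exact not_dvd_four hq3 hq2 hd4 (hcd d ⟨_, h1⟩)
  | E1 _ hs _ hd4 _ hd =>
    exfalso
    have hpos : 0 ≤ (u : ℤ) - s := by rcases hs with rfl | rfl <;> omega
    have hpos2 : 0 < (u : ℤ) - s := lt_of_le_of_ne hpos (Ne.symm hb0)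
    rw [abs_of_pos hpos2] at habs
    have h1 : (d : ℤ) * |c| = q * (|H2| * (2 * (u + s))) := by
      apply mul_right_cancel₀ (b := (u : ℤ) - s) hpos2.ne'
      linear_combination (d : ℤ) * habs + (q : ℤ) * |H2| * hd
    exact not_dvd_four hq3 hq2 hd4 (hcd d ⟨_, h1⟩)

theorem typI_a {q u k d : ℕ} (hq3 : 3 ≤ q) (hq2 : q % 2 = 1) (hu : 2 ≤ u) (hqu : Nat.Coprime q u)
    {s a' b' c c' H1 : ℤ} (hc : IsCoprime (q : ℤ) c) (hS : SRel u k d s a' b' c') (ha0 : a' ≠ 0)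
    (h : a' * c = q * H1 * c') :
    k = 0 ∧ (s = 1 ∨ s = -1) ∧ (d : ℤ) * |c'| = u + s ∧ b' = u ∧ a' = u + s ∧ (q : ℤ) ∣ d ∧
      (d : ℤ) * |c| = q * |H1| := by
  obtain ⟨s', hs', h1⟩ := hS.symm
  have h2 := typI_b (H2 := -H1) hq3 hq2 hu hqu hc h1 ha0 (by rw [h]; ring)
  obtain ⟨h3, h4⟩ := h2
  have h5 := hs' (by omega)
  rw [h5] at h4
  rw [abs_neg, abs_neg] at h4
  exact ⟨h3, h4⟩

/-- **Type II.** -/
theorem typII {u k d : ℕ} (hu : 2 ≤ u) {s a' b' c c' H1 H2 : ℤ} (hc : |c| = 1) (hH1 : 0 < H1) (hH2 : 0 < H2)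
    (huH : H1 ≠ u) (hS : SRel u k d s a' b' c') (ha : a' * c = H1 * c') (hb : b' * c = H2 * c') :
    (k = 1 ∧ H1 = 1 ∧ H2 = 1 ∧ |c'| = 1) ∨
    (k = 0 ∧ (s = 1 ∨ s = -1) ∧ (d : ℤ) = u + s ∧ a' = u + s ∧ b' = u ∧ H1 = u + s ∧ H2 = u ∧ |c'| = 1) ∨
    (k = 2 ∧ s = -1 ∧ (u = 2 ∨ u = 3) ∧ a' = u + s ∧ b' = u ∧ H1 = u - 1 ∧ H2 = u) := by
  have ha' : |a'| = H1 * |c'| := by
    have := congrArg abs ha
    rw [abs_mul, hc, mul_one, abs_mul, abs_of_pos hH1] at this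
    exact this
  have hb' : |b'| = H2 * |c'| := by
    have := congrArg abs hb
    rw [abs_mul, hc, mul_one, abs_mul, abs_of_pos hH2] at this
    exact this
  have key : ∀ s : ℤ, (s = 1 ∨ s = -1) → (∃ x : ℤ, (u : ℤ) + s = x * |c'|) → (∃ x : ℤ, (u : ℤ) = x * |c'|) → |c'| = 1 := by
    rintro s hs ⟨x, hx⟩ ⟨y, hy⟩
    have h1 : |c'| ∣ 1 := by
      have h2 : |c'| ∣ s := ⟨x - y, by linear_combination hx - hy⟩
      rcases hs with rfl | rfl
      · exact h2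
      · exact (dvd_neg).1 h2
    exact Int.eq_one_of_dvd_one (abs_nonneg _) h1
  cases hS with
  | A1 _ hs _ _ hd =>
    right; left
    have hpos : 0 < (u : ℤ) + s := by rcases hs with rfl | rfl <;> omega
    rw [abs_of_pos hpos] at ha'
    rw [Nat.abs_cast] at hb'
    have h1 := key s hs ⟨H1, ha'⟩ ⟨H2, hb'⟩
    rw [h1, mul_one] at ha' hb' hd
    exact ⟨rfl, hs, hd, rfl, rfl, ha'.symm, hb'.symm, h1⟩
  | A2 _ hs _ _ hd =>
    exfalso
    have hpos : 0 < (u : ℤ) + s := by rcases hs with rfl | rfl <;> omega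
    rw [abs_of_pos hpos] at hb'
    rw [Nat.abs_cast] at ha'
    have h1 := key s hs ⟨H2, hb'⟩ ⟨H1, ha'⟩
    rw [h1, mul_one] at ha'
    exact huH ha'.symm
  | C _ he =>
    left
    rw [abs_one] at ha' hb'
    have h1 : H1 = 1 ∧ |c'| = 1 := by
      have h2 : 0 ≤ |c'| := abs_nonneg _
      rcases Int.eq_one_or_neg_one_of_mul_eq_one' ha'.symm with h3 | h3 <;> omega
    refine ⟨rfl, h1.1, ?_, h1.2⟩
    rw [h1.2, mul_one] at hb'
    exact hb'.symm
  | D1 _ hs _ hd4 _ hd =>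
    right; right
    have hpos : 0 < (u : ℤ) + s := by rcases hs with rfl | rfl <;> omega
    rw [abs_of_pos hpos] at ha'
    rw [Nat.abs_cast] at hb'
    have h1 := key s hs ⟨H1, ha'⟩ ⟨H2, hb'⟩
    rw [h1, mul_one] at ha' hb' hd
    have h2 : d ≤ 4 := Nat.le_of_dvd (by norm_num) hd4
    rcases hs with rfl | rfl
    · exfalso
      nlinarith
    · have h3 : (u : ℤ) ≤ 3 := by nlinarith
      refine ⟨rfl, rfl, by omega, rfl, rfl, by omega, hb'.symm⟩
  | D2 _ hs _ hd4 _ hd =>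
    exfalso
    have hpos : 0 < (u : ℤ) + s := by rcases hs with rfl | rfl <;> omega
    rw [abs_of_pos hpos] at hb'
    rw [Nat.abs_cast] at ha'
    have h1 := key s hs ⟨H2, hb'⟩ ⟨H1, ha'⟩
    rw [h1, mul_one] at ha'
    exact huH ha'.symm
  | E1 _ hs _ hd4 _ hd =>
    exfalso
    have hpos : 0 < (u : ℤ) + s := by rcases hs with rfl | rfl <;> omega
    have hpos' : 0 < (u : ℤ) - s := by rcases hs with rfl | rfl <;> omega
    rw [abs_of_pos hpos] at ha'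
    rw [abs_of_pos hpos'] at hb'
    have hc0 : 0 < |c'| := by
      rcases (abs_nonneg c').lt_or_eq with h1 | h1
      · exact h1
      · rw [← h1, mul_zero] at ha'
        omega
    have h2 : (d : ℤ) ≤ 4 := by exact_mod_cast Nat.le_of_dvd (by norm_num) hd4
    have h3 : (d : ℤ) = 2 * ((u + s) * H2) := by
      apply mul_right_cancel₀ hc0.ne'
      rw [hd, hb']
      ring
    have h4 : (d : ℤ) = 2 * (H1 * (u - s)) := by
      apply mul_right_cancel₀ hc0.ne'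
      rw [hd, ha']
      ring
    rcases hs with rfl | rfl
    · nlinarith
    · nlinarith

end Cfsg.Agent.R2.Spec.E
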