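import Cfsg.Agent.R2.Spec.E.Stm
import Cfsg.Agent.R2.Spec.F1.SSide
import Cfsg.Agent.R2.Spec.F1.IrrFew

/-!
# The engine (helper29): the cofactor if the second class is not isolated
-/

set_option autoImplicit false
set_option linter.unusedSectionVars false

namespace Cfsg.Agent.R2.Spec.E

open Cfsg Cfsg.Agent.H426.LieFam Cfsg.Agent.R2.Spec Cfsg.Agent.R2.Spec.P1 Cfsg.Agent.R2.Spec.F1
open Cfsg.Agent.H72

variable {t : Fam} {p f i j : ℕ} {t' : Fam} {v f' i' j' w H : ℕ} {S : Type} [Group S] [Finite S]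

theorem top_of_nap {t : Fam} (ht : Classical t) {i : ℕ} (h3 : 3 ≤ i) (hm : mem t i) (h : nap t i) : top t i := by
  cases t with
  | psl n => exact ⟨h3, by have h1 : n < i + 2 := h; have h2 : i ≤ n := hm; omega⟩
  | psu n => exact ⟨h3, by have h1 : n < i + 2 := h; have h2 : i ≤ n := hm; omega⟩
  | psp n =>
    have h1 : n < eta i + 1 := h
    have h2 : eta i ≤ n := hm
    rcases eta_cases i with ⟨h5, h6⟩ | ⟨h5, h6⟩
    · rw [Nat.odd_iff] at h5; exact Or.inr (by omega)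
    · rw [Nat.even_iff] at h5; exact Or.inl (by omega)
  | oodd n =>
    have h1 : n < eta i + 1 := h
    have h2 : eta i ≤ n := hm
    rcases eta_cases i with ⟨h5, h6⟩ | ⟨h5, h6⟩
    · rw [Nat.odd_iff] at h5; exact Or.inr (by omega)
    · rw [Nat.even_iff] at h5; exact Or.inl (by omega)
  | oplus n =>
    have h1 : n < eta i + 2 := h
    have h2 : eta i + 1 ≤ n ∨ (i = n ∧ n % 2 = 1) := hm
    change (i = n ∧ n % 2 = 1) ∨ i = 2 * (n - 1) ∨ (i = n - 1 ∧ n % 2 = 0)
    rcases eta_cases i with ⟨h5, h6⟩ | ⟨h5, h6⟩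
    · rw [Nat.odd_iff] at h5; omega
    · rw [Nat.even_iff] at h5; omega
  | ominus n =>
    have h1 : n < eta i + 2 := h
    have h2 : eta i + 1 ≤ n ∨ i = 2 * n := hm
    change i = 2 * n ∨ i = 2 * (n - 1) ∨ (i = n - 1 ∧ n % 2 = 0)
    rcases eta_cases i with ⟨h5, h6⟩ | ⟨h5, h6⟩
    · rw [Nat.odd_iff] at h5; omega
    · rw [Nat.even_iff] at h5; omega
  | _ => exact ht.elim

theorem top_of_an {t : Fam} (ht : Classical t) {i : ℕ} (h3 : 3 ≤ i) (h : An t i) : top t i := by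
  cases t with
  | psl n => exact ⟨h3, Or.inl h⟩
  | psu n => exact ⟨h3, h.2⟩
  | psp n => exact Or.inl h
  | oodd n => exact Or.inl h
  | oplus n => exact Or.inr (Or.inl (by have h1 : i + 2 = 2 * n := h; omega))
  | ominus n => exact Or.inl h
  | _ => exact ht.elim

theorem Duel.u_two (h : Duel t p f i j t' v f' i' j' w H S) : 2 ≤ v ^ f' :=
  h.v_prime.two_le.trans (Nat.le_self_pow (by have := h.f'_pos; omega) v)

theorem Duel.cla' (h : Duel t p f i j t' v f' i' j' w H S) : Classical t' := h.big.1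

theorem Duel.ndu (h : Duel t p f i j t' v f' i' j' w H S) {z : ℕ} (hz : z.Prime) (hzv : z ≠ v) : ¬ z ∣ v ^ f' :=
  fun hd => hzv ((Nat.prime_dvd_prime_iff_eq hz h.v_prime).1 (hz.dvd_of_dvd_pow hd))

theorem rk_lin_of {t' : Fam} {v f' : ℕ} (hb : BigS t') {S : Type} [Group S] (hi : Fam.Is v f' S t') :
    3 ≤ rk t' := by
  obtain ⟨hc, h1, h2, h3, h4⟩ := hb
  cases t' with
  | psl n =>
    have hn : 2 ≤ n := hi.1
    have e1 : n ≠ 2 := fun e => h1 (by rw [e])
    change 3 ≤ n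
    omega
  | psu n => exact hi.1
  | psp n =>
    have hn : 2 ≤ n := hi.1
    have e2 : n ≠ 2 := fun e => h4 (by rw [e])
    change 3 ≤ n
    omega
  | oodd n => exact hi.1
  | oplus n => have hn : 4 ≤ n := hi.1; change 3 ≤ n; omega
  | ominus n => have hn : 4 ≤ n := hi.1; change 3 ≤ n; omega
  | _ => exact hc.elim

/-- the primes of the classes `1`, `2` of `S` are adjacent to `w` -/
theorem Duel.adj_irr (h : Duel t p f i j t' v f' i' j' w H S) (hj : ¬ top t' j') {z : ℕ} (hz : z.Prime)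
    (hzv : z ≠ v) (hz3 : cls t' (v ^ f') z ≤ 2) (hz2 : z ≠ 2 ∨ ∃ n, t' = .psl n ∨ t' = .psu n) :
    ∃ g : S, orderOf g = z * w := by
  have hc := h.cla'
  have hq : 1 ≤ v ^ f' := by have := h.u_two; omega
  have hj3 := h.j'3
  have hnap : ¬ nap t' j' := fun hn => hj (top_of_nap hc hj3 h.memj' hn)
  have hzw : z ≠ w := by
    rintro rfl
    have := h.clsw'
    omega
  refine adj_wS hc h.is hz h.w_prime hzw ?_
  rw [wS_reg hc hq h.w_prime (by rw [h.clsw']; exact hj3), h.clsw']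
  by_cases hL : ∃ n, t' = .psl n ∨ t' = .psu n
  · have h1 := wS_le_two hc hz3
    obtain ⟨n, rfl | rfl⟩ := hL
    · have h2 : ¬ n < j' + 2 := hnap
      change _ + j' + 0 ≤ n
      omega
    · have h2 : ¬ n < j' + 2 := hnap
      change _ + j' + 0 ≤ n
      omega
  · have hz2' : z ≠ 2 := hz2.resolve_right hL
    push Not at hL
    have h1 := wS_le_one hc (fun n => (hL n).1) (fun n => (hL n).2) hz2' (h.ndu hz hzv) hz3
    cases t' with
    | psl n => exact absurd rfl (hL n).1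
    | psu n => exact absurd rfl (hL n).2
    | psp n =>
      have h2 : ¬ n < eta j' + 1 := hnap
      change _ + eta j' + 0 ≤ n
      omega
    | oodd n =>
      have h2 : ¬ n < eta j' + 1 := hnap
      change _ + eta j' + 0 ≤ n
      omega
    | oplus n =>
      have h2 : ¬ n < eta j' + 2 := hnap
      change _ + eta j' + 1 ≤ n
      omega
    | ominus n =>
      have h2 : ¬ n < eta j' + 2 := hnap
      change _ + eta j' + 1 ≤ n
      omega
    | _ => exact hc.elim

theorem Duel.w_ne_v (h : Duel t p f i j t' v f' i' j' w H S) : w ≠ v := by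
  rintro rfl
  have h1 := (cls_facts (t := t') (q := w ^ f') h.w_prime (by rw [h.clsw']; exact h.j'3)).2.1
  exact h1 (dvd_pow_self w (by have := h.f'_pos; omega))

theorem Duel.adj_v (h : Duel t p f i j t' v f' i' j' w H S) (hj : ¬ top t' j') : ∃ g : S, orderOf g = w * v := by
  have hc := h.cla'
  have hwv : ¬ w ∣ v := fun hd => h.w_ne_v ((Nat.prime_dvd_prime_iff_eq h.w_prime h.v_prime).1 hd)
  have h1 := (adjFacts hc h.v_prime h.is).adjp w h.w_prime (by have := h.w5; omega) hwv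
    (by rw [h.clsw']; exact h.j'3) (by rw [h.clsw']; exact h.memj')
  rw [h.clsw'] at h1
  exact h1.2 fun hn => hj (top_of_nap hc h.j'3 h.memj' hn)

/-- **The irregular primes of `S` divide the second number, not the first.** -/
theorem Duel.dvd_N (h : Duel t p f i j t' v f' i' j' w H S) (hj : ¬ top t' j') {z : ℕ} (hz : z.Prime)
    (hz3 : z = v ∨ cls t' (v ^ f') z ≤ 2) (hz2 : z = v ∨ z ≠ 2 ∨ ∃ n, t' = .psl n ∨ t' = .psu n) :
    z ∣ ttor t (p ^ f) j := by
  by_cases hzv : z = v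
  · obtain ⟨g, hg⟩ := h.adj_v hj
    rw [hzv]
    exact (Dvd.intro_left w hg.symm).trans (h.ordw g (Dvd.intro _ hg.symm))
  · obtain ⟨g, hg⟩ := h.adj_irr hj hz hzv (hz3.resolve_left hzv) (hz2.resolve_left hzv)
    exact (Dvd.intro _ hg.symm).trans (h.ordw g (Dvd.intro_left z hg.symm))

theorem Duel.H_dvd_M (h : Duel t p f i j t' v f' i' j' w H S) : H ∣ ttor t (p ^ f) i := Dvd.intro _ h.eqM.symm

theorem Duel.not_dvd_H (h : Duel t p f i j t' v f' i' j' w H S) (hj : ¬ top t' j') {z : ℕ} (hz : z.Prime)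
    (hz3 : z = v ∨ cls t' (v ^ f') z ≤ 2) (hz2 : z = v ∨ z ≠ 2 ∨ ∃ n, t' = .psl n ∨ t' = .psu n) : ¬ z ∣ H := by
  intro hd
  have h1 := Nat.dvd_gcd (hd.trans h.H_dvd_M) (h.dvd_N hj hz hz3 hz2)
  rw [h.copMN] at h1
  exact hz.one_lt.ne' (Nat.dvd_one.1 h1)

/-- the classes of the primes dividing `u ± 1` -/
theorem cls_le_two_of {t' : Fam} {u z : ℕ} (hz : z ∣ u - 1 ∨ z ∣ u + 1) (hu : 1 ≤ u) : cls t' u z ≤ 2 := by
  have h1 : ((sg t' u : ℤ) : ZMod z) ^ 2 = 1 := by
    have h2 : ((sg t' u : ℤ) : ZMod z) ^ 2 = (u : ZMod z) ^ 2 := by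
      cases t' <;> simp [sg]
    have h3 : (u : ZMod z) = 1 ∨ (u : ZMod z) = -1 := by
      rcases hz with hz | hz
      · left
        have h4 := (ZMod.natCast_eq_zero_iff (u - 1) z).2 hz
        rw [Nat.cast_sub hu, Nat.cast_one, sub_eq_zero] at h4
        exact h4
      · right
        have h4 := (ZMod.natCast_eq_zero_iff (u + 1) z).2 hz
        rw [Nat.cast_add, Nat.cast_one] at h4
        exact eq_neg_of_add_eq_zero_left h4
    rw [h2]
    rcases h3 with h3 | h3 <;> rw [h3] <;> ring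
  exact Nat.le_of_dvd (by norm_num) (orderOf_dvd_of_pow_eq_one h1)

/-- **The cofactor is small.** -/
theorem Duel.H_dvd (h : Duel t p f i j t' v f' i' j' w H S) (hj : ¬ top t' j') :
    H ∣ 8 * f' ∧ ((∃ n, t' = .psl n ∨ t' = .psu n) → H ∣ f') := by
  obtain ⟨h0, κ, hH, hd, hκ1, -, hκ, -⟩ := h.cof
  have hκ0 : κ = 1 := by
    by_contra hne
    exact hj (top_of_an h.cla' h.j'3 (hκ hne).1)
  rw [hκ0, mul_one] at hH
  have hHo := hH.trans hd
  have hc := h.cla'
  have hu := h.u_two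
  have hlin : (∃ n, t' = .psl n ∨ t' = .psu n) → ¬ 2 ∣ H := by
    intro hL
    refine h.not_dvd_H hj Nat.prime_two ?_ (Or.inr (Or.inr hL))
    by_cases h2 : (2 : ℕ) = v
    · exact Or.inl h2
    · right
      have hodd : v ^ f' % 2 = 1 := by
        rcases Nat.mod_two_eq_zero_or_one (v ^ f') with h3 | h3
        · exfalso
          exact h.ndu Nat.prime_two h2 (Nat.dvd_of_mod_eq_zero h3)
        · exact h3
      exact cls_le_two_of (Or.inl (by omega)) (by omega)
  have hthree : ¬ 3 ∣ H := by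
    refine h.not_dvd_H hj Nat.prime_three ?_ (Or.inr (Or.inl (by norm_num)))
    by_cases h3 : (3 : ℕ) = v
    · exact Or.inl h3
    · right
      have h4 := h.ndu Nat.prime_three h3
      have h5 : (v ^ f') % 3 = 1 ∨ (v ^ f') % 3 = 2 := by omega
      refine cls_le_two_of ?_ (by omega)
      omega
  have cop : ∀ d : ℕ, (∀ z : ℕ, z.Prime → z ∣ d → ¬ z ∣ H) → ∀ k : ℕ, H ∣ d * k → H ∣ k := by
    intro d hd k hk
    exact (Nat.Coprime.dvd_of_dvd_mul_left (Nat.Coprime.symm (Nat.coprime_of_dvd hd)) hk)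
  cases t' with
  | psl m =>
    have h2 := hlin ⟨m, Or.inl rfl⟩
    have key : H ∣ f' := by
      refine cop (2 * Nat.gcd m (v ^ f' - 1)) ?_ f' hHo
      intro z hz hzd hzH
      rcases hz.dvd_mul.1 hzd with h3 | h3
      · rw [(Nat.prime_dvd_prime_iff_eq hz Nat.prime_two).1 h3] at hzH
        exact h2 hzH
      · exact h.not_dvd_H hj hz (Or.inr (cls_le_two_of (Or.inl (h3.trans (Nat.gcd_dvd_right _ _))) (by omega)))
          (Or.inr (Or.inr ⟨m, Or.inl rfl⟩)) hzH
    exact ⟨key.trans (Dvd.intro_left 8 rfl), fun _ => key⟩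
  | psu m =>
    have h2 := hlin ⟨m, Or.inr rfl⟩
    have key : H ∣ f' := by
      refine cop (2 * Nat.gcd m (v ^ f' + 1)) ?_ f' hHo
      intro z hz hzd hzH
      rcases hz.dvd_mul.1 hzd with h3 | h3
      · rw [(Nat.prime_dvd_prime_iff_eq hz Nat.prime_two).1 h3] at hzH
        exact h2 hzH
      · exact h.not_dvd_H hj hz (Or.inr (cls_le_two_of (Or.inr (h3.trans (Nat.gcd_dvd_right _ _))) (by omega)))
          (Or.inr (Or.inr ⟨m, Or.inr rfl⟩)) hzH
    exact ⟨key.trans (Dvd.intro_left 8 rfl), fun _ => key⟩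
  | psp m =>
    refine ⟨hHo.trans ⟨4, ?_⟩, ?_⟩
    · change 8 * f' = 2 * f' * 4
      ring
    · rintro ⟨k, hk | hk⟩ <;> cases hk
  | oodd m =>
    refine ⟨hHo.trans ⟨4, ?_⟩, ?_⟩
    · change 8 * f' = 2 * f' * 4
      ring
    · rintro ⟨k, hk | hk⟩ <;> cases hk
  | oplus m =>
    refine ⟨?_, ?_⟩
    · have h3 : outB (.oplus m) v f' ∣ 3 * (8 * f') := by
        change (if m = 4 then 24 * f' else 8 * f') ∣ _
        split_ifs
        · exact ⟨1, by ring⟩
        · exact ⟨3, by ring⟩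
      refine cop 3 ?_ _ (hHo.trans h3)
      intro z hz hz3 hzH
      rw [(Nat.prime_dvd_prime_iff_eq hz Nat.prime_three).1 hz3] at hzH
      exact hthree hzH
    · rintro ⟨k, hk | hk⟩ <;> cases hk
  | ominus m =>
    refine ⟨hHo, ?_⟩
    rintro ⟨k, hk | hk⟩ <;> cases hk
  | _ => exact hc.elim

end Cfsg.Agent.R2.Spec.E
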