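import Cfsg.Agent.R2.Spec.E.HOdd

/-!
# The engine (helper29): both classes isolated in `S`, algebraic part
-/

set_option autoImplicit false
set_option linter.unusedSectionVars false

namespace Cfsg.Agent.R2.Spec.E

open Cfsg Cfsg.Agent.H426.LieFam Cfsg.Agent.R2.Spec Cfsg.Agent.R2.Spec.P1 Cfsg.Agent.R2.Spec.F1

/-- the detailed relation of the numbers of `L` -/
def LK (t : Fam) (q i j : ℕ) (a b c : ℤ) : Prop :=
  (∃ (n : ℕ) (s : ℤ), (t = .psl n ∨ t = .psu n) ∧ (q : ℤ) + s = usg t q ∧ |c| * dgL t q = q + s ∧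
      ((i = n ∧ j + 1 = n ∧ a = q + s ∧ b = q) ∨ (i + 1 = n ∧ j = n ∧ a = q ∧ b = q + s))) ∨
    (∃ (n d : ℕ) (s τ X : ℤ), ((t = .oplus n ∧ n % 2 = 1 ∧ s = 1 ∧ τ = -1) ∨ (t = .ominus n ∧ s = -1 ∧ τ = 1)) ∧
      X * d = (q : ℤ) ^ n + τ ∧ |c| * d = (q + s) ^ 2 ∧
      ((X = ttor t q i ∧ a = q + s ∧ b = q) ∨ (X = ttor t q j ∧ a = q ∧ b = q + s))) ∨
    (FamII t ∧ a = 1 ∧ b = 1 ∧ |c| = 1)

theorem lk {t : Fam} {p f i j : ℕ} (hp : p.Prime) (hp2 : p ≠ 2) (hf : 1 ≤ f) (hr : 4 ≤ rk t) (h : PairOK t i j) :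
    ∃ a b c : ℤ, LNum (p ^ f) (dimL t) (dgL t (p ^ f)) (ttor t (p ^ f) i) (ttor t (p ^ f) j) a b c ∧
      LK t (p ^ f) i j a b c := by
  obtain ⟨hq3, hq2⟩ := f_q hp hp2 hf
  obtain ⟨q, hq⟩ : ∃ q, q = p ^ f := ⟨_, rfl⟩
  rw [← hq] at hq3 hq2 ⊢
  have hq1 : ((q - 1 : ℕ) : ℤ) = (q : ℤ) + -1 := by push_cast [Nat.cast_sub (show 1 ≤ q by omega)]; ring
  cases t with
  | psl n =>
    change 4 ≤ n at hr
    obtain ⟨e, he, h1⟩ := lnum_psl (n := n) (q := q) (by omega) hq3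
    have he' : |(e : ℤ)| * (Nat.gcd n (q - 1) : ℕ) = (q : ℤ) + -1 := by
      rw [Nat.abs_cast, ← hq1]
      exact_mod_cast he
    rcases h with ⟨rfl, h2⟩ | ⟨h2, rfl⟩
    · obtain rfl : j = i - 1 := by omega
      exact ⟨_, _, _, h1, Or.inl ⟨i, -1, Or.inl rfl, hq1.symm, he', Or.inl ⟨rfl, by omega, by ring, rfl⟩⟩⟩
    · obtain rfl : i = j - 1 := by omega
      exact ⟨_, _, _, h1.symm, Or.inl ⟨j, -1, Or.inl rfl, hq1.symm, by rw [abs_neg]; exact he',
        Or.inr ⟨by omega, rfl, rfl, by ring⟩⟩⟩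
  | psu n =>
    change 4 ≤ n at hr
    obtain ⟨e, he, h1⟩ := lnum_psu (n := n) (q := q) (by omega) hq3
    have he' : |(if n % 2 = 0 then -(e : ℤ) else e)| * (Nat.gcd n (q + 1) : ℕ) = (q : ℤ) + 1 := by
      have h2 : |(if n % 2 = 0 then -(e : ℤ) else e)| = e := by
        split_ifs
        · rw [abs_neg, Nat.abs_cast]
        · rw [Nat.abs_cast]
      rw [h2]
      exact_mod_cast he
    have hu1 : (q : ℤ) + 1 = (usg (.psu n) q : ℕ) := by
      change (q : ℤ) + 1 = ((q + 1 : ℕ) : ℤ)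
      push_cast
      ring
    rcases h with ⟨rfl, h2⟩ | ⟨h2, rfl⟩
    · obtain rfl : j = i - 1 := by omega
      exact ⟨_, _, _, h1, Or.inl ⟨i, 1, Or.inr rfl, hu1, he', Or.inl ⟨rfl, by omega, rfl, rfl⟩⟩⟩
    · obtain rfl : i = j - 1 := by omega
      exact ⟨_, _, _, h1.symm, Or.inl ⟨j, 1, Or.inr rfl, hu1, by rw [abs_neg]; exact he',
        Or.inr ⟨by omega, rfl, rfl, rfl⟩⟩⟩
  | psp n =>
    change 4 ≤ n at hr
    have h1 := lnum_psp (n := n) (q := q) (by omega) hq3 hq2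
    obtain ⟨h0, ⟨rfl, rfl⟩ | ⟨rfl, rfl⟩⟩ := h
    · exact ⟨_, _, _, h1.symm, Or.inr (Or.inr ⟨h0, rfl, rfl, by norm_num⟩)⟩
    · exact ⟨_, _, _, h1, Or.inr (Or.inr ⟨h0, rfl, rfl, by norm_num⟩)⟩
  | oodd n =>
    change 4 ≤ n at hr
    have h1 := lnum_psp (n := n) (q := q) (by omega) hq3 hq2
    obtain ⟨h0, ⟨rfl, rfl⟩ | ⟨rfl, rfl⟩⟩ := h
    · exact ⟨_, _, _, h1.symm, Or.inr (Or.inr ⟨h0, rfl, rfl, by norm_num⟩)⟩
    · exact ⟨_, _, _, h1, Or.inr (Or.inr ⟨h0, rfl, rfl, by norm_num⟩)⟩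
  | oplus n =>
    change 4 ≤ n at hr
    rcases h with ⟨h0, h2⟩ | ⟨h0, h2⟩
    · obtain ⟨e, he, h1⟩ := lnum_oplus_odd (n := n) (q := q) (by omega) h0 hq3
      have hd : dimL (.oplus n) = n := by rw [dimL, if_neg (by omega)]
      rw [hd]
      have he' : |(-(e : ℤ))| * (Nat.gcd 4 (q ^ n - 1) : ℕ) = ((q : ℤ) + 1) ^ 2 := by
        rw [abs_neg, Nat.abs_cast]
        exact_mod_cast he
      have hX : ((ttor (.oplus n) q n : ℕ) : ℤ) * (Nat.gcd 4 (q ^ n - 1) : ℕ) = (q : ℤ) ^ n + -1 := by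
        rw [← sub_eq_add_neg, ← cast_pow_sub (by omega)]
        exact_mod_cast (val_oplus_odd (n := n) (q := q) (by omega) h0 (by omega)).1
      rcases h2 with ⟨rfl, rfl⟩ | ⟨rfl, rfl⟩
      · exact ⟨_, _, _, h1, Or.inr (Or.inl ⟨i, _, 1, -1, _, Or.inl ⟨rfl, h0, rfl, rfl⟩, hX, he',
          Or.inl ⟨rfl, rfl, rfl⟩⟩)⟩
      · exact ⟨_, _, _, h1.symm, Or.inr (Or.inl ⟨j, _, 1, -1, _, Or.inl ⟨rfl, h0, rfl, rfl⟩, hX,
          by rw [abs_neg]; exact he', Or.inr ⟨rfl, rfl, rfl⟩⟩)⟩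
    · have h1 := lnum_oplus_even (n := n) (q := q) hr h0 hq3 hq2
      have hd : dimL (.oplus n) = n - 1 := by rw [dimL, if_pos h0]
      rw [hd]
      rcases h2 with ⟨rfl, rfl⟩ | ⟨rfl, rfl⟩
      · exact ⟨_, _, _, h1.symm, Or.inr (Or.inr ⟨h0, rfl, rfl, by norm_num⟩)⟩
      · exact ⟨_, _, _, h1, Or.inr (Or.inr ⟨h0, rfl, rfl, by norm_num⟩)⟩
  | ominus n =>
    change 4 ≤ n at hr
    obtain ⟨e, he, h1⟩ := lnum_ominus (n := n) (q := q) (by omega) hq3
    have he' : |(-(e : ℤ))| * (Nat.gcd 4 (q ^ n + 1) : ℕ) = ((q : ℤ) + -1) ^ 2 := by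
      rw [abs_neg, Nat.abs_cast, ← hq1]
      exact_mod_cast he
    have hX : ((ttor (.ominus n) q (2 * n) : ℕ) : ℤ) * (Nat.gcd 4 (q ^ n + 1) : ℕ) = (q : ℤ) ^ n + 1 := by
      exact_mod_cast (val_ominus (n := n) (q := q) (by omega) (by omega)).1
    rcases h with ⟨rfl, rfl⟩ | ⟨rfl, rfl⟩
    · exact ⟨_, _, _, h1, Or.inr (Or.inl ⟨n, _, -1, 1, _, Or.inr ⟨rfl, rfl, rfl⟩, hX, he',
        Or.inl ⟨rfl, by ring, rfl⟩⟩)⟩
    · exact ⟨_, _, _, h1.symm, Or.inr (Or.inl ⟨n, _, -1, 1, _, Or.inr ⟨rfl, rfl, rfl⟩, hX,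
        by rw [abs_neg]; exact he', Or.inr ⟨rfl, rfl, by ring⟩⟩)⟩
  | _ => exact h.elim

/-- the value `|y ^ (m - 1) - 1|` is a multiple of `|y - 1|` -/
theorem usg_dvd {t' : Fam} {m u : ℕ} (ht' : t' = .psl m ∨ t' = .psu m) (hm : 2 ≤ m) (hu : 2 ≤ u) :
    usg t' u ∣ ttor t' u (m - 1) * dgL t' u := by
  rcases ht' with rfl | rfl
  · change u - 1 ∣ ttor (.psl m) u (m - 1) * Nat.gcd m (u - 1)
    rw [(val_psl hm hu).2]
    exact Nat.sub_one_dvd_pow_sub_one u (m - 1)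
  · change u + 1 ∣ ttor (.psu m) u (m - 1) * Nat.gcd m (u + 1)
    rw [(val_psu hm hu).2]
    split_ifs with h
    · have h' : Odd (m - 1) := Nat.odd_iff.2 (by omega)
      simpa using Odd.nat_add_dvd_pow_add_pow u 1 h'
    · obtain ⟨k, hk⟩ : ∃ k, m - 1 = 2 * k := ⟨(m - 1) / 2, by omega⟩
      rw [hk, pow_mul]
      exact (Dvd.intro (u - 1) (by
        have : (u + 1) * (u - 1) = u ^ 2 - 1 := by
          zify [show 1 ≤ u by omega, Nat.one_le_pow 2 u (by omega)]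
          ring
        exact this)).trans (Nat.sub_one_dvd_pow_sub_one (u ^ 2) k)

/-- the diagonal number of `S` is `|y - 1|` -/
theorem full_diag {u d : ℕ} {s x y : ℤ} (hs : s = 1 ∨ s = -1) (hd : (d : ℤ) * y = u + s) (hpos : 0 < (u : ℤ) + s)
    (h : (u : ℤ) * d = x * (u + s)) : (d : ℤ) = u + s ∧ x = u := by
  have hcop : IsCoprime ((u : ℤ) + s) u := by
    rcases hs with rfl | rfl
    · exact ⟨1, -1, by ring⟩
    · exact ⟨-1, 1, by ring⟩
  have h1 : ((u : ℤ) + s) ∣ d := by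
    refine hcop.dvd_of_dvd_mul_left ?_
    exact ⟨x, by rw [h]; ring⟩
  have h2 : (d : ℤ) ∣ u + s := ⟨y, hd.symm⟩
  have h3 : (d : ℤ) = u + s := Int.dvd_antisymm (by positivity) hpos.le h2 h1
  refine ⟨h3, ?_⟩
  rw [h3] at h
  exact (mul_right_cancel₀ hpos.ne' h).symm

theorem int_dvd_four {q : ℤ} {d : ℕ} (h : q ∣ (d : ℤ)) (hd : d ∣ 4) : q ∣ 4 :=
  h.trans (by exact_mod_cast hd)

/-- the case `D` of `L` against linear and unitary `S` -/
theorem da_alg {q u n m dS dL : ℕ} {t' : Fam} (hq3 : 3 ≤ q) (hu : 2 ≤ u) (hm : 2 ≤ m)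
    (ht' : t' = .psl m ∨ t' = .psu m)
    {s s' τ X Hx x c : ℤ} (hs' : s' = 1 ∨ s' = -1) (hus : (u : ℤ) + s' = usg t' u) (hdS : (dS : ℤ) = dgL t' u)
    (h1 : X * dL = (q : ℤ) ^ n + τ) (h2 : |c| * dL = (q + s) ^ 2) (hc0 : 0 < |c|)
    (hX : X = Hx * ttor t' u (m - 1)) (hd : (dS : ℤ) * x = u + s')
    (hE : u * |c| * dS = (q + s) * Hx * (u + s')) (hqd : (q : ℤ) ∣ dS) (hqs : 0 < (q : ℤ) + s)
    (hst : (s = 1 ∧ τ = -1 ∧ n % 2 = 1) ∨ (s = -1 ∧ τ = 1)) :
    s = -1 ∧ q = 3 ∧ 3 ∣ usg t' u ∧ 3 ∣ m ∧ ∃ W : ℕ, W * usg t' u = ttor t' u (m - 1) * dgL t' u ∧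
      3 ^ n + 1 = 2 * u * W := by
  obtain ⟨W, hW⟩ := usg_dvd ht' hm hu
  have hpos : 0 < (u : ℤ) + s' := by rcases hs' with rfl | rfl <;> omega
  -- `u (q + s) dS = dL Hx (u + s')`
  have h3 : u * (q + s) * dS = dL * Hx * (u + s') := by
    apply mul_right_cancel₀ (b := |c| * (q + s)) (mul_pos hc0 hqs).ne'
    linear_combination ((dL : ℤ) * |c|) * hE - (u * |c| * dS : ℤ) * h2 + (u * |c| * dS : ℤ) * h2 -
      (u * |c| * dS : ℤ) * h2 - 0 * hE
  -- `q ^ n + τ = u (q + s) W`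
  have hWz : (W : ℤ) * (u + s') = ttor t' u (m - 1) * dS := by
    rw [hus, hdS]
    exact_mod_cast (by rw [mul_comm]; exact hW.symm)
  have h4 : (q : ℤ) ^ n + τ = u * (q + s) * W := by
    apply mul_right_cancel₀ (b := (u : ℤ) + s') hpos.ne'
    rw [← h1, hX]
    linear_combination -(ttor t' u (m - 1) : ℤ) * h3 - (u * (q + s) : ℤ) * hWz
  have h5 : ((q : ℤ) + s) ∣ (q : ℤ) ^ n + τ := ⟨u * W, by rw [h4]; ring⟩
  have hsm : s = -1 ∧ q = 3 := by
    rcases hst with ⟨rfl, rfl, hn1⟩ | ⟨rfl, rfl⟩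
    · exfalso
      have h6 : ((q : ℤ) + 1) ∣ (q : ℤ) ^ n + 1 := by
        have := Odd.add_dvd_pow_add_pow (q : ℤ) 1 (Nat.odd_iff.2 hn1)
        simpa using this
      have h7 : ((q : ℤ) + 1) ∣ 2 := by
        have := dvd_sub h6 h5
        have e : (q : ℤ) ^ n + 1 - ((q : ℤ) ^ n + -1) = 2 := by ring
        rwa [e] at this
      have := Int.le_of_dvd (by norm_num) h7
      omega
    · refine ⟨rfl, ?_⟩
      have h6 : ((q : ℤ) - 1) ∣ (q : ℤ) ^ n - 1 := by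
        have := sub_dvd_pow_sub_pow (q : ℤ) 1 n
        simpa using this
      have h7 : ((q : ℤ) - 1) ∣ 2 := by
        have := dvd_sub h5 h6
        have e : (q : ℤ) ^ n + 1 - ((q : ℤ) ^ n - 1) = 2 := by ring
        rw [e, ← sub_eq_add_neg] at this
        exact this
      have := Int.le_of_dvd (by norm_num) h7
      omega
  obtain ⟨rfl, rfl⟩ := hsm
  have hτ : τ = 1 := by
    rcases hst with ⟨h6, -⟩ | ⟨-, h6⟩
    · norm_num at h6
    · exact h6
  have h3d : 3 ∣ dgL t' u := by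
    rw [hdS] at hqd
    exact_mod_cast hqd
  have h8 : dgL t' u ∣ m ∧ dgL t' u ∣ usg t' u := by
    rcases ht' with rfl | rfl
    · exact ⟨Nat.gcd_dvd_left _ _, Nat.gcd_dvd_right _ _⟩
    · exact ⟨Nat.gcd_dvd_left _ _, Nat.gcd_dvd_right _ _⟩
  refine ⟨rfl, rfl, h3d.trans h8.2, h3d.trans h8.1, W, by rw [mul_comm]; exact hW.symm, ?_⟩
  rw [hτ] at h4
  have h9 : (3 : ℤ) ^ n + 1 = 2 * u * W := by
    have : ((3 : ℕ) : ℤ) = 3 := rfl
    rw [this] at h4
    linear_combination h4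
  exact_mod_cast h9

/-- **The zero case: the exotic families.** -/
theorem iso_alg {t t' : Fam} {q u i j i' j' D d0 k d H H' : ℕ} {s' a b c a' b' c' : ℤ} (hq3 : 3 ≤ q)
    (hq2 : q % 2 = 1) (hu : 2 ≤ u) (hqu : Nat.Coprime q u) (hm2 : 2 ≤ rk t')
    (hL : LNum q D d0 (ttor t q i) (ttor t q j) a b c) (hk : LK t q i j a b c)
    (hS : SNum t' u i' j' k d s' a' b' c') (hM : ttor t q i = H * ttor t' u i') (hN : ttor t q j = H' * ttor t' u j')
    (hH : 0 < H) (hH' : 0 < H') (hHu : H ≠ u) (ha0 : a' ≠ 0) (hb0 : b' ≠ 0)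
    (hsum : FamII t → ∃ e : ℕ, 1 ≤ e ∧ ttor t q i + ttor t q j = q ^ e)
    (e2 : b' * c = b * H' * c') (e3 : a' * c = a * H * c') :
    Exo t q t' u i j i' j' H H' := by
  have hqi : IsCoprime (q : ℤ) (u : ℤ) := Nat.isCoprime_iff_coprime.2 hqu
  have hHz : (0 : ℤ) < H := by exact_mod_cast hH
  have hHz' : (0 : ℤ) < H' := by exact_mod_cast hH'
  have hcop : TypI q a b c → IsCoprime (q : ℤ) c := by
    rintro ⟨s, hs, -, h1⟩
    have h2 : IsCoprime (q : ℤ) ((q : ℤ) + s) := by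
      rcases hs with rfl | rfl
      · exact ⟨-1, 1, by ring⟩
      · exact ⟨1, -1, by ring⟩
    exact (h2.pow_right (n := 2)).of_isCoprime_of_dvd_right h1
  -- linear types of `S`
  have linS : k = 0 → (s' = 1 ∨ s' = -1) → ∃ m, (t' = .psl m ∨ t' = .psu m) ∧ 2 ≤ m ∧ (u : ℤ) + s' = usg t' u ∧
      (d : ℤ) = dgL t' u ∧ ((i' = m ∧ j' + 1 = m ∧ a' = u + s') ∨ (i' + 1 = m ∧ j' = m ∧ b' = u + s')) := by
    intro hk0 hs
    rcases hS.lin hk0 with ⟨m, rfl, rfl, rfl, h3⟩ | ⟨m, rfl, rfl, rfl, h3⟩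
    · refine ⟨m, Or.inl rfl, hm2, ?_, rfl, h3⟩
      change (u : ℤ) + -1 = ((u - 1 : ℕ) : ℤ)
      push_cast [Nat.cast_sub (show 1 ≤ u by omega)]
      ring
    · refine ⟨m, Or.inr rfl, hm2, ?_, rfl, h3⟩
      change (u : ℤ) + 1 = ((u + 1 : ℕ) : ℤ)
      push_cast
      ring
  have hdm : ∀ m, (t' = .psl m ∨ t' = .psu m) → dgL t' u ∣ m := by
    rintro m (rfl | rfl)
    · exact Nat.gcd_dvd_left _ _
    · exact Nat.gcd_dvd_left _ _
  rcases hk with ⟨n, s, ht, hsg, hc, hab⟩ | ⟨n, dL, s, τ, X, hty, hX, hc, hab⟩ | ⟨hII, rfl, rfl, hc⟩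
  · -- `L` linear or unitary
    have hsgpos : 0 < (q : ℤ) + s := by
      rw [hsg]
      rcases ht with rfl | rfl
      · change 0 < ((q - 1 : ℕ) : ℤ)
        have : 0 < q - 1 := by omega
        exact_mod_cast this
      · change 0 < ((q + 1 : ℕ) : ℤ)
        positivity
    have hc0 : 0 < |c| := by
      rcases (abs_nonneg c).lt_or_eq with h1 | h1
      · exact h1
      · rw [← h1, zero_mul] at hc
        omega
    have hdL0 : (dgL t q : ℤ) ≠ 0 := by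
      intro h1
      rw [h1, mul_zero] at hc
      omega
    have htyp : TypI q a b c := by
      rcases hL.typ with h1 | ⟨h1, h2, -⟩
      · exact h1
      · exfalso
        rcases hab with ⟨-, -, h3, h4⟩ | ⟨-, -, h3, h4⟩
        · omega
        · omega
    have hcc := hcop htyp
    left
    rcases hab with ⟨rfl, hj, rfl, rfl⟩ | ⟨hi, rfl, rfl, rfl⟩
    · obtain ⟨hk0, hs, h1, h2, h3, h4, h5⟩ := typI_b hq3 hq2 hu hqu hcc hS.rel hb0 e2
      obtain ⟨m, ht', hm, hus, hdd, hcl⟩ := linS hk0 hs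
      have hpos : 0 < (u : ℤ) + s' := by rcases hs with rfl | rfl <;> omega
      have h6 : (u : ℤ) * |c| = (q + s) * H * |c'| := by
        have := congrArg abs e3
        rw [h2, abs_mul, abs_mul, abs_mul, Nat.abs_cast, Nat.abs_cast, abs_of_pos hsgpos] at this
        exact this
      have h7 : (u : ℤ) * d = (dgL t q * H : ℤ) * (u + s') := by
        apply mul_right_cancel₀ hc0.ne'
        linear_combination (d : ℤ) * h6 + ((q : ℤ) + s) * H * h1 - (H : ℤ) * (u + s') * hc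
      obtain ⟨h8, h9⟩ := full_diag hs h1 hpos h7
      have h10 : dgL t' u = usg t' u := by
        rw [hdd, hus] at h8
        exact_mod_cast h8
      refine ⟨i, m, ht, ht', ?_, ?_, Or.inl ⟨rfl, hj, ?_⟩⟩
      · rw [hdd, h10] at h4
        exact_mod_cast h4
      · rw [← h10]
        exact hdm m ht'
      · rcases hcl with ⟨-, -, h11⟩ | ⟨h11, h12, -⟩
        · exfalso
          rw [h2] at h11
          rcases hs with rfl | rfl <;> omega
        · exact ⟨h11, h12, by exact_mod_cast h9.symm⟩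
    · obtain ⟨hk0, hs, h1, h2, h3, h4, h5⟩ := typI_a hq3 hq2 hu hqu hcc hS.rel ha0 e3
      obtain ⟨m, ht', hm, hus, hdd, hcl⟩ := linS hk0 hs
      have hpos : 0 < (u : ℤ) + s' := by rcases hs with rfl | rfl <;> omega
      have h6 : (u : ℤ) * |c| = (q + s) * H' * |c'| := by
        have := congrArg abs e2
        rw [h2, abs_mul, abs_mul, abs_mul, Nat.abs_cast, Nat.abs_cast, abs_of_pos hsgpos] at this
        exact this
      have h7 : (u : ℤ) * d = (dgL t q * H' : ℤ) * (u + s') := by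
        apply mul_right_cancel₀ hc0.ne'
        linear_combination (d : ℤ) * h6 + ((q : ℤ) + s) * H' * h1 - (H' : ℤ) * (u + s') * hc
      obtain ⟨h8, h9⟩ := full_diag hs h1 hpos h7
      have h10 : dgL t' u = usg t' u := by
        rw [hdd, hus] at h8
        exact_mod_cast h8
      refine ⟨j, m, ht, ht', ?_, ?_, Or.inr ⟨hi, rfl, ?_⟩⟩
      · rw [hdd, h10] at h4
        exact_mod_cast h4
      · rw [← h10]
        exact hdm m ht'
      · rcases hcl with ⟨h11, h12, -⟩ | ⟨-, -, h11⟩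
        · exact ⟨h11, h12, by exact_mod_cast h9.symm⟩
        · exfalso
          rw [h2] at h11
          rcases hs with rfl | rfl <;> omega
  · -- `L` orthogonal, type I
    have hs1 : s = 1 ∨ s = -1 := by
      rcases hty with ⟨-, -, h1, -⟩ | ⟨-, h1, -⟩
      · exact Or.inl h1
      · exact Or.inr h1
    have hsgpos : 0 < (q : ℤ) + s := by rcases hs1 with rfl | rfl <;> omega
    have hc0 : 0 < |c| := by
      rcases (abs_nonneg c).lt_or_eq with h1 | h1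
      · exact h1
      · rw [← h1, zero_mul] at hc
        exact absurd hc.symm (pow_pos hsgpos 2).ne'
    have hst : (s = 1 ∧ τ = -1 ∧ n % 2 = 1) ∨ (s = -1 ∧ τ = 1) := by
      rcases hty with ⟨-, h1, h2, h3⟩ | ⟨-, h2, h3⟩
      · exact Or.inl ⟨h2, h3, h1⟩
      · exact Or.inr ⟨h2, h3⟩
    have htyp : TypI q a b c := by
      rcases hL.typ with h1 | ⟨h1, h2, -⟩
      · exact h1
      · exfalso
        rcases hab with ⟨-, h3, h4⟩ | ⟨-, h3, h4⟩
        · omega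
        · omega
    have hcc := hcop htyp
    right; left
    rcases hab with ⟨hXi, rfl, rfl⟩ | ⟨hXj, rfl, rfl⟩
    · obtain ⟨hk0, hs, h1, h2, h3, h4, h5⟩ := typI_b hq3 hq2 hu hqu hcc hS.rel hb0 e2
      obtain ⟨m, ht', hm, hus, hdd, hcl⟩ := linS hk0 hs
      have h6 : (u : ℤ) * |c| = (q + s) * H * |c'| := by
        have := congrArg abs e3
        rw [h2, abs_mul, abs_mul, abs_mul, Nat.abs_cast, Nat.abs_cast, abs_of_pos hsgpos] at this
        exact this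
      have him : i' = m - 1 := by
        rcases hcl with ⟨-, -, h11⟩ | ⟨h11, -, -⟩
        · exfalso
          rw [h2] at h11
          rcases hs with rfl | rfl <;> omega
        · omega
      obtain ⟨h7, h8, h9, h10, W, h11, h12⟩ := da_alg (dL := dL) (X := X) (Hx := H) hq3 hu hm ht' hs hus hdd hX hc hc0
        (by rw [hXi, hM, him]; push_cast; ring) h1 (by linear_combination (d : ℤ) * h6 + ((q : ℤ) + s) * H * h1) h4
        hsgpos hst
      refine ⟨n, m, W, ?_, h8, ht', h9, h10, h11, h12⟩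
      rcases hty with ⟨-, -, h13, -⟩ | ⟨h13, -⟩
      · rw [h7] at h13
        norm_num at h13
      · exact h13
    · obtain ⟨hk0, hs, h1, h2, h3, h4, h5⟩ := typI_a hq3 hq2 hu hqu hcc hS.rel ha0 e3
      obtain ⟨m, ht', hm, hus, hdd, hcl⟩ := linS hk0 hs
      have h6 : (u : ℤ) * |c| = (q + s) * H' * |c'| := by
        have := congrArg abs e2
        rw [h2, abs_mul, abs_mul, abs_mul, Nat.abs_cast, Nat.abs_cast, abs_of_pos hsgpos] at this
        exact this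
      have him : j' = m - 1 := by
        rcases hcl with ⟨-, h11, -⟩ | ⟨-, -, h11⟩
        · omega
        · exfalso
          rw [h2] at h11
          rcases hs with rfl | rfl <;> omega
      obtain ⟨h7, h8, h9, h10, W, h11, h12⟩ := da_alg (dL := dL) (X := X) (Hx := H') hq3 hu hm ht' hs hus hdd hX hc hc0
        (by rw [hXj, hN, him]; push_cast; ring) h1 (by linear_combination (d : ℤ) * h6 + ((q : ℤ) + s) * H' * h1) h4
        hsgpos hst
      refine ⟨n, m, W, ?_, h8, ht', h9, h10, h11, h12⟩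
      rcases hty with ⟨-, -, h13, -⟩ | ⟨h13, -⟩
      · rw [h7] at h13
        norm_num at h13
      · exact h13
  · -- type II
    right; right
    rw [one_mul] at e2 e3
    rcases typII hu hc hHz hHz' (by exact_mod_cast hHu) hS.rel e3 e2 with
      ⟨hk1, h1, h2, h3⟩ | ⟨hk0, hs, h1, h2, h3, h4, h5, h6⟩ | ⟨hk2, hs, h1, h2, h3, h4, h5⟩
    · exfalso
      obtain ⟨e, he, h4⟩ := hS.sum hk1 h3
      obtain ⟨e', he', h5⟩ := hsum hII
      have h1' : H = 1 := by exact_mod_cast h1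
      have h2' : H' = 1 := by exact_mod_cast h2
      rw [hM, hN, h1', h2', one_mul, one_mul, h4] at h5
      have h6 : Nat.Coprime (q ^ e') (u ^ e) := Nat.Coprime.pow _ _ hqu
      rw [← h5] at h6
      have h7 := (Nat.coprime_self _).1 h6
      have h8 : 2 ≤ u ^ e := hu.trans (Nat.le_self_pow (by omega) u)
      omega
    · left
      obtain ⟨m, ht', hm, hus, hdd, hcl⟩ := linS hk0 hs
      refine ⟨m, hII, ht', ?_, ?_⟩
      · have h10 : dgL t' u = usg t' u := by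
          rw [hdd, hus] at h1
          exact_mod_cast h1
        rw [← h10]
        exact hdm m ht'
      · rcases hcl with ⟨h7, h8, -⟩ | ⟨-, -, h7⟩
        · refine ⟨h7, h8, ?_, by exact_mod_cast h5⟩
          rw [hus] at h4
          exact_mod_cast h4
        · exfalso
          rw [h3] at h7
          rcases hs with rfl | rfl <;> omega
    · right
      obtain ⟨m, hm, h6⟩ := hS.min hk2 hs
      obtain ⟨h7, h8⟩ := h6 h2
      refine ⟨m, hII, hm, h1, h7, h8, ?_, by exact_mod_cast h5⟩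
      have : (H : ℤ) = ((u - 1 : ℕ) : ℤ) := by
        rw [h4]
        push_cast [Nat.cast_sub (show 1 ≤ u by omega)]
        ring
      exact_mod_cast this

end Cfsg.Agent.R2.Spec.E
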