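import Cfsg.Agent.R2.Spec.E.IsoRaw

/-!
# The engine (helper29): both classes isolated in `S`, the size bound (clean case)
-/

set_option autoImplicit false
set_option linter.unusedSectionVars false

namespace Cfsg.Agent.R2.Spec.E

open Cfsg Cfsg.Agent.H426.LieFam Cfsg.Agent.R2.Spec Cfsg.Agent.R2.Spec.P1 Cfsg.Agent.R2.Spec.F1

universe u

theorem P_le {a' b' c' P Q : ℤ} (ha : 1 ≤ a') (hab : b' ≤ 3 * a') (hQ : 0 ≤ Q) (he : a' * P = b' * Q + c') :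
    P ≤ 3 * Q + |c'| := by
  have h1 := le_abs_self c'
  have h2 : b' * Q ≤ 3 * a' * Q := mul_le_mul_of_nonneg_right hab hQ
  have h3 : a' * P ≤ a' * (3 * Q + |c'|) := by nlinarith [abs_nonneg c']
  exact le_of_mul_le_mul_left h3 (by omega)

/-- linear and unitary `S` -/
theorem num_lin {u q f d : ℤ} {E : ℕ} {a c a' b' c' H P Q : ℤ} (hu : 2 ≤ u) (hq : 3 ≤ q) (hf : 1 ≤ f)
    (hd : d * |c'| ≤ u + 1) (hc0 : 1 ≤ |c'|) (hd1 : 0 ≤ d) (hH : H ≤ 2 * d * f) (hH1 : 1 ≤ H) (ha1 : 1 ≤ a)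
    (ha : a ≤ q + 1)
    (hc : |c| ≤ (q + 1) ^ 2) (ha1' : 1 ≤ a') (ha' : a' ≤ u + 1) (hab : b' ≤ 3 * a') (hP1 : 1 ≤ P) (hQ1 : 1 ≤ Q)
    (he : a' * P = b' * Q + c') (hQ : Q ≤ a' * |c| + a * H * |c'|) (hE : 5 ≤ E) (hlow : u ^ E ≤ 8 * Q) :
    H * P ≤ 113 * (f ^ 3 * (q + 1) ^ 3) := by
  have hc0' := abs_nonneg c
  obtain ⟨A, hA⟩ : ∃ A, A = u + 1 := ⟨_, rfl⟩
  obtain ⟨B, hB⟩ : ∃ B, B = q + 1 := ⟨_, rfl⟩
  rw [← hA] at hd ha'
  rw [← hB] at hc ha ⊢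
  have hA3 : 3 ≤ A := by omega
  have hB4 : 4 ≤ B := by omega
  have hdA : d ≤ A := by nlinarith
  have h1 : H * |c'| ≤ 2 * f * A := by
    calc H * |c'| ≤ (2 * d * f) * |c'| := mul_le_mul_of_nonneg_right hH (by omega)
      _ = 2 * f * (d * |c'|) := by ring
      _ ≤ 2 * f * A := mul_le_mul_of_nonneg_left hd (by omega)
  have h2 : a * H * |c'| ≤ B * (2 * f * A) := by
    calc a * H * |c'| = a * (H * |c'|) := by ring
      _ ≤ B * (2 * f * A) := mul_le_mul ha h1 (by positivity) (by omega)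
  have h3 : a' * |c| ≤ A * B ^ 2 := mul_le_mul ha' hc hc0' (by omega)
  have hfA : 0 < f * A := by positivity
  have h4 : 2 * Q ≤ 3 * (f * A * B ^ 2) := by
    have e1 : A * B ^ 2 ≤ f * A * B ^ 2 := by
      have : A ≤ f * A := by nlinarith
      exact mul_le_mul_of_nonneg_right this (by positivity)
    have e2 : 4 * (B * (f * A)) ≤ f * A * B ^ 2 := by
      have : 0 ≤ f * A * B * (B - 4) := mul_nonneg (by positivity) (by omega)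
      nlinarith
    nlinarith
  have h5 : u ^ (E - 1) ≤ 18 * (f * B ^ 2) := by
    have e1 : u ^ E = u * u ^ (E - 1) := by rw [← pow_succ']; congr 1; omega
    have e2 : 2 * A ≤ 3 * u := by omega
    have e3 : u * u ^ (E - 1) ≤ u * (18 * (f * B ^ 2)) := by
      rw [← e1]
      have e4 : 8 * Q ≤ 12 * (f * A * B ^ 2) := by omega
      have e5 : 2 * A * (f * B ^ 2) ≤ 3 * u * (f * B ^ 2) := mul_le_mul_of_nonneg_right e2 (by positivity)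
      nlinarith
    exact le_of_mul_le_mul_left e3 (by omega)
  have h6 : u ^ 4 ≤ 18 * (f * B ^ 2) := (pow_le_pow_right₀ (by omega) (by omega)).trans h5
  have h7 : u ^ 2 ≤ 5 * (f * B) := by
    refine (sq_le_sq₀ (by positivity) (by positivity)).1 ?_
    have e1 : f * B ^ 2 ≤ f ^ 2 * B ^ 2 := by
      have : f ≤ f ^ 2 := by nlinarith
      exact mul_le_mul_of_nonneg_right this (by positivity)
    have e2 : (u ^ 2) ^ 2 = u ^ 4 := by ring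
    have e3 : 0 ≤ f ^ 2 * B ^ 2 := by positivity
    rw [e2]
    nlinarith
  have h8 := P_le ha1' hab (by omega) he
  have h9 : H * P ≤ 9 * (f ^ 2 * A ^ 2 * B ^ 2) + 2 * f * A := by
    have e1 : H * P ≤ H * (3 * Q + |c'|) := mul_le_mul_of_nonneg_left h8 (by omega)
    have e2 : H ≤ 2 * (f * A) := by
      have : d * f ≤ A * f := mul_le_mul_of_nonneg_right hdA (by omega)
      nlinarith
    have e3 : H * (3 * Q) ≤ 2 * (f * A) * (3 * Q) := mul_le_mul_of_nonneg_right e2 (by omega)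
    have e4 : 3 * (f * A) * (2 * Q) ≤ 3 * (f * A) * (3 * (f * A * B ^ 2)) :=
      mul_le_mul_of_nonneg_left h4 (by positivity)
    nlinarith
  have h10 : f * A ≤ f ^ 2 * A ^ 2 * B ^ 2 := by
    have e1 : 1 ≤ f * A := by nlinarith
    have e2 : 1 ≤ B ^ 2 := by nlinarith
    have e3 : f * A ≤ (f * A) ^ 2 := by nlinarith
    have e4 : (f * A) ^ 2 ≤ (f * A) ^ 2 * B ^ 2 := le_mul_of_one_le_right (by positivity) e2
    have e5 : f ^ 2 * A ^ 2 * B ^ 2 = (f * A) ^ 2 * B ^ 2 := by ring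
    rw [e5]
    exact e3.trans e4
  have h10' : 16 * (f * A) ≤ f ^ 2 * A ^ 2 * B ^ 2 := by
    have e1 : 1 ≤ f * A := by nlinarith
    have e2 : 16 ≤ B ^ 2 := by nlinarith
    have e3 : f * A ≤ (f * A) ^ 2 := by nlinarith
    have e4 : 16 * (f * A) ^ 2 ≤ (f * A) ^ 2 * B ^ 2 := by nlinarith [sq_nonneg (f * A)]
    have e5 : f ^ 2 * A ^ 2 * B ^ 2 = (f * A) ^ 2 * B ^ 2 := by ring
    rw [e5]
    nlinarith
  have h11 : 4 * A ^ 2 ≤ 9 * u ^ 2 := by nlinarith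
  have h12 : 4 * (f ^ 2 * A ^ 2 * B ^ 2) ≤ 45 * (f ^ 3 * B ^ 3) := by
    have e1 : 4 * (f ^ 2 * A ^ 2 * B ^ 2) = f ^ 2 * B ^ 2 * (4 * A ^ 2) := by ring
    have e2 : f ^ 2 * B ^ 2 * (4 * A ^ 2) ≤ f ^ 2 * B ^ 2 * (9 * (5 * (f * B))) :=
      mul_le_mul_of_nonneg_left (by omega) (by positivity)
    have e3 : f ^ 2 * B ^ 2 * (9 * (5 * (f * B))) = 45 * (f ^ 3 * B ^ 3) := by ring
    omega
  have h13 : 0 ≤ f ^ 3 * B ^ 3 := by positivity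
  linarith

/-- symplectic `S` -/
theorem num_sp {q f : ℤ} {a c c' H P Q : ℤ} (hq : 3 ≤ q) (hf : 1 ≤ f)
    (hc2 : |c'| ≤ 2) (hH : H ≤ 8 * f) (hH1 : 1 ≤ H) (ha1 : 1 ≤ a) (ha : a ≤ q + 1)
    (hc : |c| ≤ (q + 1) ^ 2) (hP1 : 1 ≤ P) (hQ1 : 1 ≤ Q)
    (he : P = Q + c') (hQ : Q ≤ |c| + a * H * |c'|) :
    H * P ≤ 41 * (f ^ 2 * (q + 1) ^ 2) := by
  have hc0' := abs_nonneg c
  have hc0 := abs_nonneg c'
  obtain ⟨B, hB⟩ : ∃ B, B = q + 1 := ⟨_, rfl⟩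
  rw [← hB] at hc ha ⊢
  have hB4 : 4 ≤ B := by omega
  have h1 : H * |c'| ≤ 16 * f := by nlinarith
  have h2 : a * H * |c'| ≤ B * (16 * f) := by
    calc a * H * |c'| = a * (H * |c'|) := by ring
      _ ≤ B * (16 * f) := mul_le_mul ha h1 (by positivity) (by omega)
  have h3 : Q ≤ 5 * (f * B ^ 2) := by
    have e1 : B ^ 2 ≤ f * B ^ 2 := le_mul_of_one_le_left (by positivity) hf
    have e2 : 4 * (B * f) ≤ f * B ^ 2 := by nlinarith [mul_nonneg (by positivity : 0 ≤ f * B) (by omega : 0 ≤ B - 4)]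
    nlinarith
  have h4 : P ≤ Q + 2 := by have := le_abs_self c'; omega
  have h5 : 16 ≤ B ^ 2 := by nlinarith
  have h6 : 16 * f ≤ f ^ 2 * B ^ 2 := by nlinarith [mul_nonneg (by positivity : 0 ≤ f ^ 2) (by omega : 0 ≤ B ^ 2 - 16)]
  calc H * P ≤ 8 * f * P := mul_le_mul_of_nonneg_right hH (by omega)
    _ ≤ 8 * f * (5 * (f * B ^ 2) + 2) := mul_le_mul_of_nonneg_left (by omega) (by omega)
    _ = 40 * (f ^ 2 * B ^ 2) + 16 * f := by ring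
    _ ≤ 41 * (f ^ 2 * B ^ 2) := by omega

/-- orthogonal `S`, general bound -/
theorem num_orth {u q f : ℤ} {a c a' b' c' H P Q : ℤ} (hu : 2 ≤ u) (hq : 3 ≤ q) (hf : 1 ≤ f)
    (hc2 : |c'| ≤ 2 * (u + 1) ^ 2) (hH : H ≤ 8 * f) (hH1 : 1 ≤ H) (ha1 : 1 ≤ a) (ha : a ≤ q + 1)
    (hc : |c| ≤ (q + 1) ^ 2) (ha1' : 1 ≤ a') (ha' : a' ≤ u + 1) (hab : b' ≤ 3 * a') (hP1 : 1 ≤ P) (hQ1 : 1 ≤ Q)
    (he : a' * P = b' * Q + c') (hQ : Q ≤ a' * |c| + a * H * |c'|) :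
    Q ≤ 10 * (f * u ^ 2 * (q + 1) ^ 2) ∧ H * P ≤ 237 * (f ^ 2 * u ^ 2 * (q + 1) ^ 2) := by
  have hc0' := abs_nonneg c
  have hc0 := abs_nonneg c'
  obtain ⟨A, hA⟩ : ∃ A, A = u + 1 := ⟨_, rfl⟩
  obtain ⟨B, hB⟩ : ∃ B, B = q + 1 := ⟨_, rfl⟩
  rw [← hA] at hc2 ha'
  rw [← hB] at hc ha ⊢
  have hA3 : 3 ≤ A := by omega
  have hB4 : 4 ≤ B := by omega
  have h1 : H * |c'| ≤ 16 * (f * A ^ 2) := by
    calc H * |c'| ≤ 8 * f * (2 * A ^ 2) := mul_le_mul hH hc2 hc0 (by omega)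
      _ = 16 * (f * A ^ 2) := by ring
  have h2 : a * H * |c'| ≤ B * (16 * (f * A ^ 2)) := by
    calc a * H * |c'| = a * (H * |c'|) := by ring
      _ ≤ B * (16 * (f * A ^ 2)) := mul_le_mul ha h1 (by positivity) (by omega)
  have h3 : a' * |c| ≤ A * B ^ 2 := mul_le_mul ha' hc hc0' (by omega)
  have h4 : 3 * Q ≤ 13 * (f * A ^ 2 * B ^ 2) := by
    have e1 : 3 * (A * B ^ 2) ≤ f * A ^ 2 * B ^ 2 := by
      have e3 : 3 * A ≤ f * A ^ 2 := by nlinarith [mul_nonneg (by positivity : 0 ≤ f * A) (by omega : 0 ≤ A - 3)]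
      nlinarith [mul_nonneg (sub_nonneg.2 e3) (by positivity : 0 ≤ B ^ 2)]
    have e2 : 4 * (B * (f * A ^ 2)) ≤ f * A ^ 2 * B ^ 2 := by
      nlinarith [mul_nonneg (by positivity : 0 ≤ f * A ^ 2 * B) (by omega : 0 ≤ B - 4)]
    nlinarith
  have h11 : 4 * A ^ 2 ≤ 9 * u ^ 2 := by nlinarith
  have h12 : 4 * (f * A ^ 2 * B ^ 2) ≤ 9 * (f * u ^ 2 * B ^ 2) := by
    have e1 : f * B ^ 2 * (4 * A ^ 2) ≤ f * B ^ 2 * (9 * u ^ 2) := mul_le_mul_of_nonneg_left h11 (by positivity)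
    nlinarith
  have hpos : 0 ≤ f * u ^ 2 * B ^ 2 := by positivity
  refine ⟨by omega, ?_⟩
  have h8 := P_le ha1' hab (by omega) he
  have h9 : H * P ≤ 8 * f * (13 * (f * A ^ 2 * B ^ 2) + 2 * A ^ 2) :=
    mul_le_mul hH (by omega) (by omega) (by omega)
  have h13 : 16 * (f * A ^ 2) ≤ f ^ 2 * A ^ 2 * B ^ 2 := by
    have e2 : 16 ≤ B ^ 2 := by nlinarith
    have e3 : 16 * f ≤ f ^ 2 * B ^ 2 := by
      nlinarith [mul_nonneg (by positivity : 0 ≤ f ^ 2) (by omega : 0 ≤ B ^ 2 - 16)]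
    nlinarith [mul_nonneg (sub_nonneg.2 e3) (by positivity : 0 ≤ A ^ 2)]
  have h14 : 4 * (f ^ 2 * A ^ 2 * B ^ 2) ≤ 9 * (f ^ 2 * u ^ 2 * B ^ 2) := by
    have e1 : f ^ 2 * B ^ 2 * (4 * A ^ 2) ≤ f ^ 2 * B ^ 2 * (9 * u ^ 2) :=
      mul_le_mul_of_nonneg_left h11 (by positivity)
    nlinarith
  have h15 : 8 * f * (13 * (f * A ^ 2 * B ^ 2) + 2 * A ^ 2) =
      104 * (f ^ 2 * A ^ 2 * B ^ 2) + 16 * (f * A ^ 2) := by ring
  have h16 : 0 ≤ f ^ 2 * u ^ 2 * B ^ 2 := by positivity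
  linarith


end Cfsg.Agent.R2.Spec.E
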