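import Cfsg.Agent.R2.Spec.E.IsoNum

/-!
# The engine (helper29): both classes isolated in `S`, clean cofactor
-/

set_option autoImplicit false
set_option linter.unusedSectionVars false

namespace Cfsg.Agent.R2.Spec.E

open Cfsg Cfsg.Agent.H426.LieFam Cfsg.Agent.R2.Spec Cfsg.Agent.R2.Spec.P1 Cfsg.Agent.R2.Spec.F1

universe u

theorem rk_of_four {t' : Fam} (h : RkFour t') : 4 ≤ rk t' := by
  cases t' with
  | psl m => exact le_trans (by norm_num) (show 7 ≤ m from h)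
  | psu m => exact le_trans (by norm_num) (show 7 ≤ m from h)
  | psp m => exact h
  | oodd m => exact h
  | oplus m => exact le_trans (by norm_num) (show 5 ≤ m from h)
  | ominus m => exact h
  | _ => exact h.elim

variable {t t' : Fam} {p f i j v f' i' j' w H : ℕ} {S : Type u} [Group S]

/-- **Both classes isolated, clean cofactor**: exotic or small. -/
theorem Duel.iso_one (h : Duel t p f i j t' v f' i' j' w H S) (hr : 4 ≤ rk t) (hR : RkFour t') (ht : top t' j')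
    (hH : H ∣ outB t' v f') :
    (∃ H' : ℕ, ttor t (p ^ f) j = H' * ttor t' (v ^ f') j' ∧ Exo t (p ^ f) t' (v ^ f') i j i' j' H H') ∨
      (∃ B : ℕ, ttor t (p ^ f) i ≤ B ∧ (p ^ f) ^ dimL t ≤ 8 * dgL t (p ^ f) * ttor t (p ^ f) i ∧
        (B = 113 * (f' ^ 3 * (p ^ f + 1) ^ 3) ∨
          ((∃ m, (t' = .oplus m ∧ m % 2 = 1) ∨ t' = .ominus m) ∧
            B = 237 * (f' ^ 2 * (v ^ f') ^ 2 * (p ^ f + 1) ^ 2) ∧
            (v ^ f') ^ (szE t' - 2) ≤ 80 * (f' * (p ^ f + 1) ^ 2)))) := by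
  obtain ⟨H', k, d, s', a, b, c, a', b', c', hN, hL, hk, hS, hH1, hH1', hP1, hQ1, h1⟩ :=
    h.iso_raw hr (Or.inl (rk_of_four hR)) ht
  rcases h1 with h1 | ⟨hQ, -⟩
  · exact Or.inl ⟨H', hN, h1⟩
  right
  obtain ⟨hq3, hq2⟩ := f_q h.p_prime h.p_ne h.f_pos
  obtain ⟨ha1, ha2, hb1, hb2, hc, hM1, hN1⟩ := hL.sz hq3
  have hu : 2 ≤ v ^ f' := h.v_prime.two_le.trans (Nat.le_self_pow (by have := h.f'_pos; omega) v)
  obtain ⟨ha1', ha2', hb1', hb2', hab', hba', hd0, -, hk1, hc', hk3, hc0'⟩ := hS.rel.sz hu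
  have hM := h.eqM
  obtain ⟨hB0, hB1⟩ := outB_le hR h.f'_pos hS hH
  have hlow := lowS hu (rk_of_four hR) ht
  have hcp : 1 ≤ |c'| := Int.one_le_abs hc0'
  have hlow' : (((v ^ f' : ℕ) : ℤ)) ^ szE t' ≤ 8 * (ttor t' (v ^ f') j' : ℤ) := by exact_mod_cast hlow
  have hf : (1 : ℤ) ≤ f' := by exact_mod_cast h.f'_pos
  have hu' : (2 : ℤ) ≤ ((v ^ f' : ℕ) : ℤ) := by exact_mod_cast hu
  have hq' : (3 : ℤ) ≤ ((p ^ f : ℕ) : ℤ) := by exact_mod_cast hq3
  have hMz : ((ttor t (p ^ f) i : ℕ) : ℤ) = (H : ℤ) * (ttor t' (v ^ f') i' : ℤ) := by exact_mod_cast hM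
  rcases Nat.eq_zero_or_pos k with hk0 | hkpos
  · refine ⟨_, ?_, hL.lowM, Or.inl rfl⟩
    have hE : 5 ≤ szE t' := by
      rcases hS.lin hk0 with ⟨m, rfl, -⟩ | ⟨m, rfl, -⟩
      · have : 7 ≤ m := hR
        change 5 ≤ m - 2
        omega
      · have : 7 ≤ m := hR
        change 5 ≤ m - 2
        omega
    have key := num_lin (u := ((v ^ f' : ℕ) : ℤ)) (q := ((p ^ f : ℕ) : ℤ)) (f := f') (d := d) (E := szE t')
      (H := H) (P := ttor t' (v ^ f') i') (Q := ttor t' (v ^ f') j') hu' hq' hf (hd0 hk0) hcp (by positivity)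
      (by exact_mod_cast hB0 hk0) (by exact_mod_cast hH1) ha1 ha2 hc ha1' ha2' hab' (by exact_mod_cast hP1)
      (by exact_mod_cast hQ1) hS.eq hQ hE hlow'
    rw [← hMz] at key
    exact_mod_cast key
  have hHk := hB1 (by omega)
  rcases Nat.lt_or_ge k 2 with hk2 | hk2
  · refine ⟨_, ?_, hL.lowM, Or.inl rfl⟩
    obtain ⟨hc2, ea, eb⟩ := hk1 (by omega)
    have heq := hS.eq
    rw [ea, eb, one_mul, one_mul] at heq
    rw [ea, one_mul] at hQ
    have key := num_sp (q := ((p ^ f : ℕ) : ℤ)) (f := f')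
      (H := H) (P := ttor t' (v ^ f') i') (Q := ttor t' (v ^ f') j') hq' hf hc2
      (by exact_mod_cast hHk) (by exact_mod_cast hH1) ha1 ha2 hc (by exact_mod_cast hP1)
      (by exact_mod_cast hQ1) heq hQ
    rw [← hMz] at key
    have key' : ttor t (p ^ f) i ≤ 41 * (f' ^ 2 * (p ^ f + 1) ^ 2) := by exact_mod_cast key
    refine key'.trans ?_
    have e1 : f' ^ 2 ≤ f' ^ 3 := Nat.pow_le_pow_right h.f'_pos (by norm_num)
    have e2 : (p ^ f + 1) ^ 2 ≤ (p ^ f + 1) ^ 3 := Nat.pow_le_pow_right (by omega) (by norm_num)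
    have := Nat.mul_le_mul e1 e2
    omega
  · obtain ⟨k1, k2⟩ := num_orth (u := ((v ^ f' : ℕ) : ℤ)) (q := ((p ^ f : ℕ) : ℤ)) (f := f')
      (H := H) (P := ttor t' (v ^ f') i') (Q := ttor t' (v ^ f') j') hu' hq' hf hc'
      (by exact_mod_cast hHk) (by exact_mod_cast hH1) ha1 ha2 hc ha1' ha2' hab' (by exact_mod_cast hP1)
      (by exact_mod_cast hQ1) hS.eq hQ
    rw [← hMz] at k2
    refine ⟨237 * (f' ^ 2 * (v ^ f') ^ 2 * (p ^ f + 1) ^ 2), by exact_mod_cast k2, hL.lowM, Or.inr ⟨?_, rfl, ?_⟩⟩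
    · cases t' with
      | psl m => exact absurd (hS.lk ⟨m, Or.inl rfl⟩) (by omega)
      | psu m => exact absurd (hS.lk ⟨m, Or.inr rfl⟩) (by omega)
      | psp m => exact absurd (hS.sp ⟨m, Or.inl rfl⟩) (by omega)
      | oodd m => exact absurd (hS.sp ⟨m, Or.inr (Or.inl rfl)⟩) (by omega)
      | oplus m =>
        rcases Nat.mod_two_eq_zero_or_one m with hm | hm
        · exact absurd (hS.sp ⟨m, Or.inr (Or.inr ⟨rfl, hm⟩)⟩) (by omega)
        · exact ⟨m, Or.inl ⟨rfl, hm⟩⟩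
      | ominus m => exact ⟨m, Or.inr rfl⟩
      | _ => exact hR.elim
    · have k1' : ttor t' (v ^ f') j' ≤ 10 * (f' * (v ^ f') ^ 2 * (p ^ f + 1) ^ 2) := by exact_mod_cast k1
      have hE : 2 ≤ szE t' := by
        cases t' with
        | psl m => exact absurd (hS.lk ⟨m, Or.inl rfl⟩) (by omega)
        | psu m => exact absurd (hS.lk ⟨m, Or.inr rfl⟩) (by omega)
        | psp m => exact le_trans (by norm_num) (show 4 ≤ m from hR)
        | oodd m => exact le_trans (by norm_num) (show 4 ≤ m from hR)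
        | oplus m =>
          have : 5 ≤ m := hR
          rw [szE]
          split_ifs <;> omega
        | ominus m => exact le_trans (by norm_num) (show 4 ≤ m from hR)
        | _ => exact hR.elim
      have e1 : (v ^ f') ^ szE t' = (v ^ f') ^ 2 * (v ^ f') ^ (szE t' - 2) := by
        rw [← pow_add]
        congr 1
        omega
      rw [e1] at hlow
      have e2 : (v ^ f') ^ 2 * (v ^ f') ^ (szE t' - 2) ≤ (v ^ f') ^ 2 * (80 * (f' * (p ^ f + 1) ^ 2)) := by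
        calc (v ^ f') ^ 2 * (v ^ f') ^ (szE t' - 2) ≤ 8 * (10 * (f' * (v ^ f') ^ 2 * (p ^ f + 1) ^ 2)) :=
              hlow.trans (Nat.mul_le_mul_left _ k1')
          _ = _ := by ring
      exact Nat.le_of_mul_le_mul_left e2 (by positivity)

/-- the size bound from `iso_one` -/
theorem size_of_one {t t' : Fam} {p f v f' M B : ℕ} (hR5 : RkFive t') (hf : 1 ≤ f') (hu : 2 ≤ v ^ f') (hM : M ≤ B)
    (h1 : (p ^ f) ^ dimL t ≤ 8 * dgL t (p ^ f) * M)
    (h2 : B = 113 * (f' ^ 3 * (p ^ f + 1) ^ 3) ∨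
          ((∃ m, (t' = .oplus m ∧ m % 2 = 1) ∨ t' = .ominus m) ∧
            B = 237 * (f' ^ 2 * (v ^ f') ^ 2 * (p ^ f + 1) ^ 2) ∧
            (v ^ f') ^ (szE t' - 2) ≤ 80 * (f' * (p ^ f + 1) ^ 2))) : SizeB 17064 t p f f' := by
  have hB : B ≤ 2133 * (f' ^ 4 * (p ^ f + 1) ^ 3) := by
    rcases h2 with rfl | ⟨hm, rfl, h3⟩
    · have e1 : f' ^ 3 ≤ f' ^ 4 := Nat.pow_le_pow_right hf (by norm_num)
      have := Nat.mul_le_mul_right ((p ^ f + 1) ^ 3) e1
      omega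
    · have hE : 4 ≤ szE t' - 2 := by
        obtain ⟨m, ⟨rfl, hm2⟩ | rfl⟩ := hm
        · have : 7 ≤ m := hR5
          rw [szE, if_neg (by omega)]
          omega
        · have : 6 ≤ m := hR5
          change 4 ≤ m - 2
          omega
      have e1 : (v ^ f') ^ 4 ≤ 80 * (f' * (p ^ f + 1) ^ 2) := (Nat.pow_le_pow_right (by omega) hE).trans h3
      have e2 : (v ^ f') ^ 2 ≤ 9 * (f' * (p ^ f + 1)) := by
        refine (Nat.pow_le_pow_iff_left (n := 2) (by norm_num)).1 ?_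
        have e3 : ((v ^ f') ^ 2) ^ 2 = (v ^ f') ^ 4 := by ring
        have e4 : f' ≤ f' ^ 2 := Nat.le_self_pow (by norm_num) f'
        have e5 : f' * (p ^ f + 1) ^ 2 ≤ f' ^ 2 * (p ^ f + 1) ^ 2 := Nat.mul_le_mul_right _ e4
        have e6 : (9 * (f' * (p ^ f + 1))) ^ 2 = 81 * (f' ^ 2 * (p ^ f + 1) ^ 2) := by ring
        omega
      have e7 : 237 * (f' ^ 2 * (v ^ f') ^ 2 * (p ^ f + 1) ^ 2) ≤ 2133 * (f' ^ 3 * (p ^ f + 1) ^ 3) := by
        calc 237 * (f' ^ 2 * (v ^ f') ^ 2 * (p ^ f + 1) ^ 2)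
            = 237 * (f' ^ 2 * (p ^ f + 1) ^ 2 * (v ^ f') ^ 2) := by ring
          _ ≤ 237 * (f' ^ 2 * (p ^ f + 1) ^ 2 * (9 * (f' * (p ^ f + 1)))) :=
            Nat.mul_le_mul_left _ (Nat.mul_le_mul_left _ e2)
          _ = 2133 * (f' ^ 3 * (p ^ f + 1) ^ 3) := by ring
      refine e7.trans (Nat.mul_le_mul_left _ (Nat.mul_le_mul_right _ ?_))
      exact Nat.pow_le_pow_right hf (by norm_num)
  unfold SizeB
  calc (p ^ f) ^ dimL t ≤ 8 * dgL t (p ^ f) * M := h1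
    _ ≤ 8 * dgL t (p ^ f) * (2133 * (f' ^ 4 * (p ^ f + 1) ^ 3)) := Nat.mul_le_mul_left _ (hM.trans hB)
    _ = 17064 * dgL t (p ^ f) * (f' ^ 4 * (p ^ f + 1) ^ 3) := by ring

end Cfsg.Agent.R2.Spec.E
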