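import Cfsg.Agent.R2.Spec.E.IsoSz

/-!
# The engine (helper29): both classes isolated in `S`, the dichotomy
-/

set_option autoImplicit false
set_option linter.unusedSectionVars false

namespace Cfsg.Agent.R2.Spec.E

open Cfsg Cfsg.Agent.H426.LieFam Cfsg.Agent.R2.Spec Cfsg.Agent.R2.Spec.P1 Cfsg.Agent.R2.Spec.F1

universe u

/-- the sum of the isolated numbers in type II -/
theorem sum_II {t : Fam} {q i j : ℕ} (hq3 : 3 ≤ q) (hq2 : q % 2 = 1) (hr : 4 ≤ rk t) (h : PairOK t i j)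
    (hII : FamII t) : ∃ e : ℕ, 1 ≤ e ∧ ttor t q i + ttor t q j = q ^ e := by
  cases t with
  | psp n =>
    change 4 ≤ n at hr
    obtain ⟨h1, h2⟩ := val_psp (n := n) (q := q) (by omega) (by omega)
    rw [gcd_two_odd hq2] at h1 h2
    have h3 := Nat.one_le_pow n q (by omega)
    obtain ⟨-, ⟨rfl, rfl⟩ | ⟨rfl, rfl⟩⟩ := h
    · exact ⟨i, by omega, by omega⟩
    · exact ⟨j, by omega, by omega⟩
  | oodd n =>
    change 4 ≤ n at hr
    obtain ⟨h1, h2⟩ := val_psp (n := n) (q := q) (by omega) (by omega)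
    rw [gcd_two_odd hq2] at h1 h2
    have h3 := Nat.one_le_pow n q (by omega)
    rw [ttor_oodd, ttor_oodd]
    obtain ⟨-, ⟨rfl, rfl⟩ | ⟨rfl, rfl⟩⟩ := h
    · exact ⟨i, by omega, by omega⟩
    · exact ⟨j, by omega, by omega⟩
  | oplus n =>
    change 4 ≤ n at hr
    have hn2 : n % 2 = 0 := hII
    obtain ⟨h1, h2⟩ := val_oplus_even (n := n) (q := q) hr hn2 (by omega)
    rw [gcd_two_odd hq2] at h1 h2
    have h3 := Nat.one_le_pow (n - 1) q (by omega)
    rcases h with ⟨h0, -⟩ | ⟨-, ⟨rfl, rfl⟩ | ⟨rfl, rfl⟩⟩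
    · omega
    · exact ⟨n - 1, by omega, by omega⟩
    · exact ⟨n - 1, by omega, by omega⟩
  | _ => exact hII.elim

/-- sizes of the coefficients of `L` -/
theorem LNum.sz {q D d M N : ℕ} {a b c : ℤ} (hq : 3 ≤ q) (h : LNum q D d M N a b c) :
    1 ≤ a ∧ a ≤ q + 1 ∧ 1 ≤ b ∧ b ≤ q + 1 ∧ |c| ≤ (q + 1) ^ 2 ∧ 1 ≤ M ∧ 1 ≤ N := by
  have hq' : (3 : ℤ) ≤ q := by exact_mod_cast hq
  have hM : 1 ≤ M := by
    have := h.lowM
    rcases Nat.eq_zero_or_pos M with h1 | h1
    · rw [h1, mul_zero] at this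
      have := Nat.one_le_pow D q (by omega)
      omega
    · exact h1
  have hN : 1 ≤ N := by
    have := h.lowN
    rcases Nat.eq_zero_or_pos N with h1 | h1
    · rw [h1, mul_zero] at this
      have := Nat.one_le_pow D q (by omega)
      omega
    · exact h1
  rcases h.typ with ⟨s, hs, h1, h2⟩ | ⟨h1, h2, h3⟩
  · have hp : 0 < ((q : ℤ) + s) ^ 2 := by
      rcases hs with rfl | rfl
      · positivity
      · have : 0 < (q : ℤ) + -1 := by omega
        positivity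
    have h3 : |c| ≤ ((q : ℤ) + s) ^ 2 := Int.le_of_dvd hp ((abs_dvd _ _).2 h2)
    have h4 : ((q : ℤ) + s) ^ 2 ≤ (q + 1) ^ 2 := by rcases hs with rfl | rfl <;> nlinarith
    refine ⟨?_, ?_, ?_, ?_, h3.trans h4, hM, hN⟩ <;>
    · rcases h1 with ⟨rfl, rfl⟩ | ⟨rfl, rfl⟩ <;> rcases hs with rfl | rfl <;> omega
  · subst h1 h2
    refine ⟨le_rfl, by omega, le_rfl, by omega, ?_, hM, hN⟩
    have : |c| = 1 := by rcases h3 with rfl | rfl <;> norm_num
    rw [this]
    nlinarith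

variable {t t' : Fam} {p f i j v f' i' j' w H : ℕ} {S : Type u} [Group S]

/-- **Both classes isolated: exotic, or both isolated numbers of `S` are small.** -/
theorem Duel.iso_raw (h : Duel t p f i j t' v f' i' j' w H S) (hr : 4 ≤ rk t) (hr' : RkS t')
    (ht : top t' j') : ∃ (H' k d : ℕ) (s' a b c a' b' c' : ℤ),
      ttor t (p ^ f) j = H' * ttor t' (v ^ f') j' ∧
      LNum (p ^ f) (dimL t) (dgL t (p ^ f)) (ttor t (p ^ f) i) (ttor t (p ^ f) j) a b c ∧
      LK t (p ^ f) i j a b c ∧ SNum t' (v ^ f') i' j' k d s' a' b' c' ∧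
      1 ≤ H ∧ 1 ≤ H' ∧ 1 ≤ ttor t' (v ^ f') i' ∧ 1 ≤ ttor t' (v ^ f') j' ∧
      (Exo t (p ^ f) t' (v ^ f') i j i' j' H H' ∨
        ((ttor t' (v ^ f') j' : ℤ) ≤ a' * |c| + a * H * |c'| ∧
          (ttor t' (v ^ f') i' : ℤ) ≤ b' * |c| + b * H' * |c'| ∧
          (ttor t' (v ^ f') j' : ℤ) ∣ a' * c - a * H * c' ∧ a' * c - a * H * c' ≠ 0 ∧
          (ttor t' (v ^ f') i' : ℤ) ∣ b' * c - b * H' * c' ∧ b' * c - b * H' * c' ≠ 0)) := by
  obtain ⟨hq3, hq2⟩ := f_q h.p_prime h.p_ne h.f_pos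
  obtain ⟨a, b, c, hL, hk⟩ := lk h.p_prime h.p_ne h.f_pos hr h.pair
  have hu : 2 ≤ v ^ f' := h.v_prime.two_le.trans (Nat.le_self_pow (by have := h.f'_pos; omega) v)
  obtain ⟨k, d, s', a', b', c', hS⟩ := snum_rk hu hr' h.topi' ht (na_ne h.na')
  obtain ⟨H', hN, hcop'⟩ := h.copH' ht
  obtain ⟨ha1, ha2, hb1, hb2, hc, hM1, hN1⟩ := hL.sz hq3
  obtain ⟨ha1', ha2', hb1', hb2', hab', hba', hd0, -, hk1, hc', hk3, hc0'⟩ := hS.rel.sz hu
  have hM := h.eqM
  have hH1 : 1 ≤ H := Nat.one_le_iff_ne_zero.2 (by rintro rfl; rw [zero_mul] at hM; omega)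
  have hP1 : 1 ≤ ttor t' (v ^ f') i' := Nat.one_le_iff_ne_zero.2 (by
    intro h0; rw [h0, mul_zero] at hM; omega)
  have hH1' : 1 ≤ H' := Nat.one_le_iff_ne_zero.2 (by rintro rfl; rw [zero_mul] at hN; omega)
  have hQ1 : 1 ≤ ttor t' (v ^ f') j' := Nat.one_le_iff_ne_zero.2 (by
    intro h0; rw [h0, mul_zero] at hN; omega)
  refine ⟨H', k, d, s', a, b, c, a', b', c', hN, hL, hk, hS, hH1, hH1', hP1, hQ1, ?_⟩
  by_cases hs : |a' * c - a * H * c'| < ttor t' (v ^ f') j' ∨ |b' * c - b * H' * c'| < ttor t' (v ^ f') i'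
  · left
    obtain ⟨-, e2, e3⟩ := elim (M := (ttor t (p ^ f) i : ℤ)) (N := (ttor t (p ^ f) j : ℤ))
      (P := (ttor t' (v ^ f') i' : ℤ)) (Q := (ttor t' (v ^ f') j' : ℤ)) (H1 := (H : ℤ)) (H2 := (H' : ℤ))
      hL.rel hS.eq (by exact_mod_cast hM) (by exact_mod_cast hN) (by omega) (by omega) hs
    refine iso_alg hq3 hq2 hu ?_ hr'.two hL hk hS hM hN hH1 hH1' ?_ (by omega) (by omega)
      (fun hII => sum_II hq3 hq2 hr h.pair hII) e2 e3
    · exact Nat.Coprime.pow _ _ ((Nat.coprime_primes h.p_prime h.v_prime).2 h.vp.symm)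
    · intro he
      apply h.vM
      rw [hM, he]
      exact Dvd.dvd.mul_right (dvd_pow_self v (by have := h.f'_pos; omega)) _
  · right
    rw [not_or, not_lt, not_lt] at hs
    have hrel := hL.rel
    have heq := hS.eq
    have k1 : (ttor t' (v ^ f') j' : ℤ) * (a * b' * H - a' * b * H') = a' * c - a * H * c' := by
      rw [show ((ttor t (p ^ f) i : ℕ) : ℤ) = H * ttor t' (v ^ f') i' by exact_mod_cast hM,
        show ((ttor t (p ^ f) j : ℕ) : ℤ) = H' * ttor t' (v ^ f') j' by exact_mod_cast hN] at hrel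
      linear_combination a' * hrel - a * H * heq
    have k2 : (ttor t' (v ^ f') i' : ℤ) * (a * b' * H - a' * b * H') = b' * c - b * H' * c' := by
      rw [show ((ttor t (p ^ f) i : ℕ) : ℤ) = H * ttor t' (v ^ f') i' by exact_mod_cast hM,
        show ((ttor t (p ^ f) j : ℕ) : ℤ) = H' * ttor t' (v ^ f') j' by exact_mod_cast hN] at hrel
      linear_combination b' * hrel - b * H' * heq
    refine ⟨?_, ?_, Dvd.intro _ k1, ?_, Dvd.intro _ k2, ?_⟩
    · refine hs.1.trans ((abs_sub _ _).trans ?_)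
      rw [abs_mul, abs_mul, abs_mul, abs_of_pos (show 0 < a' by omega), abs_of_pos (show 0 < a by omega),
        Nat.abs_cast]
    · refine hs.2.trans ((abs_sub _ _).trans ?_)
      rw [abs_mul, abs_mul, abs_mul, abs_of_pos (show 0 < b' by omega), abs_of_pos (show 0 < b by omega),
        Nat.abs_cast]
    · intro h0
      rw [h0, abs_zero] at hs
      omega
    · intro h0
      rw [h0, abs_zero] at hs
      omega

/-- the bound of the outer part -/
theorem outB_le {t' : Fam} {v f' i' j' k d h : ℕ} {s' a' b' c' : ℤ} (hR : RkFour t') (hf : 1 ≤ f')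
    (hS : SNum t' (v ^ f') i' j' k d s' a' b' c') (hd : h ∣ outB t' v f') :
    (k = 0 → h ≤ 2 * d * f') ∧ (k ≠ 0 → h ≤ 8 * f') := by
  constructor
  · intro hk
    rcases hS.lin hk with ⟨m, rfl, -, rfl, -⟩ | ⟨m, rfl, -, rfl, -⟩
    · change 7 ≤ m at hR
      refine Nat.le_of_dvd ?_ hd
      have : 0 < Nat.gcd m (v ^ f' - 1) := Nat.gcd_pos_of_pos_left _ (by omega)
      positivity
    · change 7 ≤ m at hR
      refine Nat.le_of_dvd ?_ hd
      have : 0 < Nat.gcd m (v ^ f' + 1) := Nat.gcd_pos_of_pos_left _ (by omega)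
      positivity
  · intro hk
    cases t' with
    | psl m => exact absurd (hS.lk ⟨m, Or.inl rfl⟩) hk
    | psu m => exact absurd (hS.lk ⟨m, Or.inr rfl⟩) hk
    | psp m =>
      have := Nat.le_of_dvd (by positivity) (show h ∣ 2 * f' from hd)
      omega
    | oodd m =>
      have := Nat.le_of_dvd (by positivity) (show h ∣ 2 * f' from hd)
      omega
    | oplus m =>
      change 5 ≤ m at hR
      have hd' : h ∣ (if m = 4 then 24 * f' else 8 * f') := hd
      rw [if_neg (by omega)] at hd'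
      exact Nat.le_of_dvd (by positivity) hd'
    | ominus m => exact Nat.le_of_dvd (by positivity) (show h ∣ 8 * f' from hd)
    | _ => exact hR.elim

end Cfsg.Agent.R2.Spec.E
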