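import Cfsg.Agent.R2.Spec.E.Exo

/-!
# The engine (helper29): the statements of the packets `NON-C`, `NON-D`, `NON-A`

`NonRow C P` : if the second class is not isolated in `S` (`¬ top t' j'`), then the size bound `SizeB C` holds, or `L` is
of type II (`PSp_2n`, `Ω_{2n+1}`, `n` odd, `PΩ^+_{2n}`, `n` even) and `u = 2` or `u = 3`.
-/

set_option autoImplicit false

namespace Cfsg.Agent.R2.Spec.E

open Cfsg Cfsg.Agent.H426.LieFam Cfsg.Agent.R2.Spec Cfsg.Agent.R2.Spec.P1 Cfsg.Agent.R2.Spec.F1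

/-- the size bound -/
def SizeB (C : ℕ) (t : Fam) (p f f' : ℕ) : Prop :=
  (p ^ f) ^ dimL t ≤ C * dgL t (p ^ f) * (f' ^ 4 * (p ^ f + 1) ^ 3)

/-- the rows "`w` not isolated in `S`" -/
def NonRow (C : ℕ) (P : Fam → Prop) : Prop :=
  ∀ (t : Fam) (p f i j : ℕ) (t' : Fam) (v f' i' j' w H : ℕ) (S : Type) [Group S] [Finite S],
    4 ≤ rk t → P t' → RkFour t' → ¬ top t' j' → Duel t p f i j t' v f' i' j' w H S →
      SizeB C t p f f' ∨ (FamII t ∧ (v ^ f' = 2 ∨ v ^ f' = 3))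

/-- packet NON-C -/
def NonC (C : ℕ) : Prop := NonRow C fun t' => ∃ m, t' = .psp m ∨ t' = .oodd m

/-- packet NON-D -/
def NonD (C : ℕ) : Prop := NonRow C fun t' => ∃ m, t' = .oplus m ∨ t' = .ominus m

/-- packet NON-A (`m ≥ 12` or `m = 10`) -/
def NonA (C : ℕ) : Prop := NonRow C fun t' => ∃ m, (12 ≤ m ∨ m = 10) ∧ (t' = .psl m ∨ t' = .psu m)

end Cfsg.Agent.R2.Spec.E
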