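import Cfsg.Agent.R2.Spec.E.Iso
import Cfsg.Agent.R2.Spec.E.Stm

/-!
# The engine (helper29): both classes isolated in `S`, sizes
-/

set_option autoImplicit false
set_option linter.unusedSectionVars false

namespace Cfsg.Agent.R2.Spec.E

open Cfsg Cfsg.Agent.H426.LieFam Cfsg.Agent.R2.Spec Cfsg.Agent.R2.Spec.P1 Cfsg.Agent.R2.Spec.F1

/-- sizes of the coefficients of `S` -/
theorem SRel.sz {u k d : ℕ} {s a b c : ℤ} (hu : 2 ≤ u) (h : SRel u k d s a b c) :
    1 ≤ a ∧ a ≤ u + 1 ∧ 1 ≤ b ∧ b ≤ u + 1 ∧ b ≤ 3 * a ∧ a ≤ 3 * b ∧ (k = 0 → d * |c| ≤ u + 1) ∧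
      (k ≤ 1 → |c| ≤ u + 1) ∧ (k = 1 → |c| ≤ 2 ∧ a = 1 ∧ b = 1) ∧ |c| ≤ 2 * (u + 1) ^ 2 ∧ k ≤ 3 ∧ c ≠ 0 := by
  have hu' : (2 : ℤ) ≤ u := by exact_mod_cast hu
  have hle : ∀ {d : ℕ} {x y : ℤ}, 0 < y → (d : ℤ) * |x| = y → |x| ≤ y ∧ x ≠ 0 := by
    intro d x y hy h1
    have hx : x ≠ 0 := by
      rintro rfl
      rw [abs_zero, mul_zero] at h1
      omega
    have hd : d ≠ 0 := by
      rintro rfl
      rw [Nat.cast_zero, zero_mul] at h1
      omega
    refine ⟨?_, hx⟩
    have hd' : (1 : ℤ) ≤ d := by exact_mod_cast Nat.one_le_iff_ne_zero.2 hd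
    have h2 := abs_nonneg x
    nlinarith
  cases h with
  | A1 _ hs _ _ hd =>
    have hp : 0 < (u : ℤ) + s := by rcases hs with rfl | rfl <;> omega
    obtain ⟨h1, h2⟩ := hle hp hd
    refine ⟨by omega, by rcases hs with rfl | rfl <;> omega, by omega, by omega,
      by rcases hs with rfl | rfl <;> omega, by rcases hs with rfl | rfl <;> omega,
      fun _ => by rw [hd]; rcases hs with rfl | rfl <;> omega, fun _ => by rcases hs with rfl | rfl <;> omega,
      fun h => by omega, ?_, by omega, h2⟩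
    have : |c| ≤ u + 1 := by rcases hs with rfl | rfl <;> omega
    nlinarith
  | A2 _ hs _ _ hd =>
    have hp : 0 < (u : ℤ) + s := by rcases hs with rfl | rfl <;> omega
    obtain ⟨h1, h2⟩ := hle hp hd
    refine ⟨by omega, by omega, by omega, by rcases hs with rfl | rfl <;> omega,
      by rcases hs with rfl | rfl <;> omega, by rcases hs with rfl | rfl <;> omega,
      fun _ => by rw [hd]; rcases hs with rfl | rfl <;> omega, fun _ => by rcases hs with rfl | rfl <;> omega,
      fun h => by omega, ?_, by omega, h2⟩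
    have : |c| ≤ u + 1 := by rcases hs with rfl | rfl <;> omega
    nlinarith
  | C _ he =>
    have h1 : |c| ≤ 2 := by rcases he with h | h <;> omega
    refine ⟨by omega, by omega, by omega, by omega, by omega, by omega, fun h => by omega, fun _ => by omega,
      fun _ => ⟨h1, rfl, rfl⟩, by nlinarith, by omega, ?_⟩
    rintro rfl
    rw [abs_zero] at he
    omega
  | D1 _ hs _ hd4 _ hd =>
    have hp : 0 < (u : ℤ) + s := by rcases hs with rfl | rfl <;> omega
    obtain ⟨h1, h2⟩ := hle (pow_pos hp 2) hd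
    refine ⟨by omega, by rcases hs with rfl | rfl <;> omega, by omega, by omega,
      by rcases hs with rfl | rfl <;> omega, by rcases hs with rfl | rfl <;> omega,
      fun h => by omega, fun h => by omega, fun h => by omega, ?_, by omega, h2⟩
    rcases hs with rfl | rfl <;> nlinarith
  | D2 _ hs _ hd4 _ hd =>
    have hp : 0 < (u : ℤ) + s := by rcases hs with rfl | rfl <;> omega
    obtain ⟨h1, h2⟩ := hle (pow_pos hp 2) hd
    refine ⟨by omega, by omega, by omega, by rcases hs with rfl | rfl <;> omega,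
      by rcases hs with rfl | rfl <;> omega, by rcases hs with rfl | rfl <;> omega,
      fun h => by omega, fun h => by omega, fun h => by omega, ?_, by omega, h2⟩
    rcases hs with rfl | rfl <;> nlinarith
  | E1 _ hs _ hd4 _ hd =>
    have hp : 0 < (u : ℤ) + s := by rcases hs with rfl | rfl <;> omega
    have hp' : 0 < (u : ℤ) - s := by rcases hs with rfl | rfl <;> omega
    obtain ⟨h1, h2⟩ := hle (by positivity) hd
    refine ⟨by omega, by rcases hs with rfl | rfl <;> omega, by omega, by rcases hs with rfl | rfl <;> omega,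
      by rcases hs with rfl | rfl <;> omega, by rcases hs with rfl | rfl <;> omega,
      fun h => by omega, fun h => by omega, fun h => by omega, ?_, by omega, h2⟩
    rcases hs with rfl | rfl <;> nlinarith

/-- the exponent of the size of the isolated numbers of `S` -/
def szE : Fam → ℕ
  | .psl m => m - 2
  | .psu m => m - 2
  | .psp m => m
  | .oodd m => m
  | .oplus m => if m % 2 = 0 then m - 1 else m
  | .ominus m => m
  | _ => 0

theorem pow_half {u k : ℕ} (hu : 2 ≤ u) (hk : 4 ≤ k) : 16 ≤ u ^ k := by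
  calc 16 = 2 ^ 4 := by norm_num
    _ ≤ u ^ 4 := Nat.pow_le_pow_left hu 4
    _ ≤ u ^ k := Nat.pow_le_pow_right (by omega) hk

theorem pow_half3 {u k : ℕ} (hu : 2 ≤ u) (hk : 3 ≤ k) : 8 ≤ u ^ k := by
  calc 8 = 2 ^ 3 := by norm_num
    _ ≤ u ^ 3 := Nat.pow_le_pow_left hu 3
    _ ≤ u ^ k := Nat.pow_le_pow_right (by omega) hk

/-- lower bound of the isolated numbers of `S` -/
theorem lowS {t' : Fam} {u i' : ℕ} (hu : 2 ≤ u) (hr : 4 ≤ rk t') (hi : top t' i') :
    u ^ szE t' ≤ 8 * ttor t' u i' := by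
  cases t' with
  | psl m =>
    change 4 ≤ m at hr
    obtain ⟨hi3, hi⟩ := hi
    obtain ⟨h1, h2⟩ := val_psl (n := m) (q := u) (by omega) hu
    have hg : Nat.gcd m (u - 1) ≤ u - 1 := Nat.gcd_le_right _ (by omega)
    change u ^ (m - 2) ≤ _
    have e1 : u ^ m = u ^ (m - 2) * (u * u) := by rw [← pow_two, ← pow_add]; congr 1; omega
    have e2 : u ^ (m - 1) = u ^ (m - 2) * u := by rw [← pow_succ]; congr 1; omega
    have e3 := Nat.one_le_pow (m - 2) u (by omega)
    obtain ⟨w, rfl⟩ : ∃ w, u = w + 1 := ⟨u - 1, by omega⟩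
    rw [Nat.add_sub_cancel] at h1 h2 hg
    rcases hi with rfl | hi
    · have h3 : ttor (.psl i') (w + 1) i' * (Nat.gcd i' w * w) ≤ ttor (.psl i') (w + 1) i' * (w * w) :=
        Nat.mul_le_mul_left _ (Nat.mul_le_mul_right _ hg)
      rw [h1, e1] at h3
      have h4 : (w + 1) ^ (i' - 2) * (w * w) ≤ ttor (.psl i') (w + 1) i' * (w * w) := by
        refine le_trans ?_ h3
        have : (w + 1) ^ (i' - 2) * ((w + 1) * (w + 1)) =
          (w + 1) ^ (i' - 2) * (w * w) + (w + 1) ^ (i' - 2) * (2 * w + 1) := by ring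
        have h5 : 1 ≤ (w + 1) ^ (i' - 2) * (2 * w + 1) := Nat.one_le_iff_ne_zero.2 (by positivity)
        omega
      have := Nat.le_of_mul_le_mul_right h4 (Nat.mul_pos (by omega) (by omega))
      omega
    · obtain rfl : i' = m - 1 := by omega
      have h3 : ttor (.psl m) (w + 1) (m - 1) * Nat.gcd m w ≤ ttor (.psl m) (w + 1) (m - 1) * w :=
        Nat.mul_le_mul_left _ hg
      rw [h2, e2] at h3
      have h4 : (w + 1) ^ (m - 2) * w ≤ ttor (.psl m) (w + 1) (m - 1) * w := by
        refine le_trans ?_ h3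
        have : (w + 1) ^ (m - 2) * (w + 1) = (w + 1) ^ (m - 2) * w + (w + 1) ^ (m - 2) := by ring
        omega
      have := Nat.le_of_mul_le_mul_right h4 (by omega)
      omega
  | psu m =>
    change 4 ≤ m at hr
    obtain ⟨hi3, hi⟩ := hi
    obtain ⟨h1, h2⟩ := val_psu (n := m) (q := u) (by omega) hu
    have hg : Nat.gcd m (u + 1) ≤ u + 1 := Nat.gcd_le_right _ (by omega)
    change u ^ (m - 2) ≤ _
    have e1 : u ^ m = u ^ (m - 2) * (u * u) := by rw [← pow_two, ← pow_add]; congr 1; omega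
    have e2 : u ^ (m - 1) = u ^ (m - 2) * u := by rw [← pow_succ]; congr 1; omega
    have e3 := Nat.one_le_pow (m - 2) u (by omega)
    rcases hi with rfl | hi
    · have h3 : ttor (.psu i') u i' * (Nat.gcd i' (u + 1) * (u + 1)) ≤ ttor (.psu i') u i' * ((u + 1) * (u + 1)) :=
        Nat.mul_le_mul_left _ (Nat.mul_le_mul_right _ hg)
      rw [h1] at h3
      have h5 : u ^ i' - 1 ≤ (if i' % 2 = 0 then u ^ i' - 1 else u ^ i' + 1) := by split_ifs <;> omega
      have h6 := pow_half hu hr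
      have h4 : u ^ (i' - 2) * ((u + 1) * (u + 1)) ≤ (4 * ttor (.psu i') u i') * ((u + 1) * (u + 1)) := by
        have h7 : 4 * (u ^ i' - 1) ≤ 4 * (ttor (.psu i') u i' * ((u + 1) * (u + 1))) :=
          Nat.mul_le_mul_left _ (h5.trans h3)
        have h8 : u ^ (i' - 2) * ((u + 1) * (u + 1)) ≤ 3 * u ^ i' := by
          rw [e1]
          have : (u + 1) * (u + 1) ≤ 3 * (u * u) := by nlinarith
          calc u ^ (i' - 2) * ((u + 1) * (u + 1)) ≤ u ^ (i' - 2) * (3 * (u * u)) := Nat.mul_le_mul_left _ this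
            _ = 3 * (u ^ (i' - 2) * (u * u)) := by ring
        have h9 : 4 * (ttor (.psu i') u i' * ((u + 1) * (u + 1))) =
          (4 * ttor (.psu i') u i') * ((u + 1) * (u + 1)) := by ring
        omega
      have := Nat.le_of_mul_le_mul_right h4 (by positivity)
      omega
    · obtain rfl : i' = m - 1 := by omega
      have h3 : ttor (.psu m) u (m - 1) * Nat.gcd m (u + 1) ≤ ttor (.psu m) u (m - 1) * (u + 1) :=
        Nat.mul_le_mul_left _ hg
      rw [h2] at h3
      have h5 : u ^ (m - 1) - 1 ≤ (if m % 2 = 0 then u ^ (m - 1) + 1 else u ^ (m - 1) - 1) := by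
        split_ifs <;> omega
      have h6 : 8 ≤ u ^ (m - 1) := pow_half3 hu (by omega)
      have h4 : u ^ (m - 2) * (u + 1) ≤ (4 * ttor (.psu m) u (m - 1)) * (u + 1) := by
        have h7 : 4 * (u ^ (m - 1) - 1) ≤ 4 * (ttor (.psu m) u (m - 1) * (u + 1)) :=
          Nat.mul_le_mul_left _ (h5.trans h3)
        have h8 : u ^ (m - 2) * (u + 1) ≤ 2 * u ^ (m - 1) := by
          rw [e2]
          calc u ^ (m - 2) * (u + 1) ≤ u ^ (m - 2) * (2 * u) := Nat.mul_le_mul_left _ (by omega)
            _ = 2 * (u ^ (m - 2) * u) := by ring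
        have h9 : 4 * (ttor (.psu m) u (m - 1) * (u + 1)) = (4 * ttor (.psu m) u (m - 1)) * (u + 1) := by ring
        omega
      have := Nat.le_of_mul_le_mul_right h4 (by positivity)
      omega
  | psp m =>
    change 4 ≤ m at hr
    obtain ⟨h1, h2⟩ := val_psp (n := m) (q := u) (by omega) hu
    have hg : Nat.gcd 2 (u - 1) ≤ 2 := Nat.gcd_le_left _ (by norm_num)
    change u ^ m ≤ _
    have h6 := pow_half hu hr
    have hi' : i' = 2 * m ∨ (i' = m ∧ m % 2 = 1) := hi
    rcases hi' with rfl | ⟨rfl, -⟩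
    · have h3 := Nat.mul_le_mul_left (ttor (.psp m) u (2 * m)) hg
      omega
    · have h3 := Nat.mul_le_mul_left (ttor (.psp i') u i') hg
      omega
  | oodd m =>
    change 4 ≤ m at hr
    obtain ⟨h1, h2⟩ := val_psp (n := m) (q := u) (by omega) hu
    have hg : Nat.gcd 2 (u - 1) ≤ 2 := Nat.gcd_le_left _ (by norm_num)
    change u ^ m ≤ 8 * ttor (.psp m) u i'
    have h6 := pow_half hu hr
    have hi' : i' = 2 * m ∨ (i' = m ∧ m % 2 = 1) := hi
    rcases hi' with rfl | ⟨rfl, -⟩
    · have h3 := Nat.mul_le_mul_left (ttor (.psp m) u (2 * m)) hg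
      omega
    · have h3 := Nat.mul_le_mul_left (ttor (.psp i') u i') hg
      omega
  | oplus m =>
    change 4 ≤ m at hr
    have hi' : (i' = m ∧ m % 2 = 1) ∨ i' = 2 * (m - 1) ∨ (i' = m - 1 ∧ m % 2 = 0) := hi
    rcases Nat.mod_two_eq_zero_or_one m with hm | hm
    · obtain ⟨h1, h2⟩ := val_oplus_even (n := m) (q := u) hr hm hu
      have hg : Nat.gcd 2 (u - 1) ≤ 2 := Nat.gcd_le_left _ (by norm_num)
      rw [szE, if_pos hm]
      have h6 : 8 ≤ u ^ (m - 1) := pow_half3 hu (by omega)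
      rcases hi' with ⟨rfl, h⟩ | rfl | ⟨rfl, -⟩
      · omega
      · have h3 := Nat.mul_le_mul_left (ttor (.oplus m) u (2 * (m - 1))) hg
        omega
      · have h3 := Nat.mul_le_mul_left (ttor (.oplus m) u (m - 1)) hg
        omega
    · obtain ⟨h1, h2⟩ := val_oplus_odd (n := m) (q := u) (by omega) hm hu
      have hg : Nat.gcd 4 (u ^ m - 1) ≤ 4 := Nat.gcd_le_left _ (by norm_num)
      rw [szE, if_neg (by omega)]
      have h6 := pow_half hu hr
      have e2 : u ^ m = u ^ (m - 1) * u := by rw [← pow_succ]; congr 1; omega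
      rcases hi' with ⟨rfl, h⟩ | rfl | ⟨rfl, h⟩
      · have h3 := Nat.mul_le_mul_left (ttor (.oplus i') u i') hg
        omega
      · have h3 := Nat.mul_le_mul_left (ttor (.oplus m) u (2 * (m - 1))) hg
        have h4 : (u ^ (m - 1) + 1) * (u + 1) = u ^ (m - 1) * u + u ^ (m - 1) + (u + 1) := by ring
        omega
      · omega
  | ominus m =>
    change 4 ≤ m at hr
    have hi' : i' = 2 * m ∨ i' = 2 * (m - 1) ∨ (i' = m - 1 ∧ m % 2 = 0) := hi
    obtain ⟨h1, h2, h3⟩ := val_ominus (n := m) (q := u) (by omega) hu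
    have hg : Nat.gcd 4 (u ^ m + 1) ≤ 4 := Nat.gcd_le_left _ (by norm_num)
    change u ^ m ≤ _
    have e2 : u ^ m = u ^ (m - 1) * u := by rw [← pow_succ]; congr 1; omega
    have h6 : u ^ 2 ≤ u ^ (m - 1) := Nat.pow_le_pow_right (by omega) (by omega)
    rcases hi' with rfl | rfl | ⟨rfl, -⟩
    · have h4 := Nat.mul_le_mul_left (ttor (.ominus m) u (2 * m)) hg
      omega
    · have h4 := Nat.mul_le_mul_left (ttor (.ominus m) u (2 * (m - 1))) hg
      have h5 : u ^ (m - 1) * u ≤ 2 * ((u ^ (m - 1) + 1) * (u - 1)) := by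
        calc u ^ (m - 1) * u ≤ u ^ (m - 1) * (2 * (u - 1)) := Nat.mul_le_mul_left _ (by omega)
          _ = 2 * (u ^ (m - 1) * (u - 1)) := by ring
          _ ≤ 2 * ((u ^ (m - 1) + 1) * (u - 1)) :=
            Nat.mul_le_mul_left _ (Nat.mul_le_mul_right _ (by omega))
      omega
    · have h4 := Nat.mul_le_mul_left (ttor (.ominus m) u (m - 1)) hg
      have h5 : u ^ (m - 1) * u ≤ (u ^ (m - 1) - 1) * (u + 1) := by
        obtain ⟨x, hx⟩ : ∃ x, u ^ (m - 1) = x + 1 := ⟨u ^ (m - 1) - 1, by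
          have := Nat.one_le_pow (m - 1) u (by omega)
          omega⟩
        rw [hx, Nat.add_sub_cancel]
        have h7 : u ^ 2 ≤ x + 1 := by omega
        nlinarith
      omega
  | _ => exact hi.elim

end Cfsg.Agent.R2.Spec.E
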