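import Cfsg.Agent.R2.Spec.E.RelO

/-!
# The engine (helper29): the numbers of `L`

`LNum q D d M N a b c` : the relation `a M = b N + c` of the two isolated numbers of `L`, `q` odd:
* type I : `{a, b} = {q, q ± 1}`, `c` prime to `q`, `|c| ≤ (q + 1) ^ 2`;
* type II : `a = b = 1`, `c = ± 1`;
* `q ^ D ≤ 8 d M`.
-/

set_option autoImplicit false

namespace Cfsg.Agent.R2.Spec.E

open Cfsg Cfsg.Agent.H426.LieFam Cfsg.Agent.R2.Spec Cfsg.Agent.R2.Spec.P1 Cfsg.Agent.R2.Spec.F1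

/-- type I -/
def TypI (q : ℕ) (a b c : ℤ) : Prop :=
  (∃ s : ℤ, (s = 1 ∨ s = -1) ∧ ((a = q + s ∧ b = q) ∨ (a = q ∧ b = q + s)) ∧ c ∣ (q + s) ^ 2)

/-- type II -/
def TypII (a b c : ℤ) : Prop := a = 1 ∧ b = 1 ∧ (c = 1 ∨ c = -1)

structure LNum (q D d M N : ℕ) (a b c : ℤ) : Prop where
  rel : a * M = b * N + c
  typ : TypI q a b c ∨ TypII a b c
  copM : Nat.Coprime q M
  copN : Nat.Coprime q N
  lowM : q ^ D ≤ 8 * d * M
  lowN : q ^ D ≤ 8 * d * N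

/-- the exponent of the size -/
def dimL : Fam → ℕ
  | .psl n => n - 1
  | .psu n => n - 1
  | .psp n => n
  | .oodd n => n
  | .oplus n => if n % 2 = 0 then n - 1 else n
  | .ominus n => n
  | _ => 0

/-- the diagonal number -/
def dgL : Fam → ℕ → ℕ
  | .psl n, q => Nat.gcd n (q - 1)
  | .psu n, q => Nat.gcd n (q + 1)
  | _, _ => 1

theorem LNum.symm {q D d M N : ℕ} {a b c : ℤ} (h : LNum q D d M N a b c) : LNum q D d N M b a (-c) := by
  refine ⟨by linear_combination -h.rel, ?_, h.copN, h.copM, h.lowN, h.lowM⟩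
  rcases h.typ with ⟨s, hs, h1, h2⟩ | ⟨h1, h2, h3⟩
  · exact Or.inl ⟨s, hs, by tauto, (neg_dvd).2 h2⟩
  · exact Or.inr ⟨h2, h1, by rcases h3 with h3 | h3 <;> rw [h3] <;> simp⟩

theorem cop_of_mul {q x y z : ℕ} (h : x * y = z) (hz : Nat.Coprime q z) : Nat.Coprime q x :=
  Nat.Coprime.coprime_dvd_right ⟨y, h.symm⟩ hz

theorem cop_pow_sub {q k : ℕ} (hq : 1 ≤ q) (hk : 1 ≤ k) : Nat.Coprime q (q ^ k - 1) := by
  obtain ⟨j, rfl⟩ : ∃ j, k = j + 1 := ⟨k - 1, by omega⟩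
  have h1 := Nat.one_le_pow (j + 1) q hq
  rw [Nat.coprime_iff_gcd_eq_one]
  have h2 : Nat.gcd q (q ^ (j + 1) - 1) ∣ q ^ (j + 1) :=
    (Nat.gcd_dvd_left _ _).trans (dvd_pow_self q (by omega))
  have h3 := (Nat.dvd_sub h2 (Nat.gcd_dvd_right q (q ^ (j + 1) - 1)))
  rw [show q ^ (j + 1) - (q ^ (j + 1) - 1) = 1 by omega] at h3
  exact Nat.dvd_one.1 h3

theorem cop_pow_add {q k : ℕ} (hk : 1 ≤ k) : Nat.Coprime q (q ^ k + 1) := by
  obtain ⟨j, rfl⟩ : ∃ j, k = j + 1 := ⟨k - 1, by omega⟩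
  rw [Nat.coprime_iff_gcd_eq_one]
  have h2 : Nat.gcd q (q ^ (j + 1) + 1) ∣ q ^ (j + 1) :=
    (Nat.gcd_dvd_left _ _).trans (dvd_pow_self q (by omega))
  have h3 := (Nat.dvd_sub (Nat.gcd_dvd_right q (q ^ (j + 1) + 1)) h2)
  rw [show q ^ (j + 1) + 1 - q ^ (j + 1) = 1 by omega] at h3
  exact Nat.dvd_one.1 h3

theorem cop_sub {q : ℕ} (hq : 1 ≤ q) : Nat.Coprime q (q - 1) := by
  have := cop_pow_sub (q := q) (k := 1) hq le_rfl
  rwa [pow_one] at this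

theorem cop_add {q : ℕ} : Nat.Coprime q (q + 1) := by
  have := cop_pow_add (q := q) (k := 1) le_rfl
  rwa [pow_one] at this

theorem lnum_psl {n q : ℕ} (hn : 3 ≤ n) (hq : 3 ≤ q) : ∃ e : ℕ, e * Nat.gcd n (q - 1) = q - 1 ∧
    LNum q (n - 1) (Nat.gcd n (q - 1)) (ttor (.psl n) q n) (ttor (.psl n) q (n - 1)) (q - 1) q e := by
  obtain ⟨h1, h2⟩ := val_psl (n := n) (q := q) (by omega) (by omega)
  obtain ⟨e, he, h3⟩ := lin_psl (n := n) (q := q) (by omega) (by omega)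
  have hp := Nat.one_le_pow n q (by omega)
  have hp' := Nat.one_le_pow (n - 1) q (by omega)
  have hpn : q ^ n = q * q ^ (n - 1) := by rw [← pow_succ']; congr 1; omega
  have hq1 : ((q - 1 : ℕ) : ℤ) = (q : ℤ) - 1 := by push_cast [Nat.cast_sub (show 1 ≤ q by omega)]; ring
  refine ⟨e, he, ⟨?_, ?_, ?_, ?_, ?_, ?_⟩⟩
  · have := h3.eq
    linear_combination this
  · refine Or.inl ⟨-1, Or.inr rfl, Or.inl ⟨by ring, rfl⟩, ?_⟩
    rw [← sub_eq_add_neg, ← hq1, pow_two]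
    exact_mod_cast (Dvd.intro _ he).mul_right (q - 1)
  · exact cop_of_mul h1 (cop_pow_sub (by omega) (by omega))
  · exact cop_of_mul h2 (cop_pow_sub (by omega) (by omega))
  · -- `q ^ (n-1) * (q-1) ≤ q ^ n - 1 = M d (q - 1)`
    obtain ⟨r, rfl⟩ : ∃ r, q = r + 1 := ⟨q - 1, by omega⟩
    rw [Nat.add_sub_cancel] at *
    have h4 : (r + 1) ^ (n - 1) * r ≤ (r + 1) ^ n - 1 := by
      rw [hpn, Nat.add_mul, one_mul, mul_comm ((r + 1) ^ (n - 1)) r]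
      omega
    rw [← h1, ← mul_assoc] at h4
    have h5 := Nat.le_of_mul_le_mul_right h4 (by omega)
    calc (r + 1) ^ (n - 1) ≤ _ := h5
      _ ≤ 8 * Nat.gcd n r * ttor (.psl n) (r + 1) n := by nlinarith [Nat.zero_le (ttor (.psl n) (r + 1) n * Nat.gcd n r)]
  · have h6 : 2 ≤ q ^ (n - 1) := by
      calc 2 ≤ q := by omega
        _ ≤ q ^ (n - 1) := Nat.le_self_pow (by omega) q
    have h7 : q ^ (n - 1) ≤ 2 * (ttor (.psl n) q (n - 1) * Nat.gcd n (q - 1)) := by omega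
    nlinarith [Nat.zero_le (ttor (.psl n) q (n - 1) * Nat.gcd n (q - 1))]

theorem lnum_psu {n q : ℕ} (hn : 3 ≤ n) (hq : 3 ≤ q) : ∃ e : ℕ, e * Nat.gcd n (q + 1) = q + 1 ∧
    LNum q (n - 1) (Nat.gcd n (q + 1)) (ttor (.psu n) q n) (ttor (.psu n) q (n - 1)) (q + 1) q
      (if n % 2 = 0 then -(e : ℤ) else e) := by
  obtain ⟨h1, h2⟩ := val_psu (n := n) (q := q) (by omega) (by omega)
  obtain ⟨e, he, h3⟩ := lin_psu (n := n) (q := q) (by omega) (by omega)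
  have hp := Nat.one_le_pow n q (by omega)
  have hp' := Nat.one_le_pow (n - 1) q (by omega)
  have hpn : q ^ n = q * q ^ (n - 1) := by rw [← pow_succ']; congr 1; omega
  have h6 : 9 ≤ q ^ (n - 1) := by
    calc 9 = 3 ^ 2 := by norm_num
      _ ≤ q ^ 2 := Nat.pow_le_pow_left hq 2
      _ ≤ q ^ (n - 1) := Nat.pow_le_pow_right (by omega) (by omega)
  refine ⟨e, he, ⟨?_, ?_, ?_, ?_, ?_, ?_⟩⟩
  · have := h3.eq
    linear_combination this
  · refine Or.inl ⟨1, Or.inl rfl, Or.inl ⟨by ring, rfl⟩, ?_⟩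
    have h8 : (e : ℤ) ∣ ((q : ℤ) + 1) ^ 2 := by
      rw [pow_two]
      exact_mod_cast (Dvd.intro _ he).mul_right (q + 1)
    split_ifs
    · exact neg_dvd.2 h8
    · exact h8
  · refine cop_of_mul h1 ?_
    split_ifs
    · exact cop_pow_sub (by omega) (by omega)
    · exact cop_pow_add (by omega)
  · refine cop_of_mul h2 ?_
    split_ifs
    · exact cop_pow_add (by omega)
    · exact cop_pow_sub (by omega) (by omega)
  · have h4 : q ^ (n - 1) * (q + 1) ≤ 2 * (ttor (.psu n) q n * (Nat.gcd n (q + 1) * (q + 1))) := by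
      rw [h1]
      have h9 : q ^ (n - 1) * (q + 1) = q ^ n + q ^ (n - 1) := by rw [hpn]; ring
      have h10 : 3 * q ^ (n - 1) ≤ q ^ n := by rw [hpn]; exact Nat.mul_le_mul_right _ hq
      rw [h9]
      split_ifs <;> omega
    have h5 : q ^ (n - 1) * (q + 1) ≤ (2 * (ttor (.psu n) q n * Nat.gcd n (q + 1))) * (q + 1) := by
      calc _ ≤ _ := h4
        _ = _ := by ring
    have h7 := Nat.le_of_mul_le_mul_right h5 (by omega)
    nlinarith [Nat.zero_le (ttor (.psu n) q n * Nat.gcd n (q + 1))]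
  · have h7 : q ^ (n - 1) ≤ 2 * (ttor (.psu n) q (n - 1) * Nat.gcd n (q + 1)) := by
      rw [h2]
      split_ifs <;> omega
    nlinarith [Nat.zero_le (ttor (.psu n) q (n - 1) * Nat.gcd n (q + 1))]

theorem lnum_psp {n q : ℕ} (hn : 1 ≤ n) (hq : 3 ≤ q) (hq2 : q % 2 = 1) :
    LNum q n 1 (ttor (.psp n) q (2 * n)) (ttor (.psp n) q n) 1 1 1 := by
  obtain ⟨h1, h2⟩ := val_psp (n := n) (q := q) (by omega) (by omega)
  rw [gcd_two_odd hq2] at h1 h2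
  have h3 := Nat.one_le_pow n q (by omega)
  have h4 : 3 ≤ q ^ n := hq.trans (Nat.le_self_pow (by omega) q)
  have h5 : ttor (.psp n) q (2 * n) = ttor (.psp n) q n + 1 := by omega
  refine ⟨by rw [h5]; push_cast; ring, Or.inr ⟨rfl, rfl, Or.inl rfl⟩, ?_, ?_, by omega, by omega⟩
  · exact cop_of_mul h1 (cop_pow_add (by omega))
  · exact cop_of_mul h2 (cop_pow_sub (by omega) (by omega))

theorem lnum_oplus_even {n q : ℕ} (hn : 4 ≤ n) (hn2 : n % 2 = 0) (hq : 3 ≤ q) (hq2 : q % 2 = 1) :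
    LNum q (n - 1) 1 (ttor (.oplus n) q (2 * (n - 1))) (ttor (.oplus n) q (n - 1)) 1 1 1 := by
  obtain ⟨h1, h2⟩ := val_oplus_even (n := n) (q := q) (by omega) hn2 (by omega)
  rw [gcd_two_odd hq2] at h1 h2
  have h3 := Nat.one_le_pow (n - 1) q (by omega)
  have h4 : 3 ≤ q ^ (n - 1) := hq.trans (Nat.le_self_pow (by omega) q)
  have h5 : ttor (.oplus n) q (2 * (n - 1)) = ttor (.oplus n) q (n - 1) + 1 := by omega
  refine ⟨by rw [h5]; push_cast; ring, Or.inr ⟨rfl, rfl, Or.inl rfl⟩, ?_, ?_, by omega, by omega⟩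
  · exact cop_of_mul h1 (cop_pow_add (by omega))
  · exact cop_of_mul h2 (cop_pow_sub (by omega) (by omega))

theorem lnum_oplus_odd {n q : ℕ} (hn : 3 ≤ n) (hn2 : n % 2 = 1) (hq : 3 ≤ q) :
    ∃ e : ℕ, e * Nat.gcd 4 (q ^ n - 1) = (q + 1) ^ 2 ∧
      LNum q n 1 (ttor (.oplus n) q n) (ttor (.oplus n) q (2 * (n - 1))) (q + 1) q (-(e : ℤ)) := by
  obtain ⟨h1, h2⟩ := val_oplus_odd (n := n) (q := q) (by omega) hn2 (by omega)
  obtain ⟨e, he, h3⟩ := lin_oplus_odd (n := n) (q := q) (by omega) hn2 (by omega)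
  have h4 : Nat.gcd 4 (q ^ n - 1) ≤ 4 := Nat.gcd_le_left _ (by norm_num)
  have h5 := Nat.one_le_pow n q (by omega)
  have hpn : q ^ n = q * q ^ (n - 1) := by rw [← pow_succ']; congr 1; omega
  refine ⟨e, he, ⟨?_, ?_, ?_, ?_, ?_, ?_⟩⟩
  · have := h3.eq
    linear_combination this
  · refine Or.inl ⟨1, Or.inl rfl, Or.inl ⟨by ring, rfl⟩, ?_⟩
    exact neg_dvd.2 (by exact_mod_cast (Dvd.intro _ he))
  · exact cop_of_mul h1 (cop_pow_sub (by omega) (by omega))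
  · exact cop_of_mul h2 (Nat.Coprime.mul_right (cop_pow_add (by omega)) cop_add)
  · have h6 : ttor (.oplus n) q n * Nat.gcd 4 (q ^ n - 1) ≤ ttor (.oplus n) q n * 4 := Nat.mul_le_mul_left _ h4
    have h7 : 3 ≤ q ^ n := hq.trans (Nat.le_self_pow (by omega) q)
    omega
  · have h6 : ttor (.oplus n) q (2 * (n - 1)) * Nat.gcd 4 (q ^ n - 1) ≤ ttor (.oplus n) q (2 * (n - 1)) * 4 :=
      Nat.mul_le_mul_left _ h4
    have h7 : q ^ n ≤ (q ^ (n - 1) + 1) * (q + 1) := by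
      rw [hpn]
      nlinarith [Nat.zero_le (q ^ (n - 1))]
    omega

theorem lnum_ominus {n q : ℕ} (hn : 3 ≤ n) (hq : 3 ≤ q) :
    ∃ e : ℕ, e * Nat.gcd 4 (q ^ n + 1) = (q - 1) ^ 2 ∧
      LNum q n 1 (ttor (.ominus n) q (2 * n)) (ttor (.ominus n) q (2 * (n - 1))) (q - 1) q (-(e : ℤ)) := by
  obtain ⟨h1, h2, -⟩ := val_ominus (n := n) (q := q) (by omega) (by omega)
  obtain ⟨e, he, h3⟩ := lin_ominus (n := n) (q := q) (by omega) (by omega)
  have h4 : Nat.gcd 4 (q ^ n + 1) ≤ 4 := Nat.gcd_le_left _ (by norm_num)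
  have h5 := Nat.one_le_pow n q (by omega)
  have hpn : q ^ n = q * q ^ (n - 1) := by rw [← pow_succ']; congr 1; omega
  have hq1 : ((q - 1 : ℕ) : ℤ) = (q : ℤ) - 1 := by push_cast [Nat.cast_sub (show 1 ≤ q by omega)]; ring
  refine ⟨e, he, ⟨?_, ?_, ?_, ?_, ?_, ?_⟩⟩
  · have := h3.eq
    linear_combination this
  · refine Or.inl ⟨-1, Or.inr rfl, Or.inl ⟨by ring, rfl⟩, ?_⟩
    rw [← sub_eq_add_neg, ← hq1]
    exact neg_dvd.2 (by exact_mod_cast (Dvd.intro _ he))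
  · exact cop_of_mul h1 (cop_pow_add (by omega))
  · exact cop_of_mul h2 (Nat.Coprime.mul_right (cop_pow_add (by omega)) (cop_sub (by omega)))
  · have h6 : ttor (.ominus n) q (2 * n) * Nat.gcd 4 (q ^ n + 1) ≤ ttor (.ominus n) q (2 * n) * 4 :=
      Nat.mul_le_mul_left _ h4
    omega
  · have h6 : ttor (.ominus n) q (2 * (n - 1)) * Nat.gcd 4 (q ^ n + 1) ≤ ttor (.ominus n) q (2 * (n - 1)) * 4 :=
      Nat.mul_le_mul_left _ h4
    have h7 : q ^ n ≤ 2 * ((q ^ (n - 1) + 1) * (q - 1)) := by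
      obtain ⟨r, rfl⟩ : ∃ r, q = r + 1 := ⟨q - 1, by omega⟩
      rw [hpn, Nat.add_sub_cancel]
      have h8 := Nat.zero_le ((r + 1) ^ (n - 1))
      nlinarith
    omega

theorem f_q {p f : ℕ} (hp : p.Prime) (hp2 : p ≠ 2) (hf : 1 ≤ f) : 3 ≤ p ^ f ∧ (p ^ f) % 2 = 1 := by
  have h1 : p % 2 = 1 := Nat.odd_iff.1 (hp.odd_of_ne_two hp2)
  have h2 := Nat.le_self_pow (show f ≠ 0 by omega) p
  have h3 := hp.two_le
  exact ⟨by omega, pow_odd h1 f⟩

/-- **The relation of the two numbers of `L`.** -/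
theorem lnum {t : Fam} {p f i j : ℕ} (hp : p.Prime) (hp2 : p ≠ 2) (hf : 1 ≤ f) (hr : 4 ≤ rk t) (h : PairOK t i j) :
    ∃ a b c : ℤ, LNum (p ^ f) (dimL t) (dgL t (p ^ f)) (ttor t (p ^ f) i) (ttor t (p ^ f) j) a b c := by
  obtain ⟨hq3, hq2⟩ := f_q hp hp2 hf
  obtain ⟨q, hq⟩ : ∃ q, q = p ^ f := ⟨_, rfl⟩
  rw [← hq] at hq3 hq2 ⊢
  cases t with
  | psl n =>
    change 4 ≤ n at hr
    obtain ⟨e, -, h1⟩ := lnum_psl (n := n) (q := q) (by omega) hq3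
    rcases h with ⟨rfl, h2⟩ | ⟨h2, rfl⟩
    · obtain rfl : j = i - 1 := by omega
      exact ⟨_, _, _, h1⟩
    · obtain rfl : i = j - 1 := by omega
      exact ⟨_, _, _, h1.symm⟩
  | psu n =>
    change 4 ≤ n at hr
    obtain ⟨e, -, h1⟩ := lnum_psu (n := n) (q := q) (by omega) hq3
    rcases h with ⟨rfl, h2⟩ | ⟨h2, rfl⟩
    · obtain rfl : j = i - 1 := by omega
      exact ⟨_, _, _, h1⟩
    · obtain rfl : i = j - 1 := by omega
      exact ⟨_, _, _, h1.symm⟩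
  | psp n =>
    change 4 ≤ n at hr
    have h1 := lnum_psp (n := n) (q := q) (by omega) hq3 hq2
    obtain ⟨-, ⟨rfl, rfl⟩ | ⟨rfl, rfl⟩⟩ := h
    · exact ⟨_, _, _, h1.symm⟩
    · exact ⟨_, _, _, h1⟩
  | oodd n =>
    change 4 ≤ n at hr
    have h1 := lnum_psp (n := n) (q := q) (by omega) hq3 hq2
    obtain ⟨-, ⟨rfl, rfl⟩ | ⟨rfl, rfl⟩⟩ := h
    · exact ⟨_, _, _, h1.symm⟩
    · exact ⟨_, _, _, h1⟩
  | oplus n =>
    change 4 ≤ n at hr
    rcases h with ⟨h0, h2⟩ | ⟨h0, h2⟩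
    · obtain ⟨e, -, h1⟩ := lnum_oplus_odd (n := n) (q := q) (by omega) h0 hq3
      have hd : dimL (.oplus n) = n := by rw [dimL, if_neg (by omega)]
      rw [hd]
      rcases h2 with ⟨rfl, rfl⟩ | ⟨rfl, rfl⟩
      · exact ⟨_, _, _, h1⟩
      · exact ⟨_, _, _, h1.symm⟩
    · have h1 := lnum_oplus_even (n := n) (q := q) hr h0 hq3 hq2
      have hd : dimL (.oplus n) = n - 1 := by rw [dimL, if_pos h0]
      rw [hd]
      rcases h2 with ⟨rfl, rfl⟩ | ⟨rfl, rfl⟩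
      · exact ⟨_, _, _, h1.symm⟩
      · exact ⟨_, _, _, h1⟩
  | ominus n =>
    change 4 ≤ n at hr
    obtain ⟨e, -, h1⟩ := lnum_ominus (n := n) (q := q) (by omega) hq3
    rcases h with ⟨rfl, rfl⟩ | ⟨rfl, rfl⟩
    · exact ⟨_, _, _, h1⟩
    · exact ⟨_, _, _, h1.symm⟩
  | _ => exact h.elim

end Cfsg.Agent.R2.Spec.E
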