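import Cfsg.Agent.R2.Spec.E.NonCCore
import Cfsg.Agent.R2.Spec.E.HOdd
import Cfsg.Agent.R2.Spec.X5.TorB
import Cfsg.Agent.R2.Spec.F1.TwoTor

/-!
# S3435, packet NON-C (helper10)

`nonC : NonC 872` : `S = PSp_2m(u)`, `Ω_{2m+1}(u)`, the second class is not isolated.
-/

set_option autoImplicit false

namespace Cfsg.Agent.R2.Spec.E

open Cfsg Cfsg.Agent.H426.LieFam Cfsg.Agent.R2.Spec Cfsg.Agent.R2.Spec.P1 Cfsg.Agent.R2.Spec.F1
open Cfsg.Agent.R2.Spec.P1.Eig (AN AN_one AN_neg)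
open Cfsg.Agent.R2.Spec.X5 (sp_AN elt_AN psp_of_sp odd_of_elt)

universe u

/-- **Two tori**, `k + b ≤ m`. -/
theorem torC {t : Fam} {p f m : ℕ} {X : Type u} [Group X] (h : Fam.Is p f X t)
    (ht : t = .psp m ∨ t = .oodd m) {k b : ℕ} (hk : 1 ≤ k) (hb : 1 ≤ b) (hkm : k + b ≤ m) {δ δ' : ℤ}
    (hδ : δ = 1 ∨ δ = -1) (hδ' : δ' = 1 ∨ δ' = -1) :
    ∃ x : X, ∃ c, c ∣ 2 ∧ orderOf x * c = Nat.lcm (AN δ k (p ^ f)) (AN δ' b (p ^ f)) := by
  rcases ht with rfl | rfl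
  · obtain ⟨hm, -, F, _, _, hch, hF, ⟨E⟩⟩ := h
    rw [← Nat.card_eq_fintype_card] at hF
    obtain ⟨A, hA⟩ := sp_AN (F := F) hδ hk
    obtain ⟨B, hB⟩ := sp_AN (F := F) hδ' hb
    obtain ⟨C, hC⟩ := Cfsg.Agent.H376.SpEmb.exists_block (n := m) hkm A hA B hB
    rw [hF] at hC
    obtain ⟨x, c, hc, hx⟩ := psp_of_sp hC
    exact ⟨E.symm x, c, hc, by rw [MulEquiv.orderOf_eq, hx]⟩
  · obtain ⟨hm, hodd, F, _, _, hch, hF, ⟨E⟩⟩ := h
    have h1 := (elt_AN (F := F) hδ hk).prod (elt_AN hδ' hb)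
    rw [Nat.card_eq_fintype_card, hF] at h1
    have h2 : (2 : F) ≠ 0 := two_ne_of_odd (by rw [hF]; exact hodd)
    obtain ⟨x, c, hc, hx⟩ := odd_of_elt h2 hm hkm h1
    exact ⟨E.symm x, c, hc, by rw [MulEquiv.orderOf_eq, hx]⟩

theorem cast_AN {δ : ℤ} (hδ : δ = 1 ∨ δ = -1) {k q : ℕ} (hq : 1 ≤ q) : ((AN δ k q : ℕ) : ℤ) = (q : ℤ) ^ k - δ := by
  rcases hδ with rfl | rfl
  · rw [AN_one, Nat.cast_sub (Nat.one_le_pow _ _ hq)]
    push_cast
    ring
  · rw [AN_neg]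
    push_cast
    ring

/-- the sign of a class -/
def sgn' (j : ℕ) : ℤ := if j % 2 = 1 then 1 else -1

theorem sgn'_pm (j : ℕ) : sgn' j = 1 ∨ sgn' j = -1 := by
  unfold sgn'
  split_ifs
  · exact Or.inl rfl
  · exact Or.inr rfl

/-- a prime of the class `j` divides `u ^ eta j - sgn' j` -/
theorem dvd_AN_of_cls {t : Fam} {m u w j : ℕ} (ht : t = .psp m ∨ t = .oodd m) (hw : w.Prime)
    (hc : cls t u w = j) (hj : 1 ≤ j) (hu : 1 ≤ u) : w ∣ AN (sgn' j) (eta j) u := by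
  have := Fact.mk hw
  have h1 : orderOf (u : ZMod w) = j := by
    rw [← hc, cls]
    rcases ht with rfl | rfl <;> simp [sg]
  have h2 := pow_orderOf_eq_one (u : ZMod w)
  rw [h1] at h2
  rcases Nat.mod_two_eq_zero_or_one j with h3 | h3
  · obtain ⟨i, rfl⟩ : ∃ i, j = 2 * i := ⟨j / 2, by omega⟩
    have he : eta (2 * i) = i := by rw [eta, if_pos h3]; omega
    rw [he, sgn', if_neg (by omega), AN_neg]
    rw [mul_comm, pow_mul] at h2
    have h4 : ((u : ZMod w)) ^ i = 1 ∨ ((u : ZMod w)) ^ i = -1 := by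
      have h5 : (((u : ZMod w)) ^ i - 1) * (((u : ZMod w)) ^ i + 1) = 0 := by linear_combination h2
      rcases mul_eq_zero.1 h5 with h6 | h6
      · exact Or.inl (sub_eq_zero.1 h6)
      · exact Or.inr (eq_neg_of_add_eq_zero_left h6)
    rcases h4 with h4 | h4
    · exfalso
      have h5 := orderOf_dvd_of_pow_eq_one h4
      rw [h1] at h5
      have := Nat.le_of_dvd (by omega) h5
      omega
    · rw [← ZMod.natCast_eq_zero_iff]
      push_cast
      rw [h4]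
      ring
  · have he : eta j = j := by rw [eta, if_neg (by omega)]
    rw [he, sgn', if_pos h3, AN_one, ← ZMod.natCast_eq_zero_iff, Nat.cast_sub (Nat.one_le_pow _ _ hu)]
    push_cast
    rw [h2, sub_self]

section

variable {t : Fam} {p f i j : ℕ} {t' : Fam} {v f' i' j' w H : ℕ} {S : Type} [Group S] [Finite S]

/-- the orders of the tori containing `w` -/
theorem Duel.torN (h : Duel t p f i j t' v f' i' j' w H S) {m : ℕ} (ht : t' = .psp m ∨ t' = .oodd m)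
    {b : ℕ} (hb : 1 ≤ b) (hkm : eta j' + b ≤ m) {δ' : ℤ} (hδ' : δ' = 1 ∨ δ' = -1) :
    ∃ c, c ∣ 2 ∧ Nat.lcm (AN (sgn' j') (eta j') (v ^ f')) (AN δ' b (v ^ f')) ∣ ttor t (p ^ f) j * c ∧
      ∃ o, o * c = Nat.lcm (AN (sgn' j') (eta j') (v ^ f')) (AN δ' b (v ^ f')) ∧ o ∣ ttor t (p ^ f) j := by
  have hj3 := h.j'3
  have hk := one_le_eta (k := j') (by omega)
  have hu := h.u_two
  obtain ⟨x, c, hc, hx⟩ := torC h.is ht hk hb hkm (sgn'_pm j') hδ'
  have h1 : w ∣ orderOf x * c := by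
    rw [hx]
    exact (dvd_AN_of_cls ht h.w_prime h.clsw' (by omega) (by omega)).trans (Nat.dvd_lcm_left _ _)
  have h2 : w ∣ orderOf x := by
    rcases h.w_prime.dvd_mul.1 h1 with h3 | h3
    · exact h3
    · exfalso
      have h4 := Nat.le_of_dvd (by norm_num) (h3.trans hc)
      have := h.w5
      omega
  have h3 := h.ordw x h2
  exact ⟨c, hc, by rw [← hx]; exact Nat.mul_dvd_mul_right h3 c, orderOf x, hx, h3⟩

theorem AN_odd {δ : ℤ} (hδ : δ = 1 ∨ δ = -1) {k u : ℕ} (hk : 1 ≤ k) (hu : 2 ≤ u) (h : u % 2 = 0) :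
    Odd (AN δ k u) := by
  have h2 : u ^ k % 2 = 0 := by
    obtain ⟨l, rfl⟩ : ∃ l, k = l + 1 := ⟨k - 1, by omega⟩
    rw [pow_succ, Nat.mul_mod, h, mul_zero, Nat.zero_mod]
  have h3 := Nat.one_le_pow k u (by omega)
  rw [Nat.odd_iff]
  rcases hδ with rfl | rfl
  · rw [AN_one]; omega
  · rw [AN_neg]; omega

/-- both blocks divide `g N` -/
theorem Duel.blkN (h : Duel t p f i j t' v f' i' j' w H S) {m : ℕ} (ht : t' = .psp m ∨ t' = .oodd m)
    {b : ℕ} (hb : 1 ≤ b) (hkm : eta j' + b ≤ m) {δ' : ℤ} (hδ' : δ' = 1 ∨ δ' = -1) {g : ℕ}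
    (hg : (g = 1 ∧ (v ^ f') % 2 = 0) ∨ (g = 2 ∧ (v ^ f') % 2 = 1)) :
    AN (sgn' j') (eta j') (v ^ f') ∣ g * ttor t (p ^ f) j ∧ AN δ' b (v ^ f') ∣ g * ttor t (p ^ f) j := by
  have hj3 := h.j'3
  have hk := one_le_eta (k := j') (by omega)
  have hu := h.u_two
  obtain ⟨c, hc, h1, o, ho, -⟩ := h.torN ht hb hkm hδ'
  have h2 : Nat.lcm (AN (sgn' j') (eta j') (v ^ f')) (AN δ' b (v ^ f')) ∣ g * ttor t (p ^ f) j := by
    refine h1.trans ?_
    rw [mul_comm]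
    refine Nat.mul_dvd_mul_right ?_ _
    rcases hg with ⟨hg, hu2⟩ | ⟨hg, hu2⟩
    · rw [hg]
      have h3 : Odd (Nat.lcm (AN (sgn' j') (eta j') (v ^ f')) (AN δ' b (v ^ f'))) :=
        odd_lcm (AN_odd (sgn'_pm j') hk hu hu2) (AN_odd hδ' hb hu hu2)
      rw [← ho] at h3
      have h4 : Odd c := (Nat.odd_mul.1 h3).2
      have h5 := (Nat.dvd_prime Nat.prime_two).1 hc
      rcases h5 with h5 | h5
      · rw [h5]
      · rw [h5] at h4
        exact absurd h4 (by decide)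
    · rw [hg]
      exact hc
  exact ⟨(Nat.dvd_lcm_left _ _).trans h2, (Nat.dvd_lcm_right _ _).trans h2⟩

/-- the second number is even if `u` is odd -/
theorem Duel.two_dvd_N (h : Duel t p f i j t' v f' i' j' w H S) {m : ℕ} (ht : t' = .psp m ∨ t' = .oodd m)
    (hkm : eta j' + 1 ≤ m) (hu : (v ^ f') % 2 = 1) : 2 ∣ ttor t (p ^ f) j := by
  obtain ⟨δ', hδ', h4⟩ : ∃ δ' : ℤ, (δ' = 1 ∨ δ' = -1) ∧ 4 ∣ AN δ' 1 (v ^ f') := by
    have h1 : (v ^ f') % 4 = 1 ∨ (v ^ f') % 4 = 3 := by omega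
    rcases h1 with h1 | h1
    · exact ⟨1, Or.inl rfl, by rw [AN_one, pow_one]; omega⟩
    · exact ⟨-1, Or.inr rfl, by rw [AN_neg, pow_one]; omega⟩
  obtain ⟨c, hc, -, o, ho, h1⟩ := h.torN ht le_rfl hkm hδ'
  have h2 : 4 ∣ o * c := by
    rw [ho]
    exact h4.trans (Nat.dvd_lcm_right _ _)
  have h3 : 2 * 2 ∣ o * 2 := h2.trans (Nat.mul_dvd_mul_left o hc)
  exact (Nat.dvd_of_mul_dvd_mul_right (by norm_num) h3).trans h1

/-- the cofactor divides `f'` -/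
theorem Duel.H_dvd_f (h : Duel t p f i j t' v f' i' j' w H S) {m : ℕ} (ht : t' = .psp m ∨ t' = .oodd m)
    (hj : ¬ top t' j') (hkm : eta j' + 1 ≤ m) : H ∣ f' := by
  have h1 := (h.H_dvd hj).1
  have h2 : ¬ 2 ∣ H := by
    by_cases hv : v = 2
    · have h3 := h.not_dvd_H hj h.v_prime (Or.inl rfl) (Or.inl rfl)
      rwa [hv] at h3
    · intro h3
      have h4 : (v ^ f') % 2 = 1 := pow_odd (Nat.odd_iff.1 (h.v_prime.odd_of_ne_two hv)) f'
      have h5 := Nat.dvd_gcd (h3.trans h.H_dvd_M) (h.two_dvd_N ht hkm h4)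
      rw [h.copMN] at h5
      omega
  have h3 : Nat.Coprime H (2 ^ 3) := Nat.Coprime.pow_right 3 ((Nat.coprime_two_right).2 (by
    rw [← Nat.not_even_iff_odd, even_iff_two_dvd]
    exact h2))
  exact h3.dvd_of_dvd_mul_left h1

theorem dimL_pos {t : Fam} {i j : ℕ} (hr : 4 ≤ rk t) (h : PairOK t i j) : 1 ≤ dimL t := by
  cases t with
  | psl n => change 4 ≤ n at hr; change 1 ≤ n - 1; omega
  | psu n => change 4 ≤ n at hr; change 1 ≤ n - 1; omega
  | psp n => change 4 ≤ n at hr; change 1 ≤ n; omega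
  | oodd n => change 4 ≤ n at hr; change 1 ≤ n; omega
  | oplus n =>
    change 4 ≤ n at hr
    rw [dimL]
    split_ifs <;> omega
  | ominus n => change 4 ≤ n at hr; change 1 ≤ n; omega
  | _ => exact h.elim

end

/-- **The packet `NON-C`.** -/
theorem nonC : NonC 872 := by
  intro t p f i j t' v f' i' j' w H S _ _ hr ht hrk hj h
  obtain ⟨m, ht⟩ := ht
  have hm : 4 ≤ m := by
    rcases ht with rfl | rfl
    · exact hrk
    · exact hrk
  have hj3 := h.j'3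
  have hk1 := one_le_eta (k := j') (by omega)
  have hu := h.u_two
  -- the class `j'`
  have hmem : eta j' ≤ m := by
    have := h.memj'
    rcases ht with rfl | rfl
    · exact this
    · exact this
  have htop : ¬ (j' = 2 * m ∨ (j' = m ∧ m % 2 = 1)) := by
    intro h1
    apply hj
    rcases ht with rfl | rfl
    · exact h1
    · exact h1
  have hkm : eta j' + 1 ≤ m ∧ 2 ≤ eta j' := by
    rcases eta_cases j' with ⟨h5, h6⟩ | ⟨h5, h6⟩
    · rw [Nat.odd_iff] at h5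
      constructor
      · by_contra hlt
        exact htop (Or.inr (by omega))
      · omega
    · rw [Nat.even_iff] at h5
      constructor
      · by_contra hlt
        exact htop (Or.inl (by omega))
      · omega
  obtain ⟨e, he⟩ : ∃ e, m = eta j' + e := ⟨m - eta j', by omega⟩
  by_cases hII : FamII t ∧ (v ^ f' = 2 ∨ v ^ f' = 3)
  · exact Or.inr hII
  left
  obtain ⟨a, b, c, hL, hL2⟩ := lnum' h.p_prime h.p_ne h.f_pos hr h.pair
  -- the number `P`
  obtain ⟨g, hg⟩ : ∃ g, g = Nat.gcd 2 (v ^ f' - 1) := ⟨_, rfl⟩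
  have hg' : (g = 1 ∧ (v ^ f') % 2 = 0) ∨ (g = 2 ∧ (v ^ f') % 2 = 1) := by
    rcases Nat.mod_two_eq_zero_or_one (v ^ f') with h1 | h1
    · left; exact ⟨by rw [hg, gcd_two_even hu h1], h1⟩
    · right; exact ⟨by rw [hg, gcd_two_odd h1], h1⟩
  obtain ⟨em, hem, hP⟩ : ∃ em : ℤ, (em = 1 ∨ em = -1) ∧
      (g : ℤ) * (ttor t' (v ^ f') i' : ℕ) = ((v ^ f' : ℕ) : ℤ) ^ (eta j' + e) - em := by
    obtain ⟨h1, h2⟩ := val_psp (n := m) (q := v ^ f') (by omega) hu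
    rw [← hg] at h1 h2
    have h3 := Nat.one_le_pow m (v ^ f') (by omega)
    have htt : ttor t' (v ^ f') i' = ttor (.psp m) (v ^ f') i' := by
      rcases ht with rfl | rfl <;> rfl
    have htop' : i' = 2 * m ∨ (i' = m ∧ m % 2 = 1) := by
      have := h.topi'
      rcases ht with rfl | rfl
      · exact this
      · exact this
    rw [htt, ← he]
    rcases htop' with h4 | ⟨h4, -⟩
    · refine ⟨-1, Or.inr rfl, ?_⟩
      rw [h4, sub_neg_eq_add]
      have : g * ttor (.psp m) (v ^ f') (2 * m) = (v ^ f') ^ m + 1 := by rw [mul_comm]; exact h1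
      exact_mod_cast this
    · refine ⟨1, Or.inl rfl, ?_⟩
      rw [h4]
      have h5 : g * ttor (.psp m) (v ^ f') m + 1 = (v ^ f') ^ m := by rw [mul_comm g]; omega
      have h6 : ((g : ℤ) * (ttor (.psp m) (v ^ f') m : ℕ)) + 1 = ((v ^ f' : ℕ) : ℤ) ^ m := by exact_mod_cast h5
      omega
  refine nonC_num (k := eta j') (e := e) (u := v ^ f') (ε := sgn' j') (em := em) (H := H)
    (N := ttor t (p ^ f) j) (M := ttor t (p ^ f) i) (P := ttor t' (v ^ f') i')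
    h.p_prime h.p_ne rfl h.f_pos (dimL_pos hr h.pair) hL ?_ hu ?_ hg' h.eqM hP hem hkm.2 (by omega) ?_ ?_ ?_ ?_
  · intro h1
    obtain ⟨h2, h3, -⟩ := hL2 h1
    refine ⟨?_, h3⟩
    by_contra hlt
    exact hII ⟨h2, by omega⟩
  · intro h1
    exact h.ndu h.p_prime (fun h2 => h.vp h2.symm) h1
  · rcases Nat.mod_two_eq_zero_or_one j' with h3 | h3
    · right; rw [sgn', if_neg (by omega)]
    · left
      refine ⟨by rw [sgn', if_pos h3], ?_⟩
      rw [eta, if_neg (by omega), Nat.odd_iff]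
      exact h3
  · have h1 := (h.blkN ht (b := e) (by omega) (by omega) (δ' := 1) (Or.inl rfl) hg').1
    rw [← cast_AN (sgn'_pm j') (by omega)]
    exact_mod_cast h1
  · intro s hs
    have h1 := (h.blkN ht (b := e) (by omega) (by omega) hs hg').2
    rw [← cast_AN hs (by omega)]
    exact_mod_cast h1
  · exact Nat.le_of_dvd h.f'_pos (h.H_dvd_f ht hj (by omega))

end Cfsg.Agent.R2.Spec.E
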