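import Cfsg.Agent.R2.Spec.E.NonDBig

/-!
# S3435, packet NON-D (helper19)

`nonD : NonD 848` : `S = PΩ^±_2m(u)`, the second class is not isolated.
-/

set_option autoImplicit false
set_option linter.unusedSectionVars false

namespace Cfsg.Agent.R2.Spec.E

open Cfsg Cfsg.Agent.H426.LieFam Cfsg.Agent.R2.Spec Cfsg.Agent.R2.Spec.P1 Cfsg.Agent.R2.Spec.F1
open Cfsg.Agent.R2.Spec.P1.Eig (AN AN_one AN_neg)

/-- one block, `k ≥ 2 e` -/
theorem hiD {p D d q M N : ℕ} {a b c : ℤ} (h : NDat p D d q M N a b c) {u P H δ k e : ℕ} {s ε : ℤ} (hu : 2 ≤ u)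
    (hpu : ¬ p ∣ u) (hδ : δ = 1 ∨ δ = 2 ∨ δ = 4) (hP : (δ : ℤ) * P = (u : ℤ) ^ (k + e) - s) (hs : s = 1 ∨ s = -1)
    (hMP : M = H * P) (hH : 1 ≤ H) (hε : ε = 1 ∨ ε = -1) (hT : (u : ℤ) ^ k - ε ∣ 2 * N)
    (hke : 2 * e ≤ k) (hII : TypII a b c → 4 ≤ u ∧ 2 ≤ e) : M ≤ 106 * (H ^ 4 * (q + 1) ^ 3) := by
  have hu' : (2 : ℤ) ≤ u := by exact_mod_cast hu
  have hMZ : (M : ℤ) = H * P := by exact_mod_cast hMP
  have hH1 : (1 : ℤ) ≤ H := by exact_mod_cast hH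
  have hpuZ : ¬ (p : ℤ) ∣ (u : ℤ) := fun h0 => hpu (by exact_mod_cast h0)
  have hpδ : ¬ (p : ℤ) ∣ (δ : ℤ) := by
    intro h0
    rcases hδ with h4 | h4 | h4 <;> rw [h4] at h0
    · exact h.hpZ.not_isUnit (isUnit_of_dvd_one (by exact_mod_cast h0))
    · exact h.not_two (by exact_mod_cast h0)
    · exact h.not_pow_two 2 (by exact_mod_cast h0)
  have hδ1 : (1 : ℤ) ≤ δ := by rcases hδ with h4 | h4 | h4 <;> rw [h4] <;> norm_num
  have hδ4 : (δ : ℤ) ≤ 4 := by rcases hδ with h4 | h4 | h4 <;> rw [h4] <;> norm_num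
  obtain ⟨x, hx⟩ : ∃ x, x = (u : ℤ) ^ e := ⟨_, rfl⟩
  obtain ⟨y, hy⟩ : ∃ y, y = (u : ℤ) ^ k := ⟨_, rfl⟩
  have hx1 : 1 ≤ x := by rw [hx]; exact one_le_pow₀ (by omega)
  have hxy : x ^ 2 ≤ y := by
    rw [hx, hy, ← pow_mul]
    exact pow_le_pow_right₀ (by omega) (by omega)
  have hux : (u : ℤ) ^ (k + e) = x * y := by rw [hx, hy, pow_add]; ring
  rw [hux] at hP
  rw [← hy] at hT
  have hρ : |ε * x - s| ≤ x + 1 := by
    rcases hε with rfl | rfl <;> rcases hs with rfl | rfl <;> rw [abs_le] <;> constructor <;> omega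
  have h4 := h.main (H := H) (g := (δ : ℤ)) (κ := 2) (T0 := y - ε) (t0 := x)
    (ρ0 := ε * x - s) hH (by rw [hMP]; exact Dvd.intro _ rfl) (by norm_num) h.not_two hpδ
    (fun h0 => hpuZ (h.hpZ.dvd_of_dvd_pow (by rw [hx] at h0; exact h0))) hT (by
      rw [hMZ, show x * (y - ε) + (ε * x - s) = x * y - s by ring, ← hP]
      ring) (fun h5 h6 => ?_)
  · have hq := h.q3
    have hq' : (4 : ℤ) ≤ (q : ℤ) + 1 := by omega
    obtain ⟨Q, hQ⟩ : ∃ Q, Q = (q : ℤ) + 1 := ⟨_, rfl⟩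
    rw [← hQ] at h4 hq'
    obtain ⟨z, hz⟩ : ∃ z, z = Q * (H : ℤ) := ⟨_, rfl⟩
    have hz4 : 4 ≤ z := by rw [hz]; nlinarith
    have hQz : Q ≤ z := by rw [hz]; nlinarith
    rw [← hz, Nat.abs_cast] at h4
    have h5 : z * |ε * x - s| ≤ z * (x + 1) := mul_le_mul_of_nonneg_left hρ (by omega)
    have h6 : (δ : ℤ) * Q ^ 2 ≤ 4 * Q ^ 2 := mul_le_mul_of_nonneg_right hδ4 (by positivity)
    have h7 : y ≤ 1 + 2 * (z * (x + 1) + 4 * Q ^ 2) := by
      rcases hε with rfl | rfl <;> linarith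
    have h8 := nd_hi hx1 hxy hz4 (by omega) hQz h7
    have h9 : (64 : ℤ) ≤ z ^ 3 := by
      have := pow_le_pow_left₀ (by norm_num) hz4 3
      linarith
    have h10 : (M : ℤ) ≤ 106 * (H ^ 4 * Q ^ 3) := by
      calc (M : ℤ) ≤ H * (x * y + 1) := by
            rw [hMZ]
            refine mul_le_mul_of_nonneg_left ?_ (by omega)
            have hP0 : (0 : ℤ) ≤ P := by positivity
            have h11 : (1 : ℤ) * P ≤ δ * P := mul_le_mul_of_nonneg_right hδ1 hP0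
            rcases hs with rfl | rfl <;> linarith
        _ ≤ H * (106 * z ^ 3) := mul_le_mul_of_nonneg_left (by linarith) (by omega)
        _ = 106 * (H ^ 4 * Q ^ 3) := by rw [hz]; ring
    rw [hQ] at h10
    exact_mod_cast h10
  · obtain ⟨hu4, he2⟩ := hII h5
    obtain ⟨-, -, hc⟩ := h5
    have h7 : (16 : ℤ) ≤ x := by
      have h8 : 4 ^ 2 ≤ u ^ e := (Nat.pow_le_pow_left hu4 2).trans (Nat.pow_le_pow_right (by omega) he2)
      rw [hx]
      exact_mod_cast h8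
    have h8 : |(H : ℤ) * (ε * x - s)| ≤ 4 := by
      rw [h6, abs_mul, abs_pm hc, Nat.abs_cast, mul_one]
      exact hδ4
    rw [abs_mul, Nat.abs_cast] at h8
    have h9 : 15 ≤ |ε * x - s| := by
      rw [le_abs]
      rcases hε with rfl | rfl <;> rcases hs with rfl | rfl <;> omega
    have h10 : 1 * |ε * x - s| ≤ (H : ℤ) * |ε * x - s| := mul_le_mul_of_nonneg_right hH1 (abs_nonneg _)
    linarith

theorem two_mul_le_pow {v f : ℕ} (hv : 2 ≤ v) (hf : 1 ≤ f) : 2 * f ≤ v ^ f := by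
  obtain ⟨r, rfl⟩ : ∃ r, f = r + 1 := ⟨f - 1, by omega⟩
  have h1 : r < 2 ^ r := Nat.lt_two_pow_self
  have h2 : 2 ^ (r + 1) ≤ v ^ (r + 1) := Nat.pow_le_pow_left hv _
  rw [pow_succ] at h2
  omega

theorem f_one_of_small {v f : ℕ} (hv : v.Prime) (hf : 1 ≤ f) (h1 : v ^ f ≤ 5) (h2 : v ^ f ≠ 4) : f = 1 := by
  by_contra hne
  have h3 := hv.two_le
  rcases Nat.lt_or_ge f 3 with h4 | h4
  · obtain rfl : f = 2 := by omega
    rcases Nat.lt_or_ge v 3 with h5 | h5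
    · obtain rfl : v = 2 := by omega
      exact h2 rfl
    · have : 3 ^ 2 ≤ v ^ 2 := Nat.pow_le_pow_left h5 2
      omega
  · have h5 : 2 ^ 3 ≤ v ^ f := (Nat.pow_le_pow_left h3 3).trans (Nat.pow_le_pow_right (by omega) h4)
    omega

section

variable {t : Fam} {p f i j : ℕ} {t' : Fam} {v f' i' j' w H : ℕ} {S : Type} [Group S] [Finite S]

/-- **The bound in terms of the cofactor**, all `m ≥ 4`. -/
theorem Duel.nonD_H (h : Duel t p f i j t' v f' i' j' w H S) {m : ℕ} (ht : t' = .oplus m ∨ t' = .ominus m)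
    (hm : 4 ≤ m) (hr : 4 ≤ rk t) (hj : ¬ top t' j') :
    ttor t (p ^ f) i ≤ 106 * (H ^ 4 * (p ^ f + 1) ^ 3) ∨ (FamII t ∧ (v ^ f' = 2 ∨ v ^ f' = 3)) := by
  have hu := h.u_two
  obtain ⟨hk2, hkm, hε⟩ := h.etaD ht hm hj
  by_cases hII : FamII t ∧ (v ^ f' = 2 ∨ v ^ f' = 3)
  · exact Or.inr hII
  left
  obtain ⟨a, b, c, hL, hL2⟩ := lnum' h.p_prime h.p_ne h.f_pos hr h.pair
  have hD := dimL_pos hr h.pair
  have hdat := ndat_of h.p_prime h.p_ne rfl h.f_pos hL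
  have hpu : ¬ p ∣ v ^ f' := h.ndu h.p_prime (fun h2 => h.vp h2.symm)
  have hdt := h.dtor ht
  have hHf := h.H_dvd_fD ht hj hkm
  have hcase := dcase_of ht hm hu h.topi' (h.copPD ht hj hkm)
  have hMP := h.eqM
  have hH1 : 1 ≤ H := by
    rcases Nat.eq_zero_or_pos H with h0 | h0
    · have h1 := hdat.M0
      rw [hMP, h0, zero_mul] at h1
      omega
    · exact h0
  have hHF : H ≤ f' := Nat.le_of_dvd h.f'_pos hHf
  have hcopPN : Nat.Coprime (ttor t' (v ^ f') i') (ttor t (p ^ f) j) := by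
    have h1 := h.copMN
    rw [hMP] at h1
    exact Nat.Coprime.coprime_mul_left h1
  have hεpm : sgn' j' = 1 ∨ sgn' j' = -1 := sgn'_pm j'
  obtain ⟨u, hudef⟩ : ∃ u, u = v ^ f' := ⟨_, rfl⟩
  obtain ⟨k, hkdef⟩ : ∃ k, k = eta j' := ⟨_, rfl⟩
  obtain ⟨ε, hεdef⟩ : ∃ ε, ε = sgn' j' := ⟨_, rfl⟩
  obtain ⟨P, hPdef⟩ : ∃ P, P = ttor t' (v ^ f') i' := ⟨_, rfl⟩
  rw [← hPdef] at hMP hcopPN
  rw [← hPdef, ← hudef] at hcase
  rw [← hudef] at hII hu hpu hdt
  rw [← hkdef] at hk2 hkm hε hdt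
  rw [← hεdef] at hε hdt hεpm
  have hT : (u : ℤ) ^ k - ε ∣ 2 * (ttor t (p ^ f) j : ℤ) := by
    have h1 := (hdt 1 le_rfl hkm 1 (Or.inl rfl)).1
    rw [← cast_AN hεpm (by omega)]
    exact_mod_cast h1
  rcases Nat.lt_or_ge (ttor t (p ^ f) j) (2 * ttor t (p ^ f) i) with hNM | hNM
  swap
  · exact hdat.M_of_N hH1 hNM
  rcases hcase with ⟨c0, hc0, huc, hm2, hPc⟩ | ⟨hm2, hu4, hPc⟩
  · obtain ⟨h1, h2, h2', h3, h4, h5, h6⟩ := dcases_facts c0 hc0
    have hf1 : f' = 1 := by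
      refine f_one_of_small h.v_prime h.f'_pos ?_ ?_
      · rw [← hudef, huc]; exact h2
      · rw [← hudef, huc]; exact h2'
    have hH : H = 1 := by
      rw [hf1] at hHf
      exact Nat.dvd_one.1 hHf
    have hMP' : ttor t (p ^ f) i = P := by rw [hMP, hH, one_mul]
    rcases Nat.lt_or_ge k (2 * (m - c0.2.2.1 - k)) with hke | hke
    · have h7 := smallD hc0 huc hm hm2 hPc hk2 hkm hke (by tauto) hdt hdat.N0 (by rw [← hMP']; exact hNM)
      exact hdat.M_of_small hH1 (by rw [hMP']; exact h7)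
    · refine hiD hdat (e := m - c0.2.2.1 - k) (k := k) (s := c0.2.2.2.1) (ε := ε) hu hpu h5 ?_ h4 hMP hH1
        hεpm hT hke ?_
      · rw [show k + (m - c0.2.2.1 - k) = m - c0.2.2.1 by omega, ← cast_AN h4 (by omega)]
        exact_mod_cast hPc
      · intro h7
        have h8 := (hL2 h7).1
        have h9 : ¬ (u = 2 ∨ u = 3) := fun h9 => hII ⟨h8, h9⟩
        have h10 : 4 ≤ u := by omega
        have h11 := h6 (by rw [← huc]; exact h10)
        exact ⟨h10, by omega⟩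
  · have hδ : Nat.gcd 2 (u - 1) = 1 ∨ Nat.gcd 2 (u - 1) = 2 :=
      (Nat.dvd_prime Nat.prime_two).1 (Nat.gcd_dvd_left _ _)
    rcases Nat.lt_or_ge k (2 * (m - k)) with hke | hke
    · have hHu : 2 * H ≤ u := by
        rw [hudef]
        exact (Nat.mul_le_mul_left 2 hHF).trans (two_mul_le_pow h.v_prime.two_le h.f'_pos)
      have hPm : P ≤ u ^ m + 1 := by
        rw [← hPc]
        exact Nat.le_mul_of_pos_left P (Nat.gcd_pos_of_pos_left _ (by norm_num))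
      rw [hMP] at hNM
      rcases bigD_cases hu4 hm hPc hHu hcopPN hk2 hkm hke hdt hdat.N0 hNM with
        ⟨rfl, hk⟩ | ⟨rfl, hk⟩ | ⟨rfl, hk⟩ | ⟨rfl, hk⟩
      · have hε' : ε = -1 := by rw [hk] at hε; rcases hε with ⟨-, h1⟩ | h1; exact absurd h1 (by norm_num); exact h1
        rw [hk, hε'] at hdt
        exact (bigD_16 hu4 hHu hPm hdat.N0 hNM hdt).elim
      · have hε' : ε = -1 := by rw [hk] at hε; rcases hε with ⟨-, h1⟩ | h1; exact absurd h1 (by norm_num); exact h1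
        rw [hk, hε'] at hdt
        exact (bigD_84 hu4 hHu hPm hdat.N0 hNM hdt).elim
      · rw [hk] at hdt
        exact bigD_85 hdat hu4 hpu hPc hMP hH1 hεpm hdt
      · have hε' : ε = -1 := by rw [hk] at hε; rcases hε with ⟨-, h1⟩ | h1; exact absurd h1 (by norm_num); exact h1
        rw [hk, hε'] at hdt
        refine bigD_42 hdat hD hu4 hpu hPc hMP hH1 (fun h7 => ?_) hdt
        exact (hL2 h7).2.1
    · refine hiD hdat (e := m - k) (k := k) (s := -1) (ε := ε) (δ := Nat.gcd 2 (u - 1)) hu hpu (by tauto) ?_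
        (Or.inr rfl) hMP hH1 hεpm hT hke ?_
      · rw [show k + (m - k) = m by omega, sub_neg_eq_add]
        exact_mod_cast hPc
      · intro _
        exact ⟨hu4, by omega⟩

/-- the size of `P` from the cases -/
theorem DCase.pow_le {m u P : ℕ} (h : DCase m u P) (hu : 1 ≤ u) : u ^ (m - 1) ≤ 4 * P + 1 := by
  rcases h with ⟨c0, hc0, huc, hm2, hPc⟩ | ⟨hm2, hu4, hPc⟩
  · obtain ⟨h1, h2, h2', h3, h4, h5, h6⟩ := dcases_facts c0 hc0
    have h7 : u ^ (m - 1) ≤ u ^ (m - c0.2.2.1) := Nat.pow_le_pow_right hu (by omega)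
    have h8 : u ^ (m - c0.2.2.1) ≤ AN c0.2.2.2.1 (m - c0.2.2.1) u + 1 := by
      rcases h4 with h4 | h4 <;> rw [h4]
      · rw [AN_one]; omega
      · rw [AN_neg]; omega
    rw [← hPc] at h8
    have h9 : c0.2.2.2.2 * P ≤ 4 * P := Nat.mul_le_mul_right _ (by omega)
    omega
  · have h7 : u ^ (m - 1) ≤ u ^ m := Nat.pow_le_pow_right hu (by omega)
    have h8 : Nat.gcd 2 (u - 1) * P ≤ 2 * P := Nat.mul_le_mul_right _ (Nat.gcd_le_left _ (by norm_num))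
    omega

/-- the bound for `u ^ (m - 1)` in terms of the cofactor, all `m ≥ 4` -/
theorem Duel.nonD_u (h : Duel t p f i j t' v f' i' j' w H S) {m : ℕ} (ht : t' = .oplus m ∨ t' = .ominus m)
    (hm : 4 ≤ m) (hr : 4 ≤ rk t) (hj : ¬ top t' j') :
    (H ∣ f' ∧ ¬ 2 ∣ H ∧ ¬ 3 ∣ H ∧ (v ^ f') ^ (m - 1) ≤ 425 * (H * (p ^ f + 1)) ^ 3) ∨
      (FamII t ∧ (v ^ f' = 2 ∨ v ^ f' = 3)) := by
  rcases h.nonD_H ht hm hr hj with h1 | h1
  swap
  · exact Or.inr h1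
  left
  have hu := h.u_two
  obtain ⟨hk2, hkm, hε⟩ := h.etaD ht hm hj
  have hHf := h.H_dvd_fD ht hj hkm
  have hcase := dcase_of ht hm hu h.topi' (h.copPD ht hj hkm)
  have hMP := h.eqM
  obtain ⟨a, b, c, hL, hL2⟩ := lnum' h.p_prime h.p_ne h.f_pos hr h.pair
  have hdat := ndat_of h.p_prime h.p_ne rfl h.f_pos hL
  have hH1 : 1 ≤ H := by
    rcases Nat.eq_zero_or_pos H with h0 | h0
    · have h1 := hdat.M0
      rw [hMP, h0, zero_mul] at h1
      omega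
    · exact h0
  refine ⟨hHf, ?_, ?_, ?_⟩
  · by_cases hv : v = 2
    · have h3 := h.not_dvd_H hj h.v_prime (Or.inl rfl) (Or.inl rfl)
      rwa [hv] at h3
    · intro h3
      have h4 : (v ^ f') % 2 = 1 := pow_odd (Nat.odd_iff.1 (h.v_prime.odd_of_ne_two hv)) f'
      have h5 := Nat.dvd_gcd (h3.trans h.H_dvd_M) (h.twoD ht hkm h4)
      rw [h.copMN] at h5
      omega
  · refine h.not_dvd_H hj Nat.prime_three ?_ (Or.inr (Or.inl (by norm_num)))
    by_cases h3 : (3 : ℕ) = v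
    · exact Or.inl h3
    · right
      have h4 := h.ndu Nat.prime_three h3
      have h5 : (v ^ f') % 3 = 1 ∨ (v ^ f') % 3 = 2 := by omega
      refine cls_le_two_of ?_ (by omega)
      omega
  · rw [hMP] at h1
    have h2 : H * ttor t' (v ^ f') i' ≤ H * (106 * (H * (p ^ f + 1)) ^ 3) := by
      calc _ ≤ _ := h1
        _ = _ := by ring
    have h3 := Nat.le_of_mul_le_mul_left h2 hH1
    have h4 := hcase.pow_le (by omega)
    have h5 : 1 ≤ (H * (p ^ f + 1)) ^ 3 := Nat.one_le_pow _ _ (Nat.mul_pos hH1 (by omega))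
    omega

end

/-- **The packet `NON-D`.** -/
theorem nonD : NonD 848 := by
  intro t p f i j t' v f' i' j' w H S _ _ hr ht hrk hj h
  obtain ⟨m, ht⟩ := ht
  have hm : 4 ≤ m := by
    rcases ht with rfl | rfl
    · exact le_trans (by norm_num) (show 5 ≤ m from hrk)
    · exact hrk
  rcases h.nonD_H ht hm hr hj with h1 | h1
  swap
  · exact Or.inr h1
  left
  obtain ⟨hk2, hkm, hε⟩ := h.etaD ht hm hj
  obtain ⟨a, b, c, hL, hL2⟩ := lnum' h.p_prime h.p_ne h.f_pos hr h.pair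
  have hdat := ndat_of h.p_prime h.p_ne rfl h.f_pos hL
  refine hdat.size (F := f') (h1.trans (Nat.mul_le_mul_left _ (Nat.mul_le_mul_right _ ?_)))
  exact Nat.pow_le_pow_left (Nat.le_of_dvd h.f'_pos (h.H_dvd_fD ht hj hkm)) 4

end Cfsg.Agent.R2.Spec.E
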