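import Cfsg.Agent.R2.Spec.E.Stm

/-!
# S3435, packets NON (helper10): the relation of the two numbers of `L`, refined

* `lnum'` : type II only for the families `FamII`, with the explicit values of the numbers;
* `LNum.a_pos` ... : the sizes of the coefficients.
-/

set_option autoImplicit false

namespace Cfsg.Agent.R2.Spec.E

open Cfsg Cfsg.Agent.H426.LieFam Cfsg.Agent.R2.Spec Cfsg.Agent.R2.Spec.P1 Cfsg.Agent.R2.Spec.F1

theorem not_typII_of_b {a c : ℤ} {q : ℕ} (hq : 3 ≤ q) : ¬ TypII a q c := by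
  rintro ⟨-, h, -⟩
  omega

theorem not_typII_of_a {b c : ℤ} {q : ℕ} (hq : 3 ≤ q) : ¬ TypII q b c := by
  rintro ⟨h, -, -⟩
  omega

/-- **The relation of the two numbers of `L`**, with the values for type II. -/
theorem lnum' {t : Fam} {p f i j : ℕ} (hp : p.Prime) (hp2 : p ≠ 2) (hf : 1 ≤ f) (hr : 4 ≤ rk t) (h : PairOK t i j) :
    ∃ a b c : ℤ, LNum (p ^ f) (dimL t) (dgL t (p ^ f)) (ttor t (p ^ f) i) (ttor t (p ^ f) j) a b c ∧
      (TypII a b c → FamII t ∧ 2 * (ttor t (p ^ f) i : ℤ) = ((p ^ f : ℕ) : ℤ) ^ dimL t + c ∧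
        2 * (ttor t (p ^ f) j : ℤ) = ((p ^ f : ℕ) : ℤ) ^ dimL t - c) := by
  obtain ⟨hq3, hq2⟩ := f_q hp hp2 hf
  obtain ⟨q, hq⟩ : ∃ q, q = p ^ f := ⟨_, rfl⟩
  rw [← hq] at hq3 hq2 ⊢
  cases t with
  | psl n =>
    change 4 ≤ n at hr
    obtain ⟨e, -, h1⟩ := lnum_psl (n := n) (q := q) (by omega) hq3
    rcases h with ⟨rfl, h2⟩ | ⟨h2, rfl⟩
    · obtain rfl : j = i - 1 := by omega
      exact ⟨_, _, _, h1, fun h => absurd h (not_typII_of_b hq3)⟩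
    · obtain rfl : i = j - 1 := by omega
      exact ⟨_, _, _, h1.symm, fun h => absurd h (not_typII_of_a hq3)⟩
  | psu n =>
    change 4 ≤ n at hr
    obtain ⟨e, -, h1⟩ := lnum_psu (n := n) (q := q) (by omega) hq3
    rcases h with ⟨rfl, h2⟩ | ⟨h2, rfl⟩
    · obtain rfl : j = i - 1 := by omega
      exact ⟨_, _, _, h1, fun h => absurd h (not_typII_of_b hq3)⟩
    · obtain rfl : i = j - 1 := by omega
      exact ⟨_, _, _, h1.symm, fun h => absurd h (not_typII_of_a hq3)⟩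
  | psp n =>
    change 4 ≤ n at hr
    have h1 := lnum_psp (n := n) (q := q) (by omega) hq3 hq2
    obtain ⟨h3, h4⟩ := val_psp (n := n) (q := q) (by omega) (by omega)
    rw [gcd_two_odd hq2] at h3 h4
    have h5 := Nat.one_le_pow n q (by omega)
    have h6 : (2 : ℤ) * (ttor (.psp n) q (2 * n) : ℤ) = (q : ℤ) ^ n + 1 := by
      have : 2 * ttor (.psp n) q (2 * n) = q ^ n + 1 := by omega
      exact_mod_cast this
    have h7 : (2 : ℤ) * (ttor (.psp n) q n : ℤ) = (q : ℤ) ^ n - 1 := by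
      have : 2 * ttor (.psp n) q n + 1 = q ^ n := by omega
      have : (2 : ℤ) * (ttor (.psp n) q n : ℤ) + 1 = (q : ℤ) ^ n := by exact_mod_cast this
      omega
    obtain ⟨h0, ⟨rfl, rfl⟩ | ⟨rfl, rfl⟩⟩ := h
    · exact ⟨_, _, _, h1.symm, fun _ => ⟨h0, by rw [h7]; rfl, by rw [h6]; change _ = (q : ℤ) ^ i - (-1); ring⟩⟩
    · exact ⟨_, _, _, h1, fun _ => ⟨h0, by rw [h6]; rfl, by rw [h7]; rfl⟩⟩
  | oodd n =>
    change 4 ≤ n at hr
    have h1 := lnum_psp (n := n) (q := q) (by omega) hq3 hq2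
    obtain ⟨h3, h4⟩ := val_psp (n := n) (q := q) (by omega) (by omega)
    rw [gcd_two_odd hq2] at h3 h4
    have h5 := Nat.one_le_pow n q (by omega)
    have h6 : (2 : ℤ) * (ttor (.psp n) q (2 * n) : ℤ) = (q : ℤ) ^ n + 1 := by
      have : 2 * ttor (.psp n) q (2 * n) = q ^ n + 1 := by omega
      exact_mod_cast this
    have h7 : (2 : ℤ) * (ttor (.psp n) q n : ℤ) = (q : ℤ) ^ n - 1 := by
      have : 2 * ttor (.psp n) q n + 1 = q ^ n := by omega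
      have : (2 : ℤ) * (ttor (.psp n) q n : ℤ) + 1 = (q : ℤ) ^ n := by exact_mod_cast this
      omega
    rw [ttor_oodd, ttor_oodd]
    obtain ⟨h0, ⟨rfl, rfl⟩ | ⟨rfl, rfl⟩⟩ := h
    · exact ⟨_, _, _, h1.symm, fun _ => ⟨h0, by rw [h7]; rfl, by rw [h6]; change _ = (q : ℤ) ^ i - (-1); ring⟩⟩
    · exact ⟨_, _, _, h1, fun _ => ⟨h0, by rw [h6]; rfl, by rw [h7]; rfl⟩⟩
  | oplus n =>
    change 4 ≤ n at hr
    rcases h with ⟨h0, h2⟩ | ⟨h0, h2⟩
    · obtain ⟨e, -, h1⟩ := lnum_oplus_odd (n := n) (q := q) (by omega) h0 hq3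
      have hd : dimL (.oplus n) = n := by rw [dimL, if_neg (by omega)]
      rw [hd]
      rcases h2 with ⟨rfl, rfl⟩ | ⟨rfl, rfl⟩
      · exact ⟨_, _, _, h1, fun h => absurd h (not_typII_of_b hq3)⟩
      · exact ⟨_, _, _, h1.symm, fun h => absurd h (not_typII_of_a hq3)⟩
    · have h1 := lnum_oplus_even (n := n) (q := q) hr h0 hq3 hq2
      have hd : dimL (.oplus n) = n - 1 := by rw [dimL, if_pos h0]
      obtain ⟨h3, h4⟩ := val_oplus_even (n := n) (q := q) hr h0 (by omega)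
      rw [gcd_two_odd hq2] at h3 h4
      have h5 := Nat.one_le_pow (n - 1) q (by omega)
      have h6 : (2 : ℤ) * (ttor (.oplus n) q (2 * (n - 1)) : ℤ) = (q : ℤ) ^ (n - 1) + 1 := by
        have : 2 * ttor (.oplus n) q (2 * (n - 1)) = q ^ (n - 1) + 1 := by omega
        exact_mod_cast this
      have h7 : (2 : ℤ) * (ttor (.oplus n) q (n - 1) : ℤ) = (q : ℤ) ^ (n - 1) - 1 := by
        have : 2 * ttor (.oplus n) q (n - 1) + 1 = q ^ (n - 1) := by omega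
        have : (2 : ℤ) * (ttor (.oplus n) q (n - 1) : ℤ) + 1 = (q : ℤ) ^ (n - 1) := by exact_mod_cast this
        omega
      rw [hd]
      rcases h2 with ⟨rfl, rfl⟩ | ⟨rfl, rfl⟩
      · exact ⟨_, _, _, h1.symm, fun _ => ⟨h0, by rw [h7]; rfl, by rw [h6]; ring⟩⟩
      · exact ⟨_, _, _, h1, fun _ => ⟨h0, by rw [h6], by rw [h7]⟩⟩
  | ominus n =>
    change 4 ≤ n at hr
    obtain ⟨e, -, h1⟩ := lnum_ominus (n := n) (q := q) (by omega) hq3
    rcases h with ⟨rfl, rfl⟩ | ⟨rfl, rfl⟩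
    · exact ⟨_, _, _, h1, fun h => absurd h (not_typII_of_b hq3)⟩
    · exact ⟨_, _, _, h1.symm, fun h => absurd h (not_typII_of_a hq3)⟩
  | _ => exact h.elim

/-- the sizes of the coefficients -/
theorem LNum.sizes {q D d M N : ℕ} {a b c : ℤ} (h : LNum q D d M N a b c) (hq : 3 ≤ q) :
    1 ≤ a ∧ a ≤ q + 1 ∧ 1 ≤ b ∧ 2 * a ≤ 3 * b ∧ |c| ≤ ((q : ℤ) + 1) ^ 2 ∧ |c| ≤ 2 * ((q : ℤ) + 1) * b := by
  have hq' : (3 : ℤ) ≤ q := by exact_mod_cast hq
  rcases h.typ with ⟨s, hs, h1, h2⟩ | ⟨h1, h2, h3⟩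
  · have h3 : |c| ≤ ((q : ℤ) + s) ^ 2 := by
      have h4 : (0 : ℤ) < ((q : ℤ) + s) ^ 2 := by
        have : (0 : ℤ) < (q : ℤ) + s := by rcases hs with rfl | rfl <;> omega
        positivity
      exact Int.le_of_dvd h4 ((abs_dvd _ _).2 h2)
    have h4 : ((q : ℤ) + s) ^ 2 ≤ ((q : ℤ) + 1) ^ 2 := by
      rcases hs with rfl | rfl
      · exact le_rfl
      · nlinarith
    have h5 : |c| ≤ ((q : ℤ) + 1) ^ 2 := h3.trans h4
    have h6 : (q : ℤ) + 1 ≤ 2 * b := by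
      rcases hs with rfl | rfl <;> rcases h1 with ⟨h1, h1'⟩ | ⟨h1, h1'⟩ <;> rw [h1'] <;> omega
    refine ⟨?_, ?_, ?_, ?_, h5, ?_⟩
    · rcases hs with rfl | rfl <;> rcases h1 with ⟨h1, h1'⟩ | ⟨h1, h1'⟩ <;> omega
    · rcases hs with rfl | rfl <;> rcases h1 with ⟨h1, h1'⟩ | ⟨h1, h1'⟩ <;> omega
    · rcases hs with rfl | rfl <;> rcases h1 with ⟨h1, h1'⟩ | ⟨h1, h1'⟩ <;> omega
    · rcases hs with rfl | rfl <;> rcases h1 with ⟨h1, h1'⟩ | ⟨h1, h1'⟩ <;> omega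
    · nlinarith
  · have h4 : |c| = 1 := by rcases h3 with h3 | h3 <;> rw [h3] <;> rfl
    rw [h1, h2, h4]
    refine ⟨by omega, by omega, by omega, by omega, by nlinarith, by omega⟩

end Cfsg.Agent.R2.Spec.E
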