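import Cfsg.Agent.R2.Spec.E.IsoOne
import Cfsg.Agent.R2.Spec.E.NonC
import Cfsg.Agent.R2.Spec.E.NonD
import Cfsg.Agent.R2.Spec.AA.Main
import Cfsg.Agent.R2.Spec.SmallU.Fin
import Cfsg.Agent.R2.Spec.RKS.Main
import Cfsg.Agent.R2.Spec.F1.FourCl
import Cfsg.Agent.R2.Spec.NA.NonA
import Cfsg.Agent.R2.Spec.FIN.Main
import Cfsg.Agent.R2.Spec.IIA.Six
import Cfsg.Agent.R2.Spec.IIA.DA

/-!
# The engine (helper29): no classical composition factor in a cross characteristic (`Five t`, `q` odd)

`Rows` : the rows still to be plugged in; `no_classical` : the conclusion.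
-/

set_option autoImplicit false
set_option linter.unusedSectionVars false

namespace Cfsg.Agent.R2.Spec.E

open Subgroup Cfsg
open Cfsg.Agent.H426.LieFam Cfsg.Agent.R2.Spec Cfsg.Agent.R2.Spec.P1 Cfsg.Agent.R2.Spec.F1 Cfsg.Agent.H420.QR

universe w

/-- row GAMMA (helper28) -/
def RowGamma : Prop :=
  ∀ (t : Fam) (p f : ℕ) (L : Type) [Group L] [Finite L] (G : Type) [Group G] [Finite G] (K : Subgroup G) [K.Normal]
    (S : Subgroup (G ⧸ K)) [S.Normal] (t' : Fam) (v f' i j i' j' w H : ℕ),
    LS t p f L G → Fam.Is p f L t → Red G K S → Frm G K S t' v f' → v ≠ p → p ≠ 2 → Five t → RkFive t' →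
      Duel t p f i j t' v f' i' j' w H S → top t' j' → ¬ H ∣ outB t' v f' →
      ∃ H' : ℕ, ttor t (p ^ f) j = H' * ttor t' (v ^ f') j' ∧ Exo t (p ^ f) t' (v ^ f') i j i' j' H H'

/-- the open rows -/
structure Rows : Prop where
  gam : RowGamma

theorem SizeB.mono {C D : ℕ} {t : Fam} {p f f' : ℕ} (h : SizeB C t p f f') (hCD : C ≤ D) : SizeB D t p f f' :=
  le_trans h (Nat.mul_le_mul_right _ (Nat.mul_le_mul_right _ hCD))

theorem five_rk {t : Fam} (h : Five t) : 7 ≤ rk t := by
  cases t with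
  | psl n => exact le_trans (by norm_num) (show 9 ≤ n from h)
  | psu n => exact le_trans (by norm_num) (show 9 ≤ n from h)
  | psp n => exact h
  | oodd n => exact h
  | oplus n => exact h
  | ominus n => exact h
  | _ => exact h.elim

theorem five_dim {t : Fam} (h : Five t) : 7 ≤ dimL t := by
  cases t with
  | psl n =>
    have : 9 ≤ n := h
    change 7 ≤ n - 1
    omega
  | psu n =>
    have : 9 ≤ n := h
    change 7 ≤ n - 1
    omega
  | psp n => exact h
  | oodd n => exact h
  | oplus n =>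
    have : 7 ≤ n := h
    rw [dimL]
    split_ifs with h2
    · omega
    · exact h
  | ominus n => exact h
  | _ => exact h.elim

theorem four_of_five {t : Fam} (h : RkFive t) : RkFour t := by
  cases t with
  | psl n => exact le_trans (by norm_num) (show 9 ≤ n from h)
  | psu n => exact le_trans (by norm_num) (show 9 ≤ n from h)
  | psp n => exact le_trans (by norm_num) (show 5 ≤ n from h)
  | oodd n => exact le_trans (by norm_num) (show 5 ≤ n from h)
  | oplus n => exact le_trans (by norm_num) (show 7 ≤ n from h)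
  | ominus n => exact le_trans (by norm_num) (show 6 ≤ n from h)
  | _ => exact h.elim

variable {t t' : Fam} {p f v f' : ℕ} {L : Type} [Group L] [Finite L] {G : Type} [Group G] [Finite G]
  {K : Subgroup G} [K.Normal] {S : Subgroup (G ⧸ K)} [S.Normal]

/-- **No classical composition factor in a cross characteristic.** -/
theorem no_classical (R : Rows) (h : LS t p f L G) (his : Fam.Is p f L t) (hR : Red G K S) (hF : Frm G K S t' v f')
    (hvp : v ≠ p) (hp2 : p ≠ 2) (h5 : Five t) (hex : ∀ n, (t = .psp n ∨ t = .oodd n) → n % 2 = 1) : False := by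
  obtain ⟨hS, i, j, i', j', w, H, D⟩ := exists_duel' h his hR hF hvp hp2 (Or.inl h5) hex
  have hq3 := h.q_three hp2
  have hr5 := RKS.rkFive h hR hF h5 hq3
  have hr4 := four_of_five hr5
  have hrk : 4 ≤ rk t := by have := five_rk h5; omega
  have hrk5 : 5 ≤ rk t := by have := five_rk h5; omega
  have hrk7 : 7 ≤ rk t := five_rk h5
  have hexo : top t' j' → ∀ H', ttor t (p ^ f) j = H' * ttor t' (v ^ f') j' →
      ¬ Exo t (p ^ f) t' (v ^ f') i j i' j' H H' := by
    rintro htop H' hN (h1 | h1 | h1 | h1)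
    · exact AA.exo_aa h his hR hF hrk7 D hN h1
    · exact IIA.exo_da h his hR hF hrk5 D htop h1
    · exact IIA.exo_iia_all h his hR hF hrk5 D hN h1
    · exact SmallU.small_iid h hR hF hS hrk5 hp2 hvp D.pair D.topi' D.eqM h1
  by_cases htop : top t' j'
  · by_cases hH : H ∣ outB t' v f'
    · rcases D.iso_one hrk hr4 htop hH with ⟨H', hN, h1⟩ | ⟨B, h1, h2, h3⟩
      · exact hexo htop H' hN h1
      · have hu : 2 ≤ v ^ f' := D.v_prime.two_le.trans (Nat.le_self_pow (by have := D.f'_pos; omega) v)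
        exact FIN.fin h5 D hr5 ((size_of_one hr5 D.f'_pos hu h1 h2 h3).mono (by norm_num))
    · obtain ⟨H', hN, h1⟩ := R.gam t p f L G K S t' v f' i j i' j' w H h his hR hF hvp hp2 h5 hr5 D htop hH
      exact hexo htop H' hN h1
  · have hfin : ∀ C, C ≤ 2 ^ 20 → (SizeB C t p f f' ∨ (FamII t ∧ (v ^ f' = 2 ∨ v ^ f' = 3))) → False := by
      rintro C hC (h1 | ⟨h1, h2⟩)
      · exact FIN.fin h5 D hr5 (h1.mono hC)
      · exact SmallU.small_u h hR hF hrk5 h1 h2 D htop
    cases t' with
    | psl m =>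
      obtain ⟨h1, h2⟩ := NA.nonA_seven D hrk (five_dim h5) (m := m)
        (le_trans (by norm_num) (show 9 ≤ m from hr5)) (Or.inl rfl) htop
      exact SmallU.small_u h hR hF hrk5 h1 (Or.inl h2) D htop
    | psu m =>
      obtain ⟨h1, h2⟩ := NA.nonA_seven D hrk (five_dim h5) (m := m)
        (le_trans (by norm_num) (show 9 ≤ m from hr5)) (Or.inr rfl) htop
      exact SmallU.small_u h hR hF hrk5 h1 (Or.inl h2) D htop
    | psp m =>
      exact hfin 872 (by norm_num) (nonC t p f i j _ v f' i' j' w H S hrk ⟨m, Or.inl rfl⟩ hr4 htop D)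
    | oodd m =>
      exact hfin 872 (by norm_num) (nonC t p f i j _ v f' i' j' w H S hrk ⟨m, Or.inr rfl⟩ hr4 htop D)
    | oplus m =>
      exact hfin 848 (by norm_num) (nonD t p f i j _ v f' i' j' w H S hrk ⟨m, Or.inl rfl⟩ hr4 htop D)
    | ominus m =>
      exact hfin 848 (by norm_num) (nonD t p f i j _ v f' i' j' w H S hrk ⟨m, Or.inr rfl⟩ hr4 htop D)
    | _ => exact hr4.elim

end Cfsg.Agent.R2.Spec.E
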