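import Cfsg.Agent.R2.Spec.E.NonCIneq

/-!
# S3435, packet NON-C (helper10): the numeric theorem

* `nonC_num` : the size bound from the divisibilities `u ^ k - ε ∣ g N`, `u ^ e ± 1 ∣ g N`.
-/

set_option autoImplicit false

namespace Cfsg.Agent.R2.Spec.E

open Cfsg Cfsg.Agent.H426.LieFam Cfsg.Agent.R2.Spec Cfsg.Agent.R2.Spec.P1 Cfsg.Agent.R2.Spec.F1

/-- a common divisor of `u ^ l ± 1` and `y` divides `g` if it divides `2` -/
theorem dvd_g_of {u g : ℕ} (hg : (g = 1 ∧ u % 2 = 0) ∨ (g = 2 ∧ u % 2 = 1)) {x y ε : ℤ} {l : ℕ} (hl : 1 ≤ l)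
    (hε : ε = 1 ∨ ε = -1) (hx : x = (u : ℤ) ^ l - ε) (h : ∀ d : ℤ, d ∣ x → d ∣ y → d ∣ 2) (d : ℤ) (hdx : d ∣ x)
    (hdy : d ∣ y) : d ∣ (g : ℤ) := by
  rcases hg with ⟨h1, hu⟩ | ⟨h1, hu⟩
  · rw [h1, Nat.cast_one]
    have h2 := h d hdx hdy
    have h3 : (2 : ℤ) ∣ (u : ℤ) ^ l := Dvd.dvd.trans (by omega : (2 : ℤ) ∣ (u : ℤ)) (dvd_pow_self _ (by omega))
    have h4 := dvd_sub (h2.trans h3) hdx
    rw [hx, show (u : ℤ) ^ l - ((u : ℤ) ^ l - ε) = ε by ring] at h4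
    rcases hε with rfl | rfl
    · exact h4
    · exact (dvd_neg).1 h4
  · rw [h1]
    exact h d hdx hdy

theorem pow_big {u : ℕ} (hu : 4 ≤ u) {k e : ℕ} (hke : e < k) : 4 * (u : ℤ) ^ e ≤ (u : ℤ) ^ k := by
  obtain ⟨l, rfl⟩ : ∃ l, k = e + (l + 1) := ⟨k - e - 1, by omega⟩
  have h1 : 4 * u ^ e ≤ u ^ (e + (l + 1)) := by
    rw [pow_add, mul_comm]
    exact Nat.mul_le_mul_left _ (hu.trans (Nat.le_self_pow (by omega) u))
  exact_mod_cast h1

/-- **The numeric theorem of the packet `NON-C`.** -/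
theorem nonC_num {p f D d k e f' q u M N H P g : ℕ} {a b c ε em : ℤ}
    (hp : p.Prime) (hp2 : p ≠ 2) (hq : q = p ^ f) (hf : 1 ≤ f) (hD : 1 ≤ D)
    (hL : LNum q D d M N a b c) (hII : TypII a b c → 4 ≤ u ∧ 2 * (M : ℤ) = (q : ℤ) ^ D + c)
    (hu : 2 ≤ u) (hpu : ¬ p ∣ u) (hg : (g = 1 ∧ u % 2 = 0) ∨ (g = 2 ∧ u % 2 = 1))
    (hMP : M = H * P) (hP : (g : ℤ) * P = (u : ℤ) ^ (k + e) - em) (hem : em = 1 ∨ em = -1)
    (hk : 2 ≤ k) (he : 1 ≤ e) (hε : (ε = 1 ∧ Odd k) ∨ ε = -1)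
    (hT : (u : ℤ) ^ k - ε ∣ g * N) (hT' : ∀ s : ℤ, s = 1 ∨ s = -1 → (u : ℤ) ^ e - s ∣ g * N)
    (hH : H ≤ f') : q ^ D ≤ 872 * d * (f' ^ 4 * (q + 1) ^ 3) := by
  obtain ⟨hq3, hq2⟩ := f_q hp hp2 hf
  rw [← hq] at hq3 hq2
  have hM0 : 1 ≤ M := by
    rcases Nat.eq_zero_or_pos M with h | h
    · have h1 := hL.copM
      rw [h, Nat.coprime_zero_right] at h1
      omega
    · exact h
  have hN0 : 1 ≤ N := by
    rcases Nat.eq_zero_or_pos N with h | h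
    · have h1 := hL.copN
      rw [h, Nat.coprime_zero_right] at h1
      omega
    · exact h
  have hH0 : 1 ≤ H := by
    rcases Nat.eq_zero_or_pos H with h | h
    · rw [h, zero_mul] at hMP
      omega
    · exact h
  obtain ⟨ha1, haQ, hb1, hab, hcQ, hcb⟩ := hL.sizes hq3
  have hpZ : Prime (p : ℤ) := Nat.prime_iff_prime_int.1 hp
  have hpq' : p ∣ q := by rw [hq]; exact dvd_pow_self p (by omega)
  have hpq : (p : ℤ) ∣ (q : ℤ) := by exact_mod_cast hpq'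
  have hpg : ¬ (p : ℤ) ∣ (g : ℤ) := by
    intro h
    have h1 : p ∣ g := by exact_mod_cast h
    rcases hg with ⟨hg, -⟩ | ⟨hg, -⟩
    · rw [hg] at h1
      exact hp.one_lt.ne' (Nat.dvd_one.1 h1)
    · rw [hg] at h1
      exact hp2 ((Nat.prime_dvd_prime_iff_eq hp Nat.prime_two).1 h1)
  have hpM : ¬ (p : ℤ) ∣ (M : ℤ) := by
    intro h
    have h1 : p ∣ M := by exact_mod_cast h
    have h2 : p ∣ Nat.gcd q M := Nat.dvd_gcd hpq' h1
    rw [hL.copM] at h2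
    exact hp.one_lt.ne' (Nat.dvd_one.1 h2)
  have hpN : ¬ (p : ℤ) ∣ (N : ℤ) := by
    intro h
    have h1 : p ∣ N := by exact_mod_cast h
    have h2 : p ∣ Nat.gcd q N := Nat.dvd_gcd hpq' h1
    rw [hL.copN] at h2
    exact hp.one_lt.ne' (Nat.dvd_one.1 h2)
  have hpuZ : ¬ (p : ℤ) ∣ (u : ℤ) := fun h => hpu (by exact_mod_cast h)
  have hHM : (H : ℤ) ∣ (M : ℤ) := by
    rw [hMP]
    push_cast
    exact Dvd.intro _ rfl
  have hX4 : (4 : ℤ) ≤ (u : ℤ) ^ k := by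
    have h1 : 2 ^ 2 ≤ u ^ k := (Nat.pow_le_pow_left hu 2).trans (Nat.pow_le_pow_right (by omega) hk)
    exact_mod_cast h1
  have hYu : (u : ℤ) ≤ (u : ℤ) ^ e := by exact_mod_cast Nat.le_self_pow (show e ≠ 0 by omega) u
  have hg12 : (g : ℤ) = 1 ∨ (g : ℤ) = 2 := by
    rcases hg with ⟨hg, -⟩ | ⟨hg, -⟩
    · left; exact_mod_cast hg
    · right; exact_mod_cast hg
  have hgXY : (g : ℤ) = 1 ∨ ((g : ℤ) = 2 ∧ 9 ≤ (u : ℤ) ^ k ∧ 3 ≤ (u : ℤ) ^ e) := by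
    rcases hg with ⟨hg, -⟩ | ⟨hg, hu1⟩
    · left; exact_mod_cast hg
    · right
      have h3 : 3 ≤ u := by omega
      have h1 : 3 ^ 2 ≤ u ^ k := (Nat.pow_le_pow_left h3 2).trans (Nat.pow_le_pow_right (by omega) hk)
      have h2 : 3 ≤ u ^ e := h3.trans (Nat.le_self_pow (by omega) u)
      exact ⟨by exact_mod_cast hg, by exact_mod_cast h1, by exact_mod_cast h2⟩
  have hεpm : ε = 1 ∨ ε = -1 := by tauto
  have hrel := hL.rel
  have hgM : (g : ℤ) * M = H * ((u : ℤ) ^ k * (u : ℤ) ^ e - em) := by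
    rw [← pow_add, ← hP, hMP]
    push_cast
    ring
  -- one block
  have hz1 : a * H * (ε * (u : ℤ) ^ e - em) - g * c ≠ 0 := by
    intro h0
    rcases hL.typ with hI | hII'
    · refine zeroI (T0 := (u : ℤ) ^ k - ε) (t0 := (u : ℤ) ^ e) (ρ0 := ε * (u : ℤ) ^ e - em) hpZ hpq hpg hpg hI hpM hHM hpN
        (fun h => hpuZ (hpZ.dvd_of_dvd_pow h)) hT (by linear_combination h0) ?_
      linear_combination (g : ℤ) * hrel - a * hgM - h0
    · obtain ⟨hu4, -⟩ := hII hII'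
      obtain ⟨ha, hb, hc⟩ := hII'
      refine zeroII_one (Y := (u : ℤ) ^ e) (H := (H : ℤ)) (g := (g : ℤ)) (c := c) (ε := ε) (em := em) ?_ ?_ hg12 hc
        hεpm hem ?_
      · exact (show (4 : ℤ) ≤ u by exact_mod_cast hu4).trans hYu
      · exact_mod_cast hH0
      · rw [ha] at h0; linear_combination h0
  -- two blocks
  obtain ⟨s, hs, hske, hgcd⟩ : ∃ s : ℤ, (s = 1 ∨ s = -1) ∧ (k = e → s = -ε) ∧
      ∀ d : ℤ, d ∣ (u : ℤ) ^ k - ε → d ∣ (u : ℤ) ^ e - s → d ∣ 2 := by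
    rcases hε with ⟨rfl, hkodd⟩ | rfl
    · refine ⟨-1, Or.inr rfl, fun _ => rfl, fun d h2 h3 => ?_⟩
      rw [sub_neg_eq_add] at h3
      exact pick_sign_one (u : ℤ) hkodd h2 h3
    · obtain ⟨s, hs, hske, hgcd⟩ := pick_sign (u : ℤ) (k := k) (e := e) (by omega) he
      refine ⟨s, hs, fun h => by rw [hske h]; rfl, fun d h2 h3 => ?_⟩
      rw [sub_neg_eq_add] at h2
      exact hgcd d h2 h3
  have hT2 : ((u : ℤ) ^ k - ε) * ((u : ℤ) ^ e - s) ∣ g * (g * N) :=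
    mul_dvd_of_gcd hT (hT' s hs) (dvd_g_of hg (l := k) (by omega) hεpm rfl hgcd)
  have hz2 : a * H * (s * (u : ℤ) ^ k + ε * (u : ℤ) ^ e - ε * s - em) - g * c ≠ 0 := by
    intro h0
    rcases hL.typ with hI | hII'
    · refine zeroI (κ := (g : ℤ) * g) (T0 := ((u : ℤ) ^ k - ε) * ((u : ℤ) ^ e - s)) (t0 := 1)
        (ρ0 := s * (u : ℤ) ^ k + ε * (u : ℤ) ^ e - ε * s - em) hpZ hpq (fun h => ?_)
        hpg hI hpM hHM hpN (fun h => ?_) (by rw [mul_assoc]; exact hT2) (by linear_combination h0) ?_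
      · rcases hpZ.dvd_or_dvd h with h | h <;> exact hpg h
      · exact hpZ.not_isUnit (isUnit_of_dvd_one h)
      · linear_combination (g : ℤ) * hrel - a * hgM - h0
    · obtain ⟨hu4, hMq⟩ := hII hII'
      obtain ⟨ha, hb, hc⟩ := hII'
      have h1 : (H : ℤ) * (s * (u : ℤ) ^ k + ε * (u : ℤ) ^ e - ε * s - em) = g * c := by
        rw [ha] at h0; linear_combination h0
      have hH1 : (1 : ℤ) ≤ H := by exact_mod_cast hH0
      by_cases hke : k = e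
      · obtain ⟨h2, h3, h4, h5⟩ := zeroII_eq hH1 hg12 hc hεpm (hske hke) hem (by rw [hke]) h1
        have h6 : (u : ℤ) ^ (k + e) = (q : ℤ) ^ D := by
          rw [h5, h4, h2] at hgM
          rw [h3] at hMq
          rw [pow_add]
          linear_combination hMq - hgM
        have h7 : (p : ℤ) ∣ (u : ℤ) ^ (k + e) := by
          rw [h6]
          exact hpq.trans (dvd_pow_self _ (by omega))
        exact hpuZ (hpZ.dvd_of_dvd_pow h7)
      · refine zeroII_two ?_ hX4 ?_ hH1 hg12 hc hεpm hs hem h1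
        · exact (show (4 : ℤ) ≤ u by exact_mod_cast hu4).trans hYu
        · rcases Nat.lt_or_gt_of_ne hke with h3 | h3
          · right; exact pow_big hu4 h3
          · left; exact pow_big hu4 h3
  -- the square
  have hT3 : ((u : ℤ) ^ e - 1) * ((u : ℤ) ^ e - -1) ∣ g * (g * N) := by
    refine mul_dvd_of_gcd (hT' 1 (Or.inl rfl)) (hT' (-1) (Or.inr rfl))
      (dvd_g_of hg (l := e) he (Or.inl rfl) rfl fun d h4 h5 => ?_)
    have h6 := dvd_sub h5 h4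
    rwa [show (u : ℤ) ^ e - -1 - ((u : ℤ) ^ e - 1) = 2 by ring] at h6
  have hM1 := nonC_M (M := (M : ℤ)) (N := (N : ℤ)) (H := (H : ℤ)) (Q := (q : ℤ) + 1) hX4 (by omega)
    (by exact_mod_cast hH0) (by positivity) (by exact_mod_cast hN0) (by omega) ha1 haQ hb1 hab hcQ hcb hgXY hrel hgM
    hεpm hs hem hT hz1 hT2 hz2 hT3
  have hM2 : M ≤ 109 * (H ^ 4 * (q + 1) ^ 3) := by exact_mod_cast hM1
  calc q ^ D ≤ 8 * d * M := hL.lowM
    _ ≤ 8 * d * (109 * (H ^ 4 * (q + 1) ^ 3)) := Nat.mul_le_mul_left _ hM2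
    _ ≤ 8 * d * (109 * (f' ^ 4 * (q + 1) ^ 3)) := by gcongr
    _ = _ := by ring

end Cfsg.Agent.R2.Spec.E
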