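import Cfsg.Agent.R2.Spec.E.NonCNum
import Cfsg.Agent.R2.Spec.E.NonCL

/-!
# S3435, packet NON-C (helper10): the inequalities

* `zeroI` : the zero case is impossible in type I;
* `ineq_one`, `ineq_two`, `ineq_sq` : the three inequalities; `nonC_M` : the bound for `M`.
-/

set_option autoImplicit false

namespace Cfsg.Agent.R2.Spec.E

open Cfsg Cfsg.Agent.H426.LieFam Cfsg.Agent.R2.Spec Cfsg.Agent.R2.Spec.P1 Cfsg.Agent.R2.Spec.F1

/-- the zero case is impossible in type I -/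
theorem zeroI {p q : ℕ} {a b c g H M N T0 t0 ρ0 κ : ℤ} (hp : Prime (p : ℤ)) (hpq : (p : ℤ) ∣ (q : ℤ))
    (hκ : ¬ (p : ℤ) ∣ κ) (hg : ¬ (p : ℤ) ∣ g) (hI : TypI q a b c) (hM : ¬ (p : ℤ) ∣ M) (hH : H ∣ M)
    (hN : ¬ (p : ℤ) ∣ N) (ht : ¬ (p : ℤ) ∣ t0) (hT : T0 ∣ κ * N) (hz : a * H * ρ0 = g * c)
    (hid : a * H * (t0 * T0) = g * b * N) : False := by
  obtain ⟨s, hs, hab, hc⟩ := hI
  have hqs : ¬ (p : ℤ) ∣ (q : ℤ) + s := by
    intro h
    have h1 : (p : ℤ) ∣ s := (dvd_add_right hpq).1 h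
    have h2 : (p : ℤ) ∣ 1 := by
      rcases hs with rfl | rfl
      · exact h1
      · exact (dvd_neg).1 h1
    exact hp.not_isUnit (isUnit_of_dvd_one h2)
  rcases hab with ⟨ha, hb⟩ | ⟨ha, hb⟩
  · have h1 : (p : ℤ) ∣ a * H * (t0 * T0) := by
      rw [hid, hb]
      exact ((hpq.mul_left g).mul_right N)
    rcases hp.dvd_or_dvd h1 with h2 | h2
    · rcases hp.dvd_or_dvd h2 with h3 | h3
      · rw [ha] at h3
        exact hqs h3
      · exact hM (h3.trans hH)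
    · rcases hp.dvd_or_dvd h2 with h3 | h3
      · exact ht h3
      · rcases hp.dvd_or_dvd (h3.trans hT) with h4 | h4
        · exact hκ h4
        · exact hN h4
  · have h1 : (p : ℤ) ∣ g * c := by
      rw [← hz, ha]
      exact (hpq.mul_right H).mul_right ρ0
    rcases hp.dvd_or_dvd h1 with h2 | h2
    · exact hg h2
    · exact hqs (hp.dvd_of_dvd_pow (h2.trans hc))

theorem abs_pm {x : ℤ} (h : x = 1 ∨ x = -1) : |x| = 1 := by
  rcases h with rfl | rfl <;> rfl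

section

variable {X Y H Q M N g a b c ε s em : ℤ}

/-- one block -/
theorem ineq_one (hY2 : 2 ≤ Y) (hH : 1 ≤ H) (ha1 : 1 ≤ a) (haQ : a ≤ Q)
    (hcQ : |c| ≤ Q ^ 2) (hg : g = 1 ∨ g = 2) (hrel : a * M = b * N + c) (hgM : g * M = H * (X * Y - em))
    (hε : ε = 1 ∨ ε = -1) (hem : em = 1 ∨ em = -1) (hT : X - ε ∣ g * N)
    (hz : a * H * (ε * Y - em) - g * c ≠ 0) : X ≤ Q * H * (Y + 1) + 2 * Q ^ 2 + 1 := by
  have hρ : |ε * Y - em| ≤ Y + 1 := by
    rcases hε with rfl | rfl <;> rcases hem with rfl | rfl <;> rw [abs_le] <;> constructor <;> omega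
  have hI1 : a * H * (Y * (X - ε)) + (a * H * (ε * Y - em) - g * c) = g * b * N := by
    linear_combination g * hrel - a * hgM
  have hd1 : X - ε ∣ a * H * (ε * Y - em) - g * c := by
    have h1 : a * H * (ε * Y - em) - g * c = b * (g * N) - a * H * Y * (X - ε) := by linear_combination hI1
    rw [h1]
    exact dvd_sub (hT.mul_left b) (Dvd.intro_left _ rfl)
  have hgc : |g * c| ≤ 2 * Q ^ 2 := by
    rw [abs_mul]
    have h0 := abs_nonneg c
    rcases hg with h | h <;> rw [h]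
    · rw [abs_one]; omega
    · rw [abs_two]; omega
  have hb1 : |a * H * (ε * Y - em) - g * c| ≤ Q * H * (Y + 1) + 2 * Q ^ 2 := by
    have h1 : |a * H * (ε * Y - em)| ≤ Q * H * (Y + 1) := by
      rw [abs_mul, abs_of_pos (by positivity : (0 : ℤ) < a * H)]
      exact mul_le_mul (mul_le_mul_of_nonneg_right haQ (by omega)) hρ (abs_nonneg _) (by
        have : 0 < Q := by omega
        positivity)
    calc _ ≤ |a * H * (ε * Y - em)| + |g * c| := abs_sub _ _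
      _ ≤ _ := add_le_add h1 hgc
  have h2 := (Int.le_of_dvd (abs_pos.2 hz) ((dvd_abs _ _).2 hd1)).trans hb1
  rcases hε with rfl | rfl
  · linarith
  · linarith

/-- two blocks -/
theorem ineq_two (hX4 : 4 ≤ X) (hY2 : 2 ≤ Y) (hH : 1 ≤ H) (ha1 : 1 ≤ a) (haQ : a ≤ Q)
    (hcQ : |c| ≤ Q ^ 2) (hg : g = 1 ∨ (g = 2 ∧ 9 ≤ X ∧ 3 ≤ Y)) (hrel : a * M = b * N + c)
    (hgM : g * M = H * (X * Y - em)) (hε : ε = 1 ∨ ε = -1) (hs : s = 1 ∨ s = -1) (hem : em = 1 ∨ em = -1)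
    (hT2 : (X - ε) * (Y - s) ∣ g * (g * N))
    (hz : a * H * (s * X + ε * Y - ε * s - em) - g * c ≠ 0) : X * Y ≤ 4 * (Q * H * (X + Y)) + 7 * Q ^ 2 := by
  have hI2 : a * H * (1 * ((X - ε) * (Y - s))) + (a * H * (s * X + ε * Y - ε * s - em) - g * c) = g * b * N := by
    linear_combination g * hrel - a * hgM
  have hρ2 : |s * X + ε * Y - ε * s - em| ≤ X + Y + 2 := by
    rcases hs with rfl | rfl <;> rcases hε with rfl | rfl <;> rcases hem with rfl | rfl <;> rw [abs_le] <;>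
      constructor <;> omega
  have hd2 : (X - ε) * (Y - s) ∣ g * (a * H * (s * X + ε * Y - ε * s - em) - g * c) := by
    have h2 : g * (a * H * (s * X + ε * Y - ε * s - em) - g * c) =
        b * (g * (g * N)) - g * (a * H) * ((X - ε) * (Y - s)) := by
      linear_combination g * hI2
    rw [h2]
    exact dvd_sub (hT2.mul_left b) (Dvd.intro_left _ rfl)
  have hg0 : 0 < g := by rcases hg with h | ⟨h, -, -⟩ <;> omega
  have hQ0 : 0 < Q := by omega
  have hb2' : |a * H * (s * X + ε * Y - ε * s - em) - g * c| ≤ Q * H * (X + Y + 2) + g * Q ^ 2 := by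
    have h1 : |a * H * (s * X + ε * Y - ε * s - em)| ≤ Q * H * (X + Y + 2) := by
      rw [abs_mul, abs_of_pos (by positivity : (0 : ℤ) < a * H)]
      exact mul_le_mul (mul_le_mul_of_nonneg_right haQ (by omega)) hρ2 (abs_nonneg _) (by positivity)
    have h2 : |g * c| ≤ g * Q ^ 2 := by
      rw [abs_mul, abs_of_pos hg0]
      exact mul_le_mul_of_nonneg_left hcQ hg0.le
    calc _ ≤ |a * H * (s * X + ε * Y - ε * s - em)| + |g * c| := abs_sub _ _
      _ ≤ _ := add_le_add h1 h2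
  have h2' : (X - 1) * (Y - 1) ≤ g * (Q * H * (X + Y + 2) + g * Q ^ 2) := by
    have h2 := Int.le_of_dvd (abs_pos.2 (mul_ne_zero hg0.ne' hz)) ((dvd_abs _ _).2 hd2)
    rw [abs_mul, abs_of_pos hg0] at h2
    have h3 := mul_le_mul_of_nonneg_left hb2' hg0.le
    have h4 : (X - 1) * (Y - 1) ≤ (X - ε) * (Y - s) := by
      refine mul_le_mul ?_ ?_ (by omega) ?_
      · rcases hε with rfl | rfl <;> omega
      · rcases hs with rfl | rfl <;> omega
      · rcases hε with rfl | rfl <;> omega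
    exact h4.trans (h2.trans h3)
  have hQH0 : 0 ≤ Q * H := by positivity
  rcases hg with hg1 | ⟨hg2, hX9, hY3⟩
  · rw [hg1, one_mul, one_mul] at h2'
    have h3 : 3 * (X * Y) ≤ 8 * ((X - 1) * (Y - 1)) := by
      nlinarith [mul_nonneg (show 0 ≤ X - 4 by omega) (show 0 ≤ Y - 2 by omega)]
    have h4 : Q * H * (3 * (X + Y + 2)) ≤ Q * H * (4 * (X + Y)) := mul_le_mul_of_nonneg_left (by omega) hQH0
    nlinarith [sq_nonneg Q, mul_nonneg hQH0 (show 0 ≤ X + Y by omega)]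
  · rw [hg2] at h2'
    have h3 : 16 * (X * Y) ≤ 27 * ((X - 1) * (Y - 1)) := by
      nlinarith [mul_nonneg (show 0 ≤ X - 9 by omega) (show 0 ≤ Y - 3 by omega)]
    have h4 : Q * H * (6 * (X + Y + 2)) ≤ Q * H * (7 * (X + Y)) := mul_le_mul_of_nonneg_left (by omega) hQH0
    nlinarith [sq_nonneg Q, mul_nonneg hQH0 (show 0 ≤ X + Y by omega)]

/-- the square -/
theorem ineq_sq (hX4 : 4 ≤ X) (hY2 : 2 ≤ Y) (hH : 1 ≤ H) (hM0 : 0 ≤ M) (hN0 : 1 ≤ N) (hQ : 4 ≤ Q)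
    (hb1 : 1 ≤ b) (hab : 2 * a ≤ 3 * b) (hcb : |c| ≤ 2 * Q * b) (hg : g = 1 ∨ g = 2)
    (hrel : a * M = b * N + c) (hgM : g * M = H * (X * Y - em)) (hem : em = 1 ∨ em = -1)
    (hT3 : (Y - 1) * (Y - -1) ∣ g * (g * N)) : Y ^ 2 ≤ 3 * H * (X * Y + 1) + 8 * Q + 1 := by
  have hg0 : 0 < g := by omega
  have h4 := Int.le_of_dvd (by positivity) hT3
  have h5 : b * (2 * N) ≤ b * (3 * M + 4 * Q) := by
    have h6 : b * (2 * N) = 2 * a * M - 2 * c := by linear_combination -2 * hrel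
    have h7 : 2 * a * M ≤ 3 * b * M := mul_le_mul_of_nonneg_right hab hM0
    have h8 := neg_abs_le c
    rw [h6]
    linarith
  have h6 : 2 * N ≤ 3 * M + 4 * Q := le_of_mul_le_mul_left h5 (by omega)
  have h7 : g * M ≤ H * (X * Y + 1) := by
    rw [hgM]
    refine mul_le_mul_of_nonneg_left ?_ (by omega)
    rcases hem with rfl | rfl <;> omega
  have h8 : (Y - 1) * (Y - -1) = Y ^ 2 - 1 := by ring
  rw [h8] at h4
  have h9 : 0 ≤ H * (X * Y + 1) := by positivity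
  rcases hg with h | h <;> rw [h] at h4 h7
  · linarith
  · linarith

/-- the bound for `M` -/
theorem nonC_M (hX4 : 4 ≤ X) (hY2 : 2 ≤ Y) (hH : 1 ≤ H) (hM0 : 0 ≤ M) (hN0 : 1 ≤ N) (hQ : 4 ≤ Q)
    (ha1 : 1 ≤ a) (haQ : a ≤ Q) (hb1 : 1 ≤ b) (hab : 2 * a ≤ 3 * b) (hcQ : |c| ≤ Q ^ 2) (hcb : |c| ≤ 2 * Q * b)
    (hg : g = 1 ∨ (g = 2 ∧ 9 ≤ X ∧ 3 ≤ Y)) (hrel : a * M = b * N + c)
    (hgM : g * M = H * (X * Y - em)) (hε : ε = 1 ∨ ε = -1) (hs : s = 1 ∨ s = -1) (hem : em = 1 ∨ em = -1)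
    (hT : X - ε ∣ g * N) (hz1 : a * H * (ε * Y - em) - g * c ≠ 0)
    (hT2 : (X - ε) * (Y - s) ∣ g * (g * N))
    (hz2 : a * H * (s * X + ε * Y - ε * s - em) - g * c ≠ 0)
    (hT3 : (Y - 1) * (Y - -1) ∣ g * (g * N)) : M ≤ 109 * (H ^ 4 * Q ^ 3) := by
  have hg' : g = 1 ∨ g = 2 := by tauto
  have h1 := ineq_one hY2 hH ha1 haQ hcQ hg' hrel hgM hε hem hT hz1
  have h2 := ineq_two hX4 hY2 hH ha1 haQ hcQ hg hrel hgM hε hs hem hT2 hz2
  have h3 := ineq_sq hX4 hY2 hH hM0 hN0 hQ hb1 hab hcb hg' hrel hgM hem hT3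
  have hfin := core_size hX4 hY2 hH hQ h1 h2 h3
  have h4 : M ≤ g * M := by
    rcases hg' with h | h <;> rw [h] <;> omega
  have h5 : g * M ≤ H * (X * Y + 1) := by
    rw [hgM]
    refine mul_le_mul_of_nonneg_left ?_ (by omega)
    rcases hem with rfl | rfl <;> omega
  have h6 : (1 : ℤ) ≤ (Q * H) ^ 3 := one_le_pow₀ (by nlinarith)
  calc M ≤ H * (X * Y + 1) := h4.trans h5
    _ ≤ H * (109 * (Q * H) ^ 3) := mul_le_mul_of_nonneg_left (by omega) (by omega)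
    _ = _ := by ring

/-- the zero case of one block in type II -/
theorem zeroII_one (hY4 : 4 ≤ Y) (hH : 1 ≤ H) (hg : g = 1 ∨ g = 2) (hc : c = 1 ∨ c = -1)
    (hε : ε = 1 ∨ ε = -1) (hem : em = 1 ∨ em = -1) (h1 : H * (ε * Y - em) = g * c) : False := by
  have h2 : 3 ≤ |ε * Y - em| := by
    rcases hε with rfl | rfl <;> rcases hem with rfl | rfl <;> rw [le_abs] <;> omega
  have h3 : |H * (ε * Y - em)| ≤ 2 := by
    rw [h1, abs_mul, abs_pm hc, mul_one]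
    rcases hg with rfl | rfl <;> norm_num
  rw [abs_mul, abs_of_pos (by omega : (0 : ℤ) < H)] at h3
  nlinarith

/-- the zero case of two blocks in type II, different blocks -/
theorem zeroII_two (hY4 : 4 ≤ Y) (hX4 : 4 ≤ X) (hXY : 4 * Y ≤ X ∨ 4 * X ≤ Y) (hH : 1 ≤ H) (hg : g = 1 ∨ g = 2)
    (hc : c = 1 ∨ c = -1) (hε : ε = 1 ∨ ε = -1) (hs : s = 1 ∨ s = -1) (hem : em = 1 ∨ em = -1)
    (h1 : H * (s * X + ε * Y - ε * s - em) = g * c) : False := by
  have h2 : 10 ≤ |s * X + ε * Y - ε * s - em| := by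
    rw [le_abs]
    rcases hXY with h3 | h3 <;> rcases hs with rfl | rfl <;> rcases hε with rfl | rfl <;>
      rcases hem with rfl | rfl <;> omega
  have h3 : |H * (s * X + ε * Y - ε * s - em)| ≤ 2 := by
    rw [h1, abs_mul, abs_pm hc, mul_one]
    rcases hg with rfl | rfl <;> norm_num
  rw [abs_mul, abs_of_pos (by omega : (0 : ℤ) < H)] at h3
  nlinarith

/-- the zero case of two blocks in type II, equal blocks -/
theorem zeroII_eq (hH : 1 ≤ H) (hg : g = 1 ∨ g = 2)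
    (hc : c = 1 ∨ c = -1) (hε : ε = 1 ∨ ε = -1) (hs : s = -ε) (hem : em = 1 ∨ em = -1) (hXY : X = Y)
    (h1 : H * (s * X + ε * Y - ε * s - em) = g * c) : em = -1 ∧ c = 1 ∧ H = 1 ∧ g = 2 := by
  have h2 : H * (1 - em) = g * c := by
    rw [← h1, hs, hXY]
    rcases hε with rfl | rfl <;> ring
  rcases hem with rfl | rfl
  · rw [sub_self, mul_zero] at h2
    rcases hg with h3 | h3 <;> rw [h3] at h2 <;> rcases hc with h4 | h4 <;> rw [h4] at h2 <;> norm_num at h2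
  · rcases hg with h3 | h3 <;> rw [h3] at h2 ⊢ <;> rcases hc with h4 | h4 <;> rw [h4] at h2 ⊢ <;>
      refine ⟨?_, ?_, ?_, ?_⟩ <;> omega

end

end Cfsg.Agent.R2.Spec.E
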