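import Cfsg.Agent.R2.Spec.E.LNum

/-!
# S3435, packet NON-C (helper10): the numeric core

* `core_size` : the final size estimate from the three inequalities;
* `pick_sign`, `pick_sign_one` : the sign of the second block, `gcd (u ^ k - ε, u ^ e - ε') ∣ 2`;
* `lnum'` : the relation of the two numbers of `L`, type II only for the families `FamII`, with the explicit values.
-/

set_option autoImplicit false

namespace Cfsg.Agent.R2.Spec.E

open Cfsg Cfsg.Agent.H426.LieFam Cfsg.Agent.R2.Spec Cfsg.Agent.R2.Spec.P1 Cfsg.Agent.R2.Spec.F1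

/-- the final size estimate -/
theorem core_size {X Y H Q : ℤ} (hX : 4 ≤ X) (hY : 2 ≤ Y) (hH : 1 ≤ H) (hQ : 4 ≤ Q)
    (h1 : X ≤ Q * H * (Y + 1) + 2 * Q ^ 2 + 1)
    (h2 : X * Y ≤ 4 * (Q * H * (X + Y)) + 7 * Q ^ 2)
    (h3 : Y ^ 2 ≤ 3 * H * (X * Y + 1) + 8 * Q + 1) : X * Y ≤ 108 * (Q * H) ^ 3 := by
  have hQH : 4 ≤ Q * H := by nlinarith
  have hQQ : Q ≤ Q * H := by nlinarith
  obtain ⟨R, hR⟩ : ∃ R, R = Q * H := ⟨_, rfl⟩
  rw [← hR] at hQH hQQ h1 h2 ⊢
  have hR2 : 4 * R ≤ R ^ 2 := by nlinarith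
  have hR3 : 4 * R ^ 2 ≤ R ^ 3 := by
    have : 0 ≤ R ^ 2 * (R - 4) := mul_nonneg (sq_nonneg R) (by omega)
    nlinarith
  have hQ2 : Q ^ 2 ≤ R ^ 2 := by nlinarith
  rcases le_or_gt Y X with hYX | hYX
  · by_cases hc : 7 * Q ^ 2 ≤ R * X
    · have h4 : X * Y ≤ 9 * R * X := by nlinarith
      have h5 : Y ≤ 9 * R := by
        by_contra hlt
        push Not at hlt
        nlinarith
      have h6 : X ≤ 12 * R ^ 2 := by nlinarith
      calc X * Y ≤ (12 * R ^ 2) * (9 * R) := mul_le_mul h6 h5 (by omega) (by positivity)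
        _ = 108 * R ^ 3 := by ring
    · push Not at hc
      have h4 : X < 7 * Q := by
        by_contra hlt
        push Not at hlt
        have h5 : Q * (7 * Q) ≤ R * X := mul_le_mul hQQ hlt (by omega) (by omega)
        nlinarith
      have h5 : X * Y ≤ 49 * Q ^ 2 := by nlinarith
      nlinarith
  · by_cases hc : 7 * Q ^ 2 ≤ R * Y
    · have h4 : X * Y ≤ 9 * R * Y := by nlinarith
      have h5 : X ≤ 9 * R := by
        by_contra hlt
        push Not at hlt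
        nlinarith
      have h6 : 7 * Q ≤ H * Y := by
        have h7 : Q * (7 * Q) ≤ Q * (H * Y) := by
          rw [hR] at hc
          nlinarith
        exact le_of_mul_le_mul_left h7 (by omega)
      have h8 : Y ^ 2 ≤ 4 * H * (X * Y) := by
        have h9 : 4 * (H * Y) ≤ H * (X * Y) := by nlinarith [mul_nonneg (show 0 ≤ H by omega) (show 0 ≤ Y by omega)]
        have h10 : 2 * H ≤ H * Y := by nlinarith
        have h11 : 2 ≤ H * Y := by nlinarith
        nlinarith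
      have h12 : Y ≤ 4 * H * X := by
        by_contra hlt
        push Not at hlt
        nlinarith
      have h13 : X * Y ≤ 4 * H * X ^ 2 := by nlinarith
      have h14 : X ^ 2 ≤ 81 * R ^ 2 := by nlinarith
      have h15 : 4 * H * X ^ 2 ≤ 4 * H * (81 * R ^ 2) := mul_le_mul_of_nonneg_left h14 (by omega)
      have h16 : 4 * H ≤ R := by rw [hR]; nlinarith
      have h17 : (4 * H) * (81 * R ^ 2) ≤ R * (81 * R ^ 2) := mul_le_mul_of_nonneg_right h16 (by positivity)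
      have h18 : 0 ≤ R ^ 3 := by positivity
      nlinarith
    · push Not at hc
      have h4 : Y < 7 * Q := by
        by_contra hlt
        push Not at hlt
        have h5 : Q * (7 * Q) ≤ R * Y := mul_le_mul hQQ hlt (by omega) (by omega)
        nlinarith
      have h5 : X * Y ≤ 49 * Q ^ 2 := by nlinarith
      nlinarith

/-- the sign of the second block if the first number is `u ^ k + 1` -/
theorem pick_sign (u : ℤ) {k e : ℕ} (hk : 1 ≤ k) (he : 1 ≤ e) : ∃ s : ℤ, (s = 1 ∨ s = -1) ∧ (k = e → s = 1) ∧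
    ∀ d : ℤ, d ∣ u ^ k + 1 → d ∣ u ^ e - s → d ∣ 2 := by
  obtain ⟨α, k1, hk1, hkα⟩ := Nat.exists_eq_two_pow_mul_odd (n := k) (by omega)
  obtain ⟨β, e1, he1, heβ⟩ := Nat.exists_eq_two_pow_mul_odd (n := e) (by omega)
  rcases le_or_gt β α with hβ | hβ
  · refine ⟨1, Or.inl rfl, fun _ => rfl, fun d h1 h2 => ?_⟩
    have h3 : k * e1 = e * (2 ^ (α - β) * k1) := by
      obtain ⟨γ, rfl⟩ : ∃ γ, α = β + γ := ⟨α - β, by omega⟩
      rw [hkα, heβ, Nat.add_sub_cancel_left, pow_add]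
      ring
    have h4 : d ∣ (u ^ k) ^ e1 - (-1) ^ e1 :=
      (show d ∣ u ^ k - (-1) by rw [sub_neg_eq_add]; exact h1).trans (sub_dvd_pow_sub_pow _ _ _)
    have h5 : d ∣ (u ^ e) ^ (2 ^ (α - β) * k1) - 1 ^ (2 ^ (α - β) * k1) := h2.trans (sub_dvd_pow_sub_pow _ _ _)
    rw [← pow_mul] at h4 h5
    rw [h3, he1.neg_one_pow] at h4
    rw [one_pow] at h5
    have h6 := dvd_sub h4 h5
    have h7 : u ^ (e * (2 ^ (α - β) * k1)) - -1 - (u ^ (e * (2 ^ (α - β) * k1)) - 1) = 2 := by ring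
    rwa [h7] at h6
  · refine ⟨-1, Or.inr rfl, fun h => ?_, fun d h1 h2 => ?_⟩
    · exfalso
      rw [hkα, heβ] at h
      obtain ⟨γ, rfl⟩ : ∃ γ, β = α + (γ + 1) := ⟨β - α - 1, by omega⟩
      rw [pow_add, mul_assoc] at h
      have h3 := Nat.eq_of_mul_eq_mul_left (by positivity) h
      rw [h3, pow_succ] at hk1
      exact Nat.not_even_iff_odd.2 hk1 ⟨2 ^ γ * e1, by ring⟩
    · have h3 : e * k1 = k * (2 ^ (β - α) * e1) := by
        obtain ⟨γ, rfl⟩ : ∃ γ, β = α + γ := ⟨β - α, by omega⟩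
        rw [hkα, heβ, Nat.add_sub_cancel_left, pow_add]
        ring
      have h4 : d ∣ (u ^ e) ^ k1 - (-1) ^ k1 := h2.trans (sub_dvd_pow_sub_pow _ _ _)
      have h5 : d ∣ (u ^ k) ^ (2 ^ (β - α) * e1) - (-1) ^ (2 ^ (β - α) * e1) :=
        (show d ∣ u ^ k - (-1) by rw [sub_neg_eq_add]; exact h1).trans (sub_dvd_pow_sub_pow _ _ _)
      have hev : Even (2 ^ (β - α) * e1) := by
        obtain ⟨γ, hγ⟩ : ∃ γ, β - α = γ + 1 := ⟨β - α - 1, by omega⟩
        rw [hγ, pow_succ]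
        exact ⟨2 ^ γ * e1, by ring⟩
      rw [← pow_mul] at h4 h5
      rw [h3, hk1.neg_one_pow] at h4
      rw [hev.neg_one_pow] at h5
      have h6 := dvd_sub h4 h5
      have h7 : u ^ (k * (2 ^ (β - α) * e1)) - -1 - (u ^ (k * (2 ^ (β - α) * e1)) - 1) = 2 := by ring
      rwa [h7] at h6

/-- the sign of the second block if the first number is `u ^ k - 1`, `k` odd -/
theorem pick_sign_one (u : ℤ) {k e : ℕ} (hk : Odd k) {d : ℤ} (h1 : d ∣ u ^ k - 1) (h2 : d ∣ u ^ e + 1) : d ∣ 2 := by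
  have h4 : d ∣ (u ^ e) ^ k - (-1) ^ k :=
    (show d ∣ u ^ e - (-1) by rw [sub_neg_eq_add]; exact h2).trans (sub_dvd_pow_sub_pow _ _ _)
  have h5 : d ∣ (u ^ k) ^ e - 1 ^ e := h1.trans (sub_dvd_pow_sub_pow _ _ _)
  rw [← pow_mul] at h4 h5
  rw [mul_comm e k, hk.neg_one_pow] at h4
  rw [one_pow] at h5
  have h6 := dvd_sub h4 h5
  have h7 : u ^ (k * e) - -1 - (u ^ (k * e) - 1) = 2 := by ring
  rwa [h7] at h6

/-- `x ∣ n`, `y ∣ n`, `gcd x y ∣ g` : `x y ∣ g n` -/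
theorem mul_dvd_of_gcd {x y n g : ℤ} (hx : x ∣ n) (hy : y ∣ n) (hg : ∀ d : ℤ, d ∣ x → d ∣ y → d ∣ g) :
    x * y ∣ g * n := by
  obtain ⟨γ, hγ⟩ := hg (Int.gcd x y) (Int.gcd_dvd_left _ _) (Int.gcd_dvd_right _ _)
  have h1 := Int.gcd_eq_gcd_ab x y
  obtain ⟨a, ha⟩ := hx
  obtain ⟨b, hb⟩ := hy
  refine ⟨γ * (Int.gcdA x y * b + Int.gcdB x y * a), ?_⟩
  calc g * n = γ * ((x * Int.gcdA x y + y * Int.gcdB x y) * n) := by rw [hγ, h1]; ring
    _ = γ * (x * Int.gcdA x y * n + y * Int.gcdB x y * n) := by ring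
    _ = γ * (x * Int.gcdA x y * (y * b) + y * Int.gcdB x y * (x * a)) := by rw [← hb, ← ha]
    _ = _ := by ring

end Cfsg.Agent.R2.Spec.E
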