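import Cfsg.Agent.R2.Spec.E.NonDSmall

/-!
# S3435, packet NON-D (helper19): `P = (u ^ m + 1) / (2, u - 1)`, `m` even, `u ≥ 4`, `k < 2 (m - k)`

Only `(m, k) = (16, 10), (8, 4), (8, 5), (4, 2)` remain.
-/

set_option autoImplicit false

namespace Cfsg.Agent.R2.Spec.E

open Cfsg Cfsg.Agent.H426.LieFam Cfsg.Agent.R2.Spec Cfsg.Agent.R2.Spec.P1 Cfsg.Agent.R2.Spec.F1
open Cfsg.Agent.R2.Spec.P1.Eig (AN AN_one AN_neg)

/-- a power of two below -/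
theorem no_g {u m g P N : ℕ} (hu : 2 ≤ u) (hg : 1 ≤ g) {r : ℕ} (hr : r % 2 = 1) (hm : m = g * r)
    (hP : Nat.gcd 2 (u - 1) * P = u ^ m + 1) (hcop : Nat.Coprime P N) (h : u ^ g + 1 ∣ 2 * N) : False := by
  have h1 : u ^ g + 1 ∣ u ^ m + 1 := by
    have h2 := Odd.nat_add_dvd_pow_add_pow (u ^ g) 1 (Nat.odd_iff.2 hr)
    rwa [one_pow, ← pow_mul, ← hm] at h2
  have h3 : 2 ≤ u ^ g := hu.trans (Nat.le_self_pow (by omega) u)
  rcases Nat.mod_two_eq_zero_or_one u with hu2 | hu2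
  · rw [gcd_two_even hu hu2, one_mul] at hP
    have h4 := pow_even_mod (u := u) (m := g) hg hu2
    have h5 : Nat.Coprime (u ^ g + 1) 2 := (Nat.coprime_two_right).2 (Nat.odd_iff.2 (by omega))
    have h6 := Nat.dvd_gcd (hP ▸ h1 : u ^ g + 1 ∣ P) (h5.dvd_of_dvd_mul_left h)
    rw [hcop] at h6
    have h7 := Nat.le_of_dvd (by norm_num) h6
    omega
  · rw [gcd_two_odd hu2] at hP
    have h4 := pow_odd hu2 g
    obtain ⟨x, hx⟩ : ∃ x, u ^ g + 1 = 2 * x := ⟨(u ^ g + 1) / 2, by omega⟩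
    rw [hx] at h h1
    rw [← hP] at h1
    have h6 := Nat.dvd_gcd (Nat.dvd_of_mul_dvd_mul_left two_pos h1) (Nat.dvd_of_mul_dvd_mul_left two_pos h)
    rw [hcop] at h6
    have h7 := Nat.le_of_dvd (by norm_num) h6
    omega

/-- the values of `m` and `k` -/
theorem bigD_cases {u m k P H N : ℕ} {ε : ℤ} (hu : 4 ≤ u) (hm : 4 ≤ m) (hP : Nat.gcd 2 (u - 1) * P = u ^ m + 1)
    (hHu : 2 * H ≤ u) (hcop : Nat.Coprime P N) (hk : 2 ≤ k) (hkm : k + 1 < m) (hke : k < 2 * (m - k))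
    (h : DTor u m k ε N) (hN : 1 ≤ N) (hNM : N < 2 * (H * P)) :
    (m = 16 ∧ k = 10) ∨ (m = 8 ∧ k = 4) ∨ (m = 8 ∧ k = 5) ∨ (m = 4 ∧ k = 2) := by
  obtain ⟨s, r, hr, hmr⟩ := Nat.exists_eq_two_pow_mul_odd (n := m) (by omega)
  rw [Nat.odd_iff] at hr
  have hs1 : 1 ≤ 2 ^ s := Nat.one_le_two_pow
  -- `m` is a power of two
  have h1 : m - 1 - k < 2 ^ s := by
    by_contra hlt
    push Not at hlt
    refine no_g (g := 2 ^ s) (by omega) hs1 hr hmr hP hcop ?_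
    have h2 := (h (2 ^ s) hs1 (by omega) (-1) (Or.inr rfl)).2
    rwa [AN_neg] at h2
  have hr1 : r = 1 := by
    by_contra hne
    have h2 : 3 ≤ r := by omega
    have h3 : 2 ^ s * 3 ≤ m := by rw [hmr]; exact Nat.mul_le_mul_left _ h2
    omega
  rw [hr1, mul_one] at hmr
  -- the upper bound
  have hPm : P ≤ u ^ m + 1 := by
    have h2 : 1 ≤ Nat.gcd 2 (u - 1) := Nat.gcd_pos_of_pos_left _ (by norm_num)
    rw [← hP]
    exact Nat.le_mul_of_pos_left P h2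
  have h2 : 3 ≤ m - 1 - k → 4 * (m - 1 - k) - 4 ≤ m + 2 := by
    intro hB
    by_contra hlt
    push Not at hlt
    have h3 := lowN_D (u := u) (B := m - 1 - k) (N := N) (by omega) hB hN
      (fun b hb hbB s hs => h.int (by omega) hb (by omega) hs)
    have h4 : u ^ (m + 3) ≤ u ^ (4 * (m - 1 - k) - 4) := Nat.pow_le_pow_right (by omega) (by omega)
    have h5 : 2 * (2 * H * P) ≤ 2 * (u * (u ^ m + 1)) := Nat.mul_le_mul_left _ (Nat.mul_le_mul hHu hPm)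
    have h6 : u * u ^ m * 16 ≤ u ^ (m + 3) := by
      rw [show u ^ (m + 3) = u * u ^ m * u ^ 2 by ring]
      exact Nat.mul_le_mul_left _ (Nat.pow_le_pow_left hu 2)
    have h7 : u * 1 ≤ u * u ^ m := Nat.mul_le_mul_left _ (Nat.one_le_pow _ _ (by omega))
    have h8 : u * (u ^ m + 1) = u * u ^ m + u := by ring
    have h9 : 2 * (2 * H * P) = 2 * (2 * (H * P)) := by ring
    rw [h8] at h5
    omega
  have h3 : m ≤ 26 := by omega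
  have h4 : s < 5 := by
    by_contra hlt
    push Not at hlt
    have h5 : 2 ^ 5 ≤ 2 ^ s := Nat.pow_le_pow_right (by norm_num) hlt
    omega
  interval_cases s
  · omega
  · omega
  · omega
  · omega
  · omega

section

variable {p D d q M N : ℕ} {a b c : ℤ}

/-- `m = 16`, `k = 10` -/
theorem bigD_16 {u H P N : ℕ} (hu : 4 ≤ u) (hHu : 2 * H ≤ u) (hPm : P ≤ u ^ 16 + 1) (hN : 1 ≤ N)
    (hNM : N < 2 * (H * P)) (h : DTor u 16 10 (-1) N) : False := by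
  have hu' : (4 : ℤ) ≤ u := by exact_mod_cast hu
  have h1 : (u : ℤ) ^ (2 * 5) - 1 ∣ 4 * (N : ℤ) :=
    sq_dvd_of fun s hs => h.int (b := 5) (by omega) (by norm_num) (by norm_num) hs
  have h2 : (u : ℤ) ^ 10 + 1 ∣ 2 * (N : ℤ) := by
    have h3 := (h 1 le_rfl (by norm_num) 1 (Or.inl rfl)).1
    rw [AN_neg] at h3
    exact_mod_cast h3
  have h3 : ((u : ℤ) ^ (2 * 5) - 1) * ((u : ℤ) ^ 10 + 1) ∣ 2 * (4 * (N : ℤ)) := by
    refine mul_dvd_of_gcd h1 (h2.trans ⟨2, by ring⟩) fun e h4 h5 => ?_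
    have h6 := dvd_sub h5 h4
    rwa [show (u : ℤ) ^ 10 + 1 - ((u : ℤ) ^ (2 * 5) - 1) = 2 by ring] at h6
  have hN' : (1 : ℤ) ≤ N := by exact_mod_cast hN
  have h4 := Int.le_of_dvd (by omega) h3
  have h5 : ((u : ℤ) ^ (2 * 5) - 1) * ((u : ℤ) ^ 10 + 1) = (u : ℤ) ^ 20 - 1 := by ring
  rw [h5] at h4
  have h6 : u ^ 20 ≤ 8 * N + 1 := by
    have : (u : ℤ) ^ 20 ≤ 8 * N + 1 := by linarith
    exact_mod_cast this
  have h7 : 2 * H * P ≤ u * (u ^ 16 + 1) := Nat.mul_le_mul hHu hPm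
  have h8 : u ^ 17 * 4 ^ 3 ≤ u ^ 20 := by
    rw [show u ^ 20 = u ^ 17 * u ^ 3 by ring]
    exact Nat.mul_le_mul_left _ (Nat.pow_le_pow_left hu 3)
  have h9 : u * (u ^ 16 + 1) = u ^ 17 + u := by ring
  have h10 : u ≤ u ^ 17 := Nat.le_self_pow (by norm_num) u
  have h11 : 2 * H * P = 2 * (H * P) := by ring
  rw [h9, h11] at h7
  omega

/-- `m = 8`, `k = 4` -/
theorem bigD_84 {u H P N : ℕ} (hu : 4 ≤ u) (hHu : 2 * H ≤ u) (hPm : P ≤ u ^ 8 + 1) (hN : 1 ≤ N)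
    (hNM : N < 2 * (H * P)) (h : DTor u 8 4 (-1) N) : False := by
  have hu' : (4 : ℤ) ≤ u := by exact_mod_cast hu
  have h1 : (u : ℤ) ^ (2 * 3) - 1 ∣ 4 * (N : ℤ) :=
    sq_dvd_of fun s hs => h.int (b := 3) (by omega) (by norm_num) (by norm_num) hs
  have h2 : (u : ℤ) ^ 4 + 1 ∣ 2 * (N : ℤ) := by
    have h3 := (h 1 le_rfl (by norm_num) 1 (Or.inl rfl)).1
    rw [AN_neg] at h3
    exact_mod_cast h3
  have h2' : (u : ℤ) ^ 2 + 1 ∣ 2 * (N : ℤ) := by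
    have h3 := (h 2 (by norm_num) (by norm_num) (-1) (Or.inr rfl)).2
    rw [AN_neg] at h3
    exact_mod_cast h3
  have h3 : ((u : ℤ) ^ (2 * 3) - 1) * ((u : ℤ) ^ 2 + 1) ∣ 2 * (4 * (N : ℤ)) := by
    refine mul_dvd_of_gcd h1 (h2'.trans ⟨2, by ring⟩) fun e h4 h5 => ?_
    have h6 := dvd_sub (h5.mul_left ((u : ℤ) ^ 4 - u ^ 2 + 1)) h4
    rwa [show ((u : ℤ) ^ 4 - u ^ 2 + 1) * ((u : ℤ) ^ 2 + 1) - ((u : ℤ) ^ (2 * 3) - 1) = 2 by ring] at h6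
  have h3' : (((u : ℤ) ^ (2 * 3) - 1) * ((u : ℤ) ^ 2 + 1)) * ((u : ℤ) ^ 4 + 1) ∣ 2 * (2 * (4 * (N : ℤ))) := by
    refine mul_dvd_of_gcd h3 (h2.trans ⟨4, by ring⟩) fun e h4 h5 => ?_
    have h6 := dvd_sub (h4.mul_left ((u : ℤ) ^ 2)) (h5.mul_left ((u : ℤ) ^ 6 + u ^ 4 - u ^ 2 - 2))
    rwa [show (u : ℤ) ^ 2 * (((u : ℤ) ^ (2 * 3) - 1) * ((u : ℤ) ^ 2 + 1)) -
      ((u : ℤ) ^ 6 + u ^ 4 - u ^ 2 - 2) * ((u : ℤ) ^ 4 + 1) = 2 by ring] at h6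
  have hN' : (1 : ℤ) ≤ N := by exact_mod_cast hN
  have h4 := Int.le_of_dvd (by omega) h3'
  have h5 : (u : ℤ) ^ 12 ≤ (((u : ℤ) ^ (2 * 3) - 1) * ((u : ℤ) ^ 2 + 1)) * ((u : ℤ) ^ 4 + 1) := by
    have h6 : (((u : ℤ) ^ (2 * 3) - 1) * ((u : ℤ) ^ 2 + 1)) * ((u : ℤ) ^ 4 + 1) - (u : ℤ) ^ 12 =
      (u : ℤ) ^ 10 + (u ^ 8 - u ^ 4 - u ^ 2 - 1) := by ring
    have h7 : (u : ℤ) ^ 4 + u ^ 2 + 1 ≤ u ^ 8 := by
      have h8 : (16 : ℤ) ≤ u ^ 2 := by nlinarith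
      have h9 : (u : ℤ) ^ 2 ≤ u ^ 4 := pow_le_pow_right₀ (by omega) (by norm_num)
      have h10 : (u : ℤ) ^ 8 = u ^ 4 * u ^ 4 := by ring
      nlinarith
    have h8 : (0 : ℤ) ≤ u ^ 10 := by positivity
    linarith
  have h6 : u ^ 12 ≤ 16 * N := by
    have : (u : ℤ) ^ 12 ≤ 16 * N := by linarith
    exact_mod_cast this
  have h7 : 2 * H * P ≤ u * (u ^ 8 + 1) := Nat.mul_le_mul hHu hPm
  have h8 : u ^ 9 * 4 ^ 3 ≤ u ^ 12 := by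
    rw [show u ^ 12 = u ^ 9 * u ^ 3 by ring]
    exact Nat.mul_le_mul_left _ (Nat.pow_le_pow_left hu 3)
  have h9 : u * (u ^ 8 + 1) = u ^ 9 + u := by ring
  have h10 : u ≤ u ^ 9 := Nat.le_self_pow (by norm_num) u
  have h11 : 2 * H * P = 2 * (H * P) := by ring
  rw [h9, h11] at h7
  omega

/-- the final estimate for `m = 8`, `k = 5` -/
theorem est_85 {u z L R Q H M : ℤ} (hu : 4 ≤ u) (hz : z = Q * H) (hz4 : 4 ≤ z) (hQ : 0 ≤ Q) (hQz : Q ≤ z) (hH : 1 ≤ H)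
    (hL : 3 * u ^ 8 ≤ 4 * L) (hR : 16 * R ≤ 21 * u ^ 5) (h : L ≤ 4 * (z * R + 2 * u * Q ^ 2))
    (hM : M ≤ H * (u ^ 8 + 1)) : M ≤ 106 * (H ^ 4 * Q ^ 3) := by
  have h1 : z * (16 * R) ≤ z * (21 * u ^ 5) := mul_le_mul_of_nonneg_left hR (by omega)
  have hQ2 : Q ^ 2 ≤ z ^ 2 := by nlinarith
  have h2 : u * (32 * Q ^ 2) ≤ u * (32 * z ^ 2) := mul_le_mul_of_nonneg_left (by omega) (by omega)
  have h3 : u * (3 * u ^ 7) ≤ u * (21 * (z * u ^ 4) + 32 * z ^ 2) := by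
    have e1 : u * (3 * u ^ 7) = 3 * u ^ 8 := by ring
    have e2 : u * (21 * (z * u ^ 4) + 32 * z ^ 2) = z * (21 * u ^ 5) + u * (32 * z ^ 2) := by ring
    rw [e1, e2]
    linarith
  have h4 : 3 * u ^ 7 ≤ 21 * (z * u ^ 4) + 32 * z ^ 2 := le_of_mul_le_mul_left h3 (by omega)
  have h5 : 2 * u ^ 3 ≤ 15 * z := by
    by_contra hlt
    push Not at hlt
    have h6 : 15 * (z * u ^ 4) ≤ 2 * u ^ 7 := by
      have h7 := mul_le_mul_of_nonneg_right hlt.le (show (0 : ℤ) ≤ u ^ 4 by positivity)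
      have e1 : 2 * u ^ 3 * u ^ 4 = 2 * u ^ 7 := by ring
      rw [e1] at h7
      linarith
    have h7 : 225 * z ^ 2 ≤ 4 * u ^ 6 := by
      have h8 := mul_le_mul hlt.le hlt.le (by omega) (by positivity)
      have e1 : 2 * u ^ 3 * (2 * u ^ 3) = 4 * u ^ 6 := by ring
      have e2 : 15 * z * (15 * z) = 225 * z ^ 2 := by ring
      rw [e1, e2] at h8
      exact h8
    have h8 : 4 * u ^ 6 ≤ u ^ 7 := by
      have e1 : u ^ 7 = u * u ^ 6 := by ring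
      rw [e1]
      exact mul_le_mul_of_nonneg_right hu (by positivity)
    have h9 : 0 < u ^ 7 := by positivity
    linarith
  have h6 : 8 * u ^ 9 ≤ 3375 * z ^ 3 := by
    have h7 := pow_le_pow_left₀ (by positivity) h5 3
    have e1 : (2 * u ^ 3) ^ 3 = 8 * u ^ 9 := by ring
    have e2 : (15 * z) ^ 3 = 3375 * z ^ 3 := by ring
    rw [e1, e2] at h7
    exact h7
  have h7 : 4 * u ^ 8 ≤ u ^ 9 := by
    have e1 : u ^ 9 = u * u ^ 8 := by ring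
    rw [e1]
    exact mul_le_mul_of_nonneg_right hu (by positivity)
  have h8 : (64 : ℤ) ≤ z ^ 3 := by
    have := pow_le_pow_left₀ (by norm_num) hz4 3
    linarith
  have h9 : u ^ 8 + 1 ≤ 106 * z ^ 3 := by linarith
  calc M ≤ H * (u ^ 8 + 1) := hM
    _ ≤ H * (106 * z ^ 3) := mul_le_mul_of_nonneg_left h9 (by omega)
    _ = 106 * (H ^ 4 * Q ^ 3) := by rw [hz]; ring

/-- `m = 8`, `k = 5` -/
theorem bigD_85 (h : NDat p D d q M N a b c) {u P H : ℕ} {ε : ℤ} (hu : 4 ≤ u) (hpu : ¬ p ∣ u)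
    (hP : Nat.gcd 2 (u - 1) * P = u ^ 8 + 1) (hMP : M = H * P) (hH : 1 ≤ H) (hε : ε = 1 ∨ ε = -1)
    (ht : DTor u 8 5 ε N) : M ≤ 106 * (H ^ 4 * (q + 1) ^ 3) := by
  have hu' : (4 : ℤ) ≤ u := by exact_mod_cast hu
  obtain ⟨g, hg⟩ : ∃ g, g = Nat.gcd 2 (u - 1) := ⟨_, rfl⟩
  have hg' : g = 1 ∨ g = 2 := by rw [hg]; exact (Nat.dvd_prime Nat.prime_two).1 (Nat.gcd_dvd_left _ _)
  rw [← hg] at hP
  have hPZ : (g : ℤ) * P = (u : ℤ) ^ 8 + 1 := by exact_mod_cast hP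
  have hMZ : (M : ℤ) = H * P := by exact_mod_cast hMP
  have hH1 : (1 : ℤ) ≤ H := by exact_mod_cast hH
  have hεε : ε * ε = 1 := by rcases hε with rfl | rfl <;> rfl
  have h1 : (u : ℤ) ^ (2 * 2) - 1 ∣ 4 * (N : ℤ) :=
    sq_dvd_of fun s hs => ht.int (b := 2) (by omega) (by norm_num) (by norm_num) hs
  have h2 : (u : ℤ) ^ 5 - ε ∣ 2 * (N : ℤ) := by
    have h3 := (ht 1 le_rfl (by norm_num) 1 (Or.inl rfl)).1
    rw [← cast_AN hε (by omega)]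
    exact_mod_cast h3
  -- the least common multiple
  have h3 : ((u : ℤ) ^ 4 - 1) * ((u : ℤ) ^ 4 + ε * u ^ 3 + u ^ 2 + ε * u + 1) ∣ 4 * (N : ℤ) := by
    obtain ⟨α, hα⟩ := h1
    obtain ⟨γ, hγ⟩ := h2.trans (⟨2, by ring⟩ : (2 : ℤ) * N ∣ 4 * N)
    have e1 : (u : ℤ) ^ (2 * 2) - 1 = (u - ε) * ((u : ℤ) ^ 3 + ε * u ^ 2 + u + ε) := by
      have : ((u : ℤ) - ε) * ((u : ℤ) ^ 3 + ε * u ^ 2 + u + ε) =
        (u : ℤ) ^ (2 * 2) - ε * ε * u ^ 2 + u ^ 2 - ε * ε := by ring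
      rw [this, hεε]
      ring
    have e2 : (u : ℤ) ^ 5 - ε = (u - ε) * ((u : ℤ) ^ 4 + ε * u ^ 3 + u ^ 2 + ε * u + 1) := by
      have : ((u : ℤ) - ε) * ((u : ℤ) ^ 4 + ε * u ^ 3 + u ^ 2 + ε * u + 1) =
        (u : ℤ) ^ 5 - ε * ε * u ^ 3 + u ^ 3 - ε * ε * u + u - ε := by ring
      rw [this, hεε]
      ring
    refine ⟨α - u * γ, ?_⟩
    have e3 : (u : ℤ) ^ 4 - 1 = (u : ℤ) ^ (2 * 2) - 1 := by norm_num
    rw [e2] at hγ
    rw [e3]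
    have e4 : (4 : ℤ) * N = (4 * N) * ((u : ℤ) ^ 4 + ε * u ^ 3 + u ^ 2 + ε * u + 1) -
      (4 * N) * (u * ((u : ℤ) ^ 3 + ε * u ^ 2 + u + ε)) := by ring
    rw [e4]
    nth_rewrite 1 [hα]
    rw [hγ, e1]
    ring
  have hpuZ : ¬ (p : ℤ) ∣ (u : ℤ) := fun h0 => hpu (by exact_mod_cast h0)
  have hpg : ¬ (p : ℤ) ∣ (g : ℤ) := by
    intro h0
    rcases hg' with h4 | h4 <;> rw [h4] at h0
    · exact h.hpZ.not_isUnit (isUnit_of_dvd_one (by exact_mod_cast h0))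
    · exact h.not_two (by exact_mod_cast h0)
  have h4 := h.main (H := H) (g := (g : ℤ) * u) (κ := 4)
    (T0 := ((u : ℤ) ^ 4 - 1) * ((u : ℤ) ^ 4 + ε * u ^ 3 + u ^ 2 + ε * u + 1)) (t0 := (u : ℤ) - ε)
    (ρ0 := (u : ℤ) ^ 5 + ε * u ^ 4 + u - ε) hH (by rw [hMP]; exact Dvd.intro _ rfl) (by norm_num)
    (h.not_pow_two 2) (fun h0 => by rcases h.hpZ.dvd_or_dvd h0 with h5 | h5; exact hpg h5; exact hpuZ h5)
    (fun h0 => ?_) h3 ?_ (fun h5 h6 => ?_)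
  · have hg0 : |(g : ℤ) * u| ≤ 2 * u := by
      rw [abs_mul, Nat.abs_cast, Nat.abs_cast]
      rcases hg' with h5 | h5 <;> rw [h5] <;> push_cast <;> linarith
    have hq := h.q3
    have hq' : (4 : ℤ) ≤ (q : ℤ) + 1 := by omega
    have hu4 : (4 : ℤ) * u ^ 3 ≤ u ^ 4 := by
      rw [show (u : ℤ) ^ 4 = u * u ^ 3 by ring]
      exact mul_le_mul_of_nonneg_right hu' (by positivity)
    have hu5 : (4 : ℤ) * u ^ 4 ≤ u ^ 5 := by
      rw [show (u : ℤ) ^ 5 = u * u ^ 4 by ring]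
      exact mul_le_mul_of_nonneg_right hu' (by positivity)
    have hu3 : (4 : ℤ) * u ^ 2 ≤ u ^ 3 := by
      rw [show (u : ℤ) ^ 3 = u * u ^ 2 by ring]
      exact mul_le_mul_of_nonneg_right hu' (by positivity)
    have hu2 : (4 : ℤ) * u ≤ u ^ 2 := by
      rw [show (u : ℤ) ^ 2 = u * u by ring]
      exact mul_le_mul_of_nonneg_right hu' (by positivity)
    have hu6 : (4 : ℤ) * u ^ 5 ≤ u ^ 6 := by
      rw [show (u : ℤ) ^ 6 = u * u ^ 5 by ring]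
      exact mul_le_mul_of_nonneg_right hu' (by positivity)
    have hu7 : (4 : ℤ) * u ^ 6 ≤ u ^ 7 := by
      rw [show (u : ℤ) ^ 7 = u * u ^ 6 by ring]
      exact mul_le_mul_of_nonneg_right hu' (by positivity)
    have hu8 : (4 : ℤ) * u ^ 7 ≤ u ^ 8 := by
      rw [show (u : ℤ) ^ 8 = u * u ^ 7 by ring]
      exact mul_le_mul_of_nonneg_right hu' (by positivity)
    have hR0 : 0 ≤ (u : ℤ) ^ 5 + ε * u ^ 4 + u - ε := by
      rcases hε with rfl | rfl <;> linarith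
    have hfin := est_85 (u := (u : ℤ)) (z := ((q : ℤ) + 1) * H) (Q := (q : ℤ) + 1) (H := H) (M := (M : ℤ))
      (L := ((u : ℤ) ^ 4 - 1) * ((u : ℤ) ^ 4 + ε * u ^ 3 + u ^ 2 + ε * u + 1))
      (R := (u : ℤ) ^ 5 + ε * u ^ 4 + u - ε) hu' rfl (by nlinarith) (by omega) (by nlinarith) hH1 ?_ ?_ ?_ ?_
    · exact_mod_cast hfin
    · rcases hε with rfl | rfl
      · have e1 : ((u : ℤ) ^ 4 - 1) * ((u : ℤ) ^ 4 + 1 * u ^ 3 + u ^ 2 + 1 * u + 1) =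
          (u : ℤ) ^ 8 + u ^ 7 + u ^ 6 + u ^ 5 - u ^ 3 - u ^ 2 - u - 1 := by ring
        rw [e1]
        linarith
      · have e1 : ((u : ℤ) ^ 4 - 1) * ((u : ℤ) ^ 4 + -1 * u ^ 3 + u ^ 2 + -1 * u + 1) =
          (u : ℤ) ^ 8 - u ^ 7 + u ^ 6 - u ^ 5 + u ^ 3 - u ^ 2 + u - 1 := by ring
        rw [e1]
        linarith
    · rcases hε with rfl | rfl <;> linarith
    · refine h4.trans (mul_le_mul_of_nonneg_left ?_ (by norm_num))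
      rw [abs_of_nonneg hR0]
      have h5 : |(g : ℤ) * u| * ((q : ℤ) + 1) ^ 2 ≤ 2 * u * ((q : ℤ) + 1) ^ 2 :=
        mul_le_mul_of_nonneg_right hg0 (by positivity)
      linarith
    · rw [hMZ]
      refine mul_le_mul_of_nonneg_left ?_ (by omega)
      have hP0 : (0 : ℤ) ≤ P := by positivity
      rcases hg' with h5 | h5 <;> rw [h5] at hPZ <;> push_cast at hPZ <;> linarith
  · have e2 : (u : ℤ) ^ 5 - ε = (u - ε) * ((u : ℤ) ^ 4 + ε * u ^ 3 + u ^ 2 + ε * u + 1) := by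
      have : ((u : ℤ) - ε) * ((u : ℤ) ^ 4 + ε * u ^ 3 + u ^ 2 + ε * u + 1) =
        (u : ℤ) ^ 5 - ε * ε * u ^ 3 + u ^ 3 - ε * ε * u + u - ε := by ring
      rw [this, hεε]
      ring
    have h5 : (p : ℤ) ∣ 2 * N := h0.trans ((Dvd.intro _ e2.symm).trans h2)
    rcases h.hpZ.dvd_or_dvd h5 with h6 | h6
    · exact h.not_two h6
    · exact h.hpN h6
  · rw [hMZ]
    have e3 : ((u : ℤ) - ε) * (((u : ℤ) ^ 4 - 1) * ((u : ℤ) ^ 4 + ε * u ^ 3 + u ^ 2 + ε * u + 1)) +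
        ((u : ℤ) ^ 5 + ε * u ^ 4 + u - ε) = u * ((u : ℤ) ^ 8 + 1) := by
      have : ((u : ℤ) - ε) * (((u : ℤ) ^ 4 - 1) * ((u : ℤ) ^ 4 + ε * u ^ 3 + u ^ 2 + ε * u + 1)) +
        ((u : ℤ) ^ 5 + ε * u ^ 4 + u - ε) = (u : ℤ) ^ 9 + u + (1 - ε * ε) * (u ^ 7 + u ^ 5 - u ^ 3 - u) := by ring
      rw [this, hεε]
      ring
    rw [e3, ← hPZ]
    ring
  · obtain ⟨-, -, hc⟩ := h5
    have h7 : (H : ℤ) * ((u : ℤ) ^ 5 + ε * u ^ 4 + u - ε) ≤ 2 * u := by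
      rw [h6]
      rcases hg' with h8 | h8 <;> rcases hc with h9 | h9 <;> rw [h8, h9] <;> push_cast <;> linarith
    have hu5 : (4 : ℤ) * u ^ 4 ≤ u ^ 5 := by
      rw [show (u : ℤ) ^ 5 = u * u ^ 4 by ring]
      exact mul_le_mul_of_nonneg_right hu' (by positivity)
    have hu4 : (u : ℤ) ≤ u ^ 4 := by
      have := pow_le_pow_right₀ (show (1 : ℤ) ≤ u by omega) (show 1 ≤ 4 by norm_num)
      rwa [pow_one] at this
    have h8 : 2 * (u : ℤ) + 1 ≤ (u : ℤ) ^ 5 + ε * u ^ 4 + u - ε := by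
      rcases hε with rfl | rfl <;> linarith
    have h9 : 1 * ((u : ℤ) ^ 5 + ε * u ^ 4 + u - ε) ≤ (H : ℤ) * ((u : ℤ) ^ 5 + ε * u ^ 4 + u - ε) :=
      mul_le_mul_of_nonneg_right hH1 (by linarith)
    linarith

/-- `m = 4`, `k = 2` -/
theorem bigD_42 (h : NDat p D d q M N a b c) (hD : 1 ≤ D) {u P H : ℕ} (hu : 4 ≤ u) (hpu : ¬ p ∣ u)
    (hP : Nat.gcd 2 (u - 1) * P = u ^ 4 + 1) (hMP : M = H * P) (hH : 1 ≤ H)
    (hII : TypII a b c → 2 * (M : ℤ) = (q : ℤ) ^ D + c)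
    (ht : DTor u 4 2 (-1) N) : M ≤ 106 * (H ^ 4 * (q + 1) ^ 3) := by
  have hu' : (4 : ℤ) ≤ u := by exact_mod_cast hu
  obtain ⟨g, hg⟩ : ∃ g, g = Nat.gcd 2 (u - 1) := ⟨_, rfl⟩
  have hg' : g = 1 ∨ g = 2 := by rw [hg]; exact (Nat.dvd_prime Nat.prime_two).1 (Nat.gcd_dvd_left _ _)
  rw [← hg] at hP
  have hPZ : (g : ℤ) * P = (u : ℤ) ^ 4 + 1 := by exact_mod_cast hP
  have hMZ : (M : ℤ) = H * P := by exact_mod_cast hMP
  have hH1 : (1 : ℤ) ≤ H := by exact_mod_cast hH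
  have h1 : (u : ℤ) ^ (2 * 1) - 1 ∣ 4 * (N : ℤ) :=
    sq_dvd_of fun s hs => ht.int (b := 1) (by omega) (by norm_num) (by norm_num) hs
  have h2 : (u : ℤ) ^ 2 + 1 ∣ 2 * (N : ℤ) := by
    have h3 := (ht 1 le_rfl (by norm_num) 1 (Or.inl rfl)).1
    rw [AN_neg] at h3
    exact_mod_cast h3
  have h3 : ((u : ℤ) ^ (2 * 1) - 1) * ((u : ℤ) ^ 2 + 1) ∣ 2 * (4 * (N : ℤ)) := by
    refine mul_dvd_of_gcd h1 (h2.trans ⟨2, by ring⟩) fun e h4 h5 => ?_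
    have h6 := dvd_sub h5 h4
    rwa [show (u : ℤ) ^ 2 + 1 - ((u : ℤ) ^ (2 * 1) - 1) = 2 by ring] at h6
  have h3' : (u : ℤ) ^ 4 - 1 ∣ 8 * (N : ℤ) := by
    rw [show (u : ℤ) ^ 4 - 1 = ((u : ℤ) ^ (2 * 1) - 1) * ((u : ℤ) ^ 2 + 1) by ring,
      show (8 : ℤ) * N = 2 * (4 * N) by ring]
    exact h3
  have hpg : ¬ (p : ℤ) ∣ (g : ℤ) := by
    intro h0
    rcases hg' with h4 | h4 <;> rw [h4] at h0
    · exact h.hpZ.not_isUnit (isUnit_of_dvd_one (by exact_mod_cast h0))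
    · exact h.not_two (by exact_mod_cast h0)
  have h4 := h.main (H := H) (g := (g : ℤ)) (κ := 8) (T0 := (u : ℤ) ^ 4 - 1) (t0 := 1)
    (ρ0 := 2) hH (by rw [hMP]; exact Dvd.intro _ rfl) (by norm_num)
    (h.not_pow_two 3) hpg (fun h0 => h.hpZ.not_isUnit (isUnit_of_dvd_one h0)) h3' (by
      rw [hMZ, one_mul, show (u : ℤ) ^ 4 - 1 + 2 = (u : ℤ) ^ 4 + 1 by ring, ← hPZ]
      ring) (fun h5 h6 => ?_)
  · have hq := h.q3
    have hq' : (4 : ℤ) ≤ (q : ℤ) + 1 := by omega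
    obtain ⟨Q, hQ⟩ : ∃ Q, Q = (q : ℤ) + 1 := ⟨_, rfl⟩
    rw [← hQ] at h4 hq'
    obtain ⟨z, hz⟩ : ∃ z, z = Q * (H : ℤ) := ⟨_, rfl⟩
    have hz4 : 4 ≤ z := by rw [hz]; nlinarith
    have hQz : Q ≤ z := by rw [hz]; nlinarith
    have hQ2 : Q ^ 2 ≤ z ^ 2 := by nlinarith
    have hg2 : |(g : ℤ)| ≤ 2 := by
      rw [Nat.abs_cast]
      rcases hg' with h5 | h5 <;> rw [h5] <;> norm_num
    have hg3 : |(g : ℤ)| * Q ^ 2 ≤ 2 * Q ^ 2 := mul_le_mul_of_nonneg_right hg2 (by positivity)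
    rw [abs_two, ← hz] at h4
    have h5 : (u : ℤ) ^ 4 + 1 ≤ 106 * z ^ 3 := by
      have h6 : 4 * z ^ 2 ≤ z ^ 3 := by
        rw [show z ^ 3 = z * z ^ 2 by ring]
        exact mul_le_mul_of_nonneg_right hz4 (by positivity)
      nlinarith
    have h6 : (M : ℤ) ≤ 106 * (H ^ 4 * Q ^ 3) := by
      calc (M : ℤ) ≤ H * ((u : ℤ) ^ 4 + 1) := by
            rw [hMZ]
            refine mul_le_mul_of_nonneg_left ?_ (by omega)
            have hP0 : (0 : ℤ) ≤ P := by positivity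
            rcases hg' with h5 | h5 <;> rw [h5] at hPZ <;> push_cast at hPZ <;> linarith
        _ ≤ H * (106 * z ^ 3) := mul_le_mul_of_nonneg_left h5 (by omega)
        _ = 106 * (H ^ 4 * Q ^ 3) := by rw [hz]; ring
    rw [hQ] at h6
    exact_mod_cast h6
  · have h7 := hII h5
    obtain ⟨-, -, hc⟩ := h5
    have h8 : H = 1 ∧ (g : ℤ) = 2 ∧ c = 1 := by
      rcases hg' with h9 | h9 <;> rcases hc with h10 | h10 <;> rw [h9, h10] at h6 <;> push_cast at h6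
      · omega
      · omega
      · exact ⟨by omega, by rw [h9]; norm_num, h10⟩
      · omega
    obtain ⟨h9, h10, h11⟩ := h8
    rw [h10] at hPZ
    rw [h9, Nat.cast_one, one_mul] at hMZ
    rw [h11] at h7
    have h12 : (u : ℤ) ^ 4 = (q : ℤ) ^ D := by rw [hMZ] at h7; linarith
    have h13 : (p : ℤ) ∣ (u : ℤ) ^ 4 := by
      rw [h12]
      exact (by exact_mod_cast h.hpq : (p : ℤ) ∣ (q : ℤ)).trans (dvd_pow_self _ (by omega))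
    exact hpu (by exact_mod_cast h.hpZ.dvd_of_dvd_pow h13)

end

end Cfsg.Agent.R2.Spec.E
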