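import Cfsg.Agent.R2.Spec.E.NonDTor

/-!
# S3435, packet NON-D (helper19): the isolated number of `PΩ^±_2m(u)` prime to `u ^ 2 - 1`

`dcase_of` : only ten small cases and `(u ^ m + 1) / (2, u - 1)`, `m` even.
-/

set_option autoImplicit false

namespace Cfsg.Agent.R2.Spec.E

open Cfsg Cfsg.Agent.H426.LieFam Cfsg.Agent.R2.Spec Cfsg.Agent.R2.Spec.P1 Cfsg.Agent.R2.Spec.F1
open Cfsg.Agent.R2.Spec.P1.Eig (AN AN_one AN_neg)

/-- the small cases `(u, m % 2, m - μ, s, δ)`: `δ P = u ^ μ - s` -/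
def dcases : List (ℕ × ℕ × ℕ × ℤ × ℕ) :=
  [(2, 1, 0, 1, 1), (3, 1, 0, 1, 2), (5, 1, 0, 1, 4), (2, 0, 1, 1, 1), (3, 0, 1, 1, 2), (3, 1, 0, -1, 4),
    (2, 1, 1, -1, 1), (3, 1, 1, -1, 2), (2, 0, 0, -1, 1), (3, 0, 0, -1, 2)]

/-- the cases for the isolated number -/
inductive DCase (m u P : ℕ) : Prop
  | small (c : ℕ × ℕ × ℕ × ℤ × ℕ) (hc : c ∈ dcases) (hu : u = c.1) (hm : m % 2 = c.2.1)
      (hP : c.2.2.2.2 * P = AN c.2.2.2.1 (m - c.2.2.1) u) : DCase m u P
  | big (hm : m % 2 = 0) (hu : 4 ≤ u) (hP : Nat.gcd 2 (u - 1) * P = u ^ m + 1) : DCase m u P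

theorem dvd_four_cases {x : ℕ} (h : x ∣ 4) : x = 1 ∨ x = 2 ∨ x = 4 := by
  have h1 := Nat.le_of_dvd (by norm_num) h
  interval_cases x
  · omega
  · exact Or.inl rfl
  · exact Or.inr (Or.inl rfl)
  · omega
  · exact Or.inr (Or.inr rfl)

theorem gcd_four_odd {x : ℕ} (h : x % 2 = 1) : Nat.gcd 4 x = 1 := by
  have : Nat.Coprime (2 ^ 2) x := Nat.Coprime.pow_left 2 ((Nat.coprime_two_left).2 (Nat.odd_iff.2 h))
  exact this

theorem gcd_four_two {x : ℕ} (h : x % 4 = 2) : Nat.gcd 4 x = 2 := by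
  rw [Nat.gcd_rec, h]
  rfl

theorem gcd_four_zero {x : ℕ} (h : x % 4 = 0) : Nat.gcd 4 x = 4 :=
  Nat.gcd_eq_left (Nat.dvd_of_mod_eq_zero h)

theorem pow_even_mod {u m : ℕ} (hm : 1 ≤ m) (hu : u % 2 = 0) : u ^ m % 2 = 0 := by
  obtain ⟨k, rfl⟩ : ∃ k, m = k + 1 := ⟨m - 1, by omega⟩
  rw [pow_succ, Nat.mul_mod, hu, mul_zero, Nat.zero_mod]

/-- the two factors `u - 1`, `u + 1` -/
theorem not_sq_dvd_four {u x : ℕ} (hu : 2 ≤ u) (h : (u - 1) * (u + 1) ∣ x) (hx : x ∣ 4) : False := by
  have h1 := Nat.le_of_dvd (by norm_num) (h.trans hx)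
  obtain ⟨r, rfl⟩ : ∃ r, u = r + 2 := ⟨u - 2, by omega⟩
  have h2 : r = 0 := by
    by_contra h3
    have h4 : 1 ≤ r := by omega
    have h5 : (r + 2 - 1) * (r + 2 + 1) = (r + 1) * (r + 3) := by congr 1
    rw [h5] at h1
    nlinarith
  rw [h2] at h
  have h3 := h.trans hx
  norm_num at h3

theorem dcase_oplus_m {m u P : ℕ} (hm : 4 ≤ m) (hm2 : m % 2 = 1) (hu : 2 ≤ u)
    (hP : P * Nat.gcd 4 (u ^ m - 1) = u ^ m - 1) (hcop : Nat.Coprime P ((u - 1) * (u + 1))) : DCase m u P := by
  have h1 : u - 1 ∣ P * Nat.gcd 4 (u ^ m - 1) := by rw [hP]; exact Nat.sub_one_dvd_pow_sub_one u m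
  have h2 : u - 1 ∣ Nat.gcd 4 (u ^ m - 1) :=
    (Nat.Coprime.coprime_mul_right_right hcop).symm.dvd_of_dvd_mul_left h1
  have h3 := dvd_four_cases (h2.trans (Nat.gcd_dvd_left _ _))
  have h4 := Nat.one_le_pow m u (by omega)
  rcases h3 with h3 | h3 | h3
  · obtain rfl : u = 2 := by omega
    refine .small (2, 1, 0, 1, 1) (by decide) rfl hm2 ?_
    have h5 := pow_even_mod (u := 2) (m := m) (by omega) rfl
    rw [gcd_four_odd (by omega)] at hP
    change 1 * P = AN 1 (m - 0) 2
    rw [AN_one, Nat.sub_zero]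
    omega
  · obtain rfl : u = 3 := by omega
    refine .small (3, 1, 0, 1, 2) (by decide) rfl hm2 ?_
    have h5 := pow_odd_mod_four (q := 3) (k := m) rfl hm2
    rw [gcd_four_two (by omega)] at hP
    change 2 * P = AN 1 (m - 0) 3
    rw [AN_one, Nat.sub_zero]
    omega
  · obtain rfl : u = 5 := by omega
    refine .small (5, 1, 0, 1, 4) (by decide) rfl hm2 ?_
    have h5 := pow_odd_mod_four (q := 5) (k := m) rfl hm2
    rw [gcd_four_zero (by omega)] at hP
    change 4 * P = AN 1 (m - 0) 5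
    rw [AN_one, Nat.sub_zero]
    omega

theorem add_one_dvd_pow {u m : ℕ} (hm : m % 2 = 1) : u + 1 ∣ u ^ m + 1 := by
  have h := Odd.nat_add_dvd_pow_add_pow u 1 (Nat.odd_iff.2 hm)
  rwa [one_pow] at h

theorem dcase_of {t' : Fam} {m u i' : ℕ} (ht : t' = .oplus m ∨ t' = .ominus m) (hm : 4 ≤ m) (hu : 2 ≤ u)
    (hi : top t' i') (hcop : Nat.Coprime (ttor t' u i') ((u - 1) * (u + 1))) : DCase m u (ttor t' u i') := by
  have hc1 : Nat.Coprime (ttor t' u i') (u - 1) := Nat.Coprime.coprime_mul_right_right hcop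
  have hc2 : Nat.Coprime (ttor t' u i') (u + 1) := Nat.Coprime.coprime_mul_left_right hcop
  obtain ⟨P, hPdef⟩ : ∃ P, P = ttor t' u i' := ⟨_, rfl⟩
  rw [← hPdef] at hcop hc1 hc2 ⊢
  rcases ht with rfl | rfl
  · rcases hi with ⟨rfl, hm2⟩ | rfl | ⟨rfl, hm2⟩
    · obtain ⟨h1, -⟩ := val_oplus_odd (n := i') (q := u) (by omega) hm2 hu
      rw [← hPdef] at h1
      exact dcase_oplus_m hm hm2 hu h1 hcop
    · exfalso
      rcases Nat.mod_two_eq_zero_or_one m with hm2 | hm2
      · obtain ⟨h1, -⟩ := val_oplus_even (n := m) (q := u) hm hm2 hu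
        rw [← hPdef] at h1
        have h2 : u + 1 ∣ P * Nat.gcd 2 (u - 1) := by rw [h1]; exact add_one_dvd_pow (by omega)
        have h3 := hc2.symm.dvd_of_dvd_mul_left h2
        have h4 := Nat.le_of_dvd (by norm_num) (h3.trans (Nat.gcd_dvd_left _ _))
        omega
      · obtain ⟨-, h1⟩ := val_oplus_odd (n := m) (q := u) (by omega) hm2 hu
        rw [← hPdef] at h1
        have h2 : u + 1 ∣ P * Nat.gcd 4 (u ^ m - 1) := by rw [h1]; exact Dvd.intro_left _ rfl
        have h3 := hc2.symm.dvd_of_dvd_mul_left h2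
        rcases dvd_four_cases (h3.trans (Nat.gcd_dvd_left _ _)) with h4 | h4 | h4
        · omega
        · omega
        · obtain rfl : u = 3 := by omega
          have h5 := pow_odd_mod_four (q := 3) (k := m) rfl hm2
          have h6 := Nat.one_le_pow m 3 (by omega)
          rw [gcd_four_two (by omega)] at h3
          omega
    · obtain ⟨-, h1⟩ := val_oplus_even (n := m) (q := u) hm hm2 hu
      rw [← hPdef] at h1
      have h2 : u - 1 ∣ P * Nat.gcd 2 (u - 1) := by rw [h1]; exact Nat.sub_one_dvd_pow_sub_one u (m - 1)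
      have h3 := hc1.symm.dvd_of_dvd_mul_left h2
      have h4 := Nat.le_of_dvd (by norm_num) (h3.trans (Nat.gcd_dvd_left _ _))
      have h5 : u = 2 ∨ u = 3 := by omega
      rcases h5 with rfl | rfl
      · refine .small (2, 0, 1, 1, 1) (by decide) rfl hm2 ?_
        rw [show Nat.gcd 2 (2 - 1) = 1 by rfl] at h1
        change 1 * P = AN 1 (m - 1) 2
        rw [AN_one]
        omega
      · refine .small (3, 0, 1, 1, 2) (by decide) rfl hm2 ?_
        rw [show Nat.gcd 2 (3 - 1) = 2 by rfl] at h1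
        change 2 * P = AN 1 (m - 1) 3
        rw [AN_one]
        omega
  · obtain ⟨v1, v2, v3⟩ := val_ominus (n := m) (q := u) (by omega) hu
    rcases hi with rfl | rfl | ⟨rfl, hm2⟩
    · rw [← hPdef] at v1
      rcases Nat.mod_two_eq_zero_or_one m with hm2 | hm2
      · have hg : Nat.gcd 4 (u ^ m + 1) = Nat.gcd 2 (u - 1) := by
          rcases Nat.mod_two_eq_zero_or_one u with hu2 | hu2
          · have h5 := pow_even_mod (u := u) (m := m) (by omega) hu2
            rw [gcd_two_even hu hu2, gcd_four_odd (by omega)]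
          · have h5 := pow_mod_four_odd (q := u) (k := m) hu2 hm2
            rw [gcd_two_odd hu2, gcd_four_two (by omega)]
        rw [hg, mul_comm] at v1
        by_cases hu2 : u = 2
        · subst hu2
          refine .small (2, 0, 0, -1, 1) (by decide) rfl hm2 ?_
          rw [show Nat.gcd 2 (2 - 1) = 1 by rfl] at v1
          change 1 * P = AN (-1) (m - 0) 2
          rw [AN_neg, Nat.sub_zero]
          omega
        by_cases hu3 : u = 3
        · subst hu3
          refine .small (3, 0, 0, -1, 2) (by decide) rfl hm2 ?_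
          rw [show Nat.gcd 2 (3 - 1) = 2 by rfl] at v1
          change 2 * P = AN (-1) (m - 0) 3
          rw [AN_neg, Nat.sub_zero]
          omega
        exact .big hm2 (by omega) v1
      · have h2 : u + 1 ∣ P * Nat.gcd 4 (u ^ m + 1) := by rw [v1]; exact add_one_dvd_pow hm2
        have h3 := hc2.symm.dvd_of_dvd_mul_left h2
        rcases dvd_four_cases (h3.trans (Nat.gcd_dvd_left _ _)) with h4 | h4 | h4
        · omega
        · omega
        · obtain rfl : u = 3 := by omega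
          have h5 := pow_odd_mod_four (q := 3) (k := m) rfl hm2
          rw [gcd_four_zero (by omega)] at v1
          refine .small (3, 1, 0, -1, 4) (by decide) rfl hm2 ?_
          change 4 * P = AN (-1) (m - 0) 3
          rw [AN_neg, Nat.sub_zero]
          omega
    · rw [← hPdef] at v2
      rcases Nat.mod_two_eq_zero_or_one m with hm2 | hm2
      · exfalso
        have h2 : (u - 1) * (u + 1) ∣ P * Nat.gcd 4 (u ^ m + 1) := by
          rw [v2, mul_comm (u - 1)]
          exact Nat.mul_dvd_mul (add_one_dvd_pow (by omega)) dvd_rfl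
        exact not_sq_dvd_four hu (hcop.symm.dvd_of_dvd_mul_left h2) (Nat.gcd_dvd_left _ _)
      · have h2 : u - 1 ∣ P * Nat.gcd 4 (u ^ m + 1) := by rw [v2]; exact Dvd.intro_left _ rfl
        have h3 := hc1.symm.dvd_of_dvd_mul_left h2
        rcases dvd_four_cases (h3.trans (Nat.gcd_dvd_left _ _)) with h4 | h4 | h4
        · obtain rfl : u = 2 := by omega
          have h5 := pow_even_mod (u := 2) (m := m) (by omega) rfl
          rw [gcd_four_odd (by omega)] at v2
          refine .small (2, 1, 1, -1, 1) (by decide) rfl hm2 ?_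
          change 1 * P = AN (-1) (m - 1) 2
          rw [AN_neg]
          omega
        · obtain rfl : u = 3 := by omega
          have h5 := pow_odd_mod_four (q := 3) (k := m) rfl hm2
          rw [gcd_four_zero (by omega)] at v2
          refine .small (3, 1, 1, -1, 2) (by decide) rfl hm2 ?_
          change 2 * P = AN (-1) (m - 1) 3
          rw [AN_neg]
          omega
        · exfalso
          obtain rfl : u = 5 := by omega
          have h5 := pow_odd_mod_four (q := 5) (k := m) rfl hm2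
          rw [gcd_four_two (by omega)] at h3
          omega
    · exfalso
      rw [← hPdef] at v3
      have h2 : (u - 1) * (u + 1) ∣ P * Nat.gcd 4 (u ^ m + 1) := by
        rw [v3]
        exact Nat.mul_dvd_mul (Nat.sub_one_dvd_pow_sub_one u (m - 1)) dvd_rfl
      exact not_sq_dvd_four hu (hcop.symm.dvd_of_dvd_mul_left h2) (Nat.gcd_dvd_left _ _)

end Cfsg.Agent.R2.Spec.E
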