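import Cfsg.Agent.R2.Spec.E.NonCIneq

/-!
# S3435, packet NON-D (helper19): the numeric core

* `NDat` : the relation of the two numbers of `L`;
* `NDat.main` : `T0 ∣ κ N`, `g M = H (t0 T0 + ρ0)` : `T0 ≤ κ (Q H |ρ0| + |g| Q ^ 2)`;
* `nd_hi` : the size if `k ≥ 2 e`; `NDat.size`, `NDat.small_of` : the size bound from a bound for `M`;
* `lowN_D` : `u ^ (4 B - 4) ≤ 4 N`.
-/

set_option autoImplicit false

namespace Cfsg.Agent.R2.Spec.E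

open Cfsg Cfsg.Agent.H426.LieFam Cfsg.Agent.R2.Spec Cfsg.Agent.R2.Spec.P1 Cfsg.Agent.R2.Spec.F1

/-- the numbers of `L` -/
structure NDat (p D d q M N : ℕ) (a b c : ℤ) : Prop where
  hp : p.Prime
  hp2 : p ≠ 2
  hpq : p ∣ q
  q3 : 3 ≤ q
  hL : LNum q D d M N a b c
  M0 : 1 ≤ M
  N0 : 1 ≤ N

theorem ndat_of {p f D d q M N : ℕ} {a b c : ℤ} (hp : p.Prime) (hp2 : p ≠ 2) (hq : q = p ^ f) (hf : 1 ≤ f)
    (hL : LNum q D d M N a b c) : NDat p D d q M N a b c := by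
  obtain ⟨hq3, hq2⟩ := f_q hp hp2 hf
  rw [← hq] at hq3 hq2
  refine ⟨hp, hp2, by rw [hq]; exact dvd_pow_self p (by omega), hq3, hL, ?_, ?_⟩
  · rcases Nat.eq_zero_or_pos M with h | h
    · have h1 := hL.copM
      rw [h, Nat.coprime_zero_right] at h1
      omega
    · exact h
  · rcases Nat.eq_zero_or_pos N with h | h
    · have h1 := hL.copN
      rw [h, Nat.coprime_zero_right] at h1
      omega
    · exact h

section

variable {p D d q M N : ℕ} {a b c : ℤ}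

theorem NDat.hpM (h : NDat p D d q M N a b c) : ¬ (p : ℤ) ∣ (M : ℤ) := by
  intro h0
  have h1 : p ∣ M := by exact_mod_cast h0
  have h2 : p ∣ Nat.gcd q M := Nat.dvd_gcd h.hpq h1
  rw [h.hL.copM] at h2
  exact h.hp.one_lt.ne' (Nat.dvd_one.1 h2)

theorem NDat.hpN (h : NDat p D d q M N a b c) : ¬ (p : ℤ) ∣ (N : ℤ) := by
  intro h0
  have h1 : p ∣ N := by exact_mod_cast h0
  have h2 : p ∣ Nat.gcd q N := Nat.dvd_gcd h.hpq h1
  rw [h.hL.copN] at h2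
  exact h.hp.one_lt.ne' (Nat.dvd_one.1 h2)

theorem NDat.hpZ (h : NDat p D d q M N a b c) : Prime (p : ℤ) := Nat.prime_iff_prime_int.1 h.hp

theorem NDat.not_two (h : NDat p D d q M N a b c) : ¬ (p : ℤ) ∣ 2 := by
  intro h0
  have h1 : p ∣ 2 := by exact_mod_cast h0
  exact h.hp2 ((Nat.prime_dvd_prime_iff_eq h.hp Nat.prime_two).1 h1)

theorem NDat.not_pow_two (h : NDat p D d q M N a b c) (n : ℕ) : ¬ (p : ℤ) ∣ 2 ^ n :=
  fun h0 => h.not_two (h.hpZ.dvd_of_dvd_pow h0)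

/-- **The main inequality.** -/
theorem NDat.main (h : NDat p D d q M N a b c) {H : ℕ} (hH : 1 ≤ H) (hHM : H ∣ M) {g T0 t0 ρ0 κ : ℤ}
    (hκ : 0 < κ) (hpκ : ¬ (p : ℤ) ∣ κ) (hpg : ¬ (p : ℤ) ∣ g) (hpt : ¬ (p : ℤ) ∣ t0) (hT : T0 ∣ κ * N)
    (hgM : g * M = H * (t0 * T0 + ρ0)) (hII : TypII a b c → (H : ℤ) * ρ0 ≠ g * c) :
    T0 ≤ κ * (((q : ℤ) + 1) * H * |ρ0| + |g| * ((q : ℤ) + 1) ^ 2) := by
  obtain ⟨ha1, haQ, hb1, hab, hcQ, hcb⟩ := h.hL.sizes h.q3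
  have hrel := h.hL.rel
  have hid : a * H * (t0 * T0) + (a * H * ρ0 - g * c) = g * b * N := by
    linear_combination g * hrel - a * hgM
  have hpq : (p : ℤ) ∣ (q : ℤ) := by exact_mod_cast h.hpq
  have hH1 : (1 : ℤ) ≤ H := by exact_mod_cast hH
  have hz : a * H * ρ0 - g * c ≠ 0 := by
    intro h0
    rcases h.hL.typ with hI | hII'
    · refine zeroI (a := a) (b := b) (c := c) (H := (H : ℤ)) (T0 := T0) (t0 := t0) (ρ0 := ρ0) h.hpZ hpq hpκ hpg hI h.hpM (by exact_mod_cast hHM) h.hpN hpt hT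
        (by linear_combination h0) ?_
      linear_combination hid - h0
    · have h1 := hII hII'
      obtain ⟨ha, -, -⟩ := hII'
      rw [ha, one_mul] at h0
      exact h1 (by linear_combination h0)
  have hd : T0 ∣ κ * (a * H * ρ0 - g * c) := by
    have h1 : κ * (a * H * ρ0 - g * c) = g * b * (κ * N) - κ * a * H * t0 * T0 := by linear_combination κ * hid
    rw [h1]
    exact dvd_sub (hT.mul_left _) (Dvd.intro_left _ rfl)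
  have h2 := Int.le_of_dvd (abs_pos.2 (mul_ne_zero hκ.ne' hz)) ((dvd_abs _ _).2 hd)
  rw [abs_mul, abs_of_pos hκ] at h2
  refine h2.trans (mul_le_mul_of_nonneg_left ?_ hκ.le)
  have h3 : |a * H * ρ0| ≤ ((q : ℤ) + 1) * H * |ρ0| := by
    rw [abs_mul, abs_of_pos (by positivity : (0 : ℤ) < a * H)]
    exact mul_le_mul_of_nonneg_right (mul_le_mul_of_nonneg_right haQ (by omega)) (abs_nonneg _)
  have h4 : |g * c| ≤ |g| * ((q : ℤ) + 1) ^ 2 := by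
    rw [abs_mul]
    exact mul_le_mul_of_nonneg_left hcQ (abs_nonneg _)
  calc _ ≤ |a * H * ρ0| + |g * c| := abs_sub _ _
    _ ≤ _ := add_le_add h3 h4

/-- the size bound -/
theorem NDat.size (h : NDat p D d q M N a b c) {F : ℕ} (hM : M ≤ 106 * (F ^ 4 * (q + 1) ^ 3)) :
    q ^ D ≤ 848 * d * (F ^ 4 * (q + 1) ^ 3) := by
  calc q ^ D ≤ 8 * d * M := h.hL.lowM
    _ ≤ 8 * d * (106 * (F ^ 4 * (q + 1) ^ 3)) := Nat.mul_le_mul_left _ hM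
    _ = _ := by ring

/-- `M` small -/
theorem NDat.M_of_small (h : NDat p D d q M N a b c) {F : ℕ} (hF : 1 ≤ F) (hM : M ≤ 3281) :
    M ≤ 106 * (F ^ 4 * (q + 1) ^ 3) := by
  have h1 : 4 ^ 3 ≤ (q + 1) ^ 3 := Nat.pow_le_pow_left (by have := h.q3; omega) 3
  have h2 : 1 ≤ F ^ 4 := Nat.one_le_pow _ _ hF
  calc M ≤ 106 * (1 * 4 ^ 3) := by omega
    _ ≤ _ := Nat.mul_le_mul_left _ (Nat.mul_le_mul h2 h1)

/-- `N` large -/
theorem NDat.M_of_N (h : NDat p D d q M N a b c) {F : ℕ} (hF : 1 ≤ F) (hM : 2 * M ≤ N) :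
    M ≤ 106 * (F ^ 4 * (q + 1) ^ 3) := by
  obtain ⟨ha1, haQ, hb1, hab, hcQ, hcb⟩ := h.hL.sizes h.q3
  have hrel := h.hL.rel
  have hM' : 2 * (M : ℤ) ≤ N := by exact_mod_cast hM
  have h1 : b * (M : ℤ) ≤ b * (4 * ((q : ℤ) + 1)) := by
    have h2 : 2 * a * (M : ℤ) ≤ 3 * b * M := mul_le_mul_of_nonneg_right hab (by positivity)
    have h3 : b * (2 * (M : ℤ)) ≤ b * N := mul_le_mul_of_nonneg_left hM' (by omega)
    have h4 := neg_abs_le c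
    nlinarith
  have h2 : (M : ℤ) ≤ 4 * ((q : ℤ) + 1) := le_of_mul_le_mul_left h1 (by omega)
  have h3 : M ≤ 4 * (q + 1) := by exact_mod_cast h2
  have h4 : q + 1 ≤ (q + 1) ^ 3 := Nat.le_self_pow (by norm_num) _
  have h5 : 1 ≤ F ^ 4 := Nat.one_le_pow _ _ hF
  calc M ≤ 106 * (1 * (q + 1) ^ 3) := by omega
    _ ≤ _ := Nat.mul_le_mul_left _ (Nat.mul_le_mul_right _ h5)

/-- `M` small -/
theorem NDat.size_of_small (h : NDat p D d q M N a b c) {F : ℕ} (hF : 1 ≤ F) (hM : M ≤ 3281) :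
    q ^ D ≤ 848 * d * (F ^ 4 * (q + 1) ^ 3) := h.size (h.M_of_small hF hM)

/-- `N` large -/
theorem NDat.size_of_N (h : NDat p D d q M N a b c) {F : ℕ} (hF : 1 ≤ F) (hM : 2 * M ≤ N) :
    q ^ D ≤ 848 * d * (F ^ 4 * (q + 1) ^ 3) := h.size (h.M_of_N hF hM)

end

/-- the size if `k ≥ 2 e` -/
theorem nd_hi {x y R Q : ℤ} (hx : 1 ≤ x) (hxy : x ^ 2 ≤ y) (hR : 4 ≤ R) (hQ : 0 ≤ Q) (hQR : Q ≤ R)
    (h : y ≤ 1 + 2 * (R * (x + 1) + 4 * Q ^ 2)) : x * y ≤ 85 * R ^ 3 := by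
  have hQ2 : Q ^ 2 ≤ R ^ 2 := by nlinarith
  have h1 : 0 ≤ (5 * R - x) ^ 2 := sq_nonneg _
  have h2 : y ≤ 17 * R ^ 2 := by nlinarith
  have h3 : x ≤ 5 * R := by
    by_contra hlt
    push Not at hlt
    nlinarith
  calc x * y ≤ (5 * R) * (17 * R ^ 2) := mul_le_mul h3 h2 (by nlinarith) (by omega)
    _ = 85 * R ^ 3 := by ring

/-- two blocks of the same rank -/
theorem sq_dvd_of {u : ℤ} {n : ℤ} {b : ℕ} (h : ∀ s : ℤ, s = 1 ∨ s = -1 → u ^ b - s ∣ 2 * n) :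
    u ^ (2 * b) - 1 ∣ 4 * n := by
  have h1 : (u ^ b - 1) * (u ^ b - -1) ∣ 2 * (2 * n) := by
    refine mul_dvd_of_gcd (h 1 (Or.inl rfl)) (h (-1) (Or.inr rfl)) fun e h2 h3 => ?_
    have h4 := dvd_sub h3 h2
    rwa [show u ^ b - -1 - (u ^ b - 1) = 2 by ring] at h4
  have h2 : (u ^ b - 1) * (u ^ b - -1) = u ^ (2 * b) - 1 := by
    rw [mul_comm 2 b, pow_mul]
    ring
  rw [h2] at h1
  rwa [show (4 : ℤ) * n = 2 * (2 * n) by ring]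

/-- **The lower bound for the second number.** -/
theorem lowN_D {u B N : ℕ} (hu : 2 ≤ u) (hB : 3 ≤ B) (hN : 1 ≤ N)
    (h : ∀ b : ℕ, 1 ≤ b → b ≤ B → ∀ s : ℤ, s = 1 ∨ s = -1 → (u : ℤ) ^ b - s ∣ 2 * N) : u ^ (4 * B - 4) ≤ 4 * N := by
  obtain ⟨r, rfl⟩ : ∃ r, B = r + 3 := ⟨B - 3, by omega⟩
  have h1 := sq_dvd_of (h (r + 3) (by omega) le_rfl)
  have h2 := sq_dvd_of (h (r + 2) (by omega) (by omega))
  obtain ⟨z, hz⟩ : ∃ z, z = (u : ℤ) ^ (2 * r + 2) := ⟨_, rfl⟩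
  have e1 : (u : ℤ) ^ (2 * (r + 3)) - 1 = (u : ℤ) ^ 4 * z - 1 := by rw [hz]; ring
  have e2 : (u : ℤ) ^ (2 * (r + 2)) - 1 = (u : ℤ) ^ 2 * z - 1 := by rw [hz]; ring
  rw [e1] at h1
  rw [e2] at h2
  have h3 : ((u : ℤ) ^ 4 * z - 1) * ((u : ℤ) ^ 2 * z - 1) ∣ ((u : ℤ) ^ 2 - 1) * (4 * N) := by
    refine mul_dvd_of_gcd h1 h2 fun e h4 h5 => ?_
    have h6 := dvd_sub h4 (h5.mul_left ((u : ℤ) ^ 2))
    rwa [show (u : ℤ) ^ 4 * z - 1 - (u : ℤ) ^ 2 * ((u : ℤ) ^ 2 * z - 1) = (u : ℤ) ^ 2 - 1 by ring] at h6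
  have hu' : (2 : ℤ) ≤ u := by exact_mod_cast hu
  have hu2 : (4 : ℤ) ≤ (u : ℤ) ^ 2 := by nlinarith
  have hzu : (u : ℤ) ^ 2 ≤ z := by
    rw [hz]
    exact pow_le_pow_right₀ (by omega) (by omega)
  have hN' : (1 : ℤ) ≤ N := by exact_mod_cast hN
  have h4 := Int.le_of_dvd (mul_pos (by omega) (by omega)) h3
  have h5 : ((u : ℤ) ^ 2 - 1) * ((u : ℤ) ^ 4 * z ^ 2) ≤ ((u : ℤ) ^ 4 * z - 1) * ((u : ℤ) ^ 2 * z - 1) := by
    obtain ⟨w, hw⟩ : ∃ w, w = (u : ℤ) ^ 2 := ⟨_, rfl⟩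
    rw [show (u : ℤ) ^ 4 = ((u : ℤ) ^ 2) ^ 2 by ring, ← hw]
    rw [← hw] at hu2 hzu
    have h6 : 0 ≤ w * z * (w * (z - 1) - 1) := by
      refine mul_nonneg (mul_nonneg (by omega) (by omega)) ?_
      nlinarith
    nlinarith
  have h6 : (u : ℤ) ^ 4 * z ^ 2 ≤ 4 * N := le_of_mul_le_mul_left (h5.trans h4) (by omega)
  have h7 : (u : ℤ) ^ 4 * z ^ 2 = ((u ^ (4 * (r + 3) - 4) : ℕ) : ℤ) := by
    rw [hz, show 4 * (r + 3) - 4 = 4 + (2 * r + 2) * 2 by omega, pow_add, pow_mul]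
    push_cast
    ring
  rw [h7] at h6
  exact_mod_cast h6

end Cfsg.Agent.R2.Spec.E
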