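import Cfsg.Agent.R2.Spec.E.NonDCase
import Cfsg.Agent.R2.Spec.E.NonDNum

/-!
# S3435, packet NON-D (helper19): the small cases

`smallD` : in the ten small cases, `k < 2 e`, `N < 2 P` : `P ≤ 3281` (kernel check for `m < 30`).
-/

set_option autoImplicit false

namespace Cfsg.Agent.R2.Spec.E

open Cfsg Cfsg.Agent.H426.LieFam Cfsg.Agent.R2.Spec Cfsg.Agent.R2.Spec.P1 Cfsg.Agent.R2.Spec.F1
open Cfsg.Agent.R2.Spec.P1.Eig (AN AN_one AN_neg)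

/-- the blocks of rank `b` -/
def fBD (u b : ℕ) : ℕ := if b = 0 then 1 else Nat.lcm (AN 1 b u) (AN (-1) b u)

/-- a divisor of `2 N` -/
def LDD (u k B : ℕ) (ε : ℤ) : ℕ :=
  Nat.lcm (AN ε k u) (Nat.lcm (fBD u B) (Nat.lcm (fBD u (B - 1)) (fBD u (B - 2))))

set_option maxRecDepth 100000 in
/-- the kernel check -/
theorem finD : ∀ c ∈ dcases, ∀ m ∈ List.range 30, 4 ≤ m → m % 2 = c.2.1 → ∀ k ∈ List.range 30, 2 ≤ k → k + 1 < m →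
    k < 2 * (m - c.2.2.1 - k) → ∀ ε ∈ [(1 : ℤ), -1], (ε = 1 → k % 2 = 1) →
    4 * AN c.2.2.2.1 (m - c.2.2.1) c.1 < c.2.2.2.2 * LDD c.1 k (m - 1 - k) ε ∨
      AN c.2.2.2.1 (m - c.2.2.1) c.1 ≤ c.2.2.2.2 * 3281 := by
  decide +kernel

theorem dcases_facts : ∀ c ∈ dcases, 2 ≤ c.1 ∧ c.1 ≤ 5 ∧ c.1 ≠ 4 ∧ c.2.2.1 ≤ 1 ∧ (c.2.2.2.1 = 1 ∨ c.2.2.2.1 = -1) ∧
    (c.2.2.2.2 = 1 ∨ c.2.2.2.2 = 2 ∨ c.2.2.2.2 = 4) ∧ (4 ≤ c.1 → c.2.2.1 = 0) := by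
  decide

theorem AN_le {s : ℤ} {k u : ℕ} (hs : s = 1 ∨ s = -1) : AN s k u ≤ u ^ k + 1 := by
  rcases hs with rfl | rfl
  · rw [AN_one]; omega
  · rw [AN_neg]

theorem fBD_dvd {u b m k N : ℕ} {ε : ℤ} (h : DTor u m k ε N) (hkm : k + b < m) : fBD u b ∣ 2 * N := by
  unfold fBD
  split_ifs with hb
  · exact one_dvd _
  · exact Nat.lcm_dvd (h b (by omega) hkm 1 (Or.inl rfl)).2 (h b (by omega) hkm (-1) (Or.inr rfl)).2

theorem LDD_dvd {u m k N : ℕ} {ε : ℤ} (h : DTor u m k ε N) (hkm : k + 1 < m) : LDD u k (m - 1 - k) ε ∣ 2 * N :=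
  Nat.lcm_dvd (h 1 le_rfl hkm 1 (Or.inl rfl)).1 (Nat.lcm_dvd (fBD_dvd h (by omega))
    (Nat.lcm_dvd (fBD_dvd h (by omega)) (fBD_dvd h (by omega))))

/-- the divisibilities in `ℤ` -/
theorem DTor.int {u m k N : ℕ} {ε : ℤ} (h : DTor u m k ε N) (hu : 1 ≤ u) {b : ℕ} (hb : 1 ≤ b) (hkm : k + b < m) {s : ℤ}
    (hs : s = 1 ∨ s = -1) : (u : ℤ) ^ b - s ∣ 2 * N := by
  have h1 := (h b hb hkm s hs).2
  rw [← cast_AN hs hu]
  exact_mod_cast h1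

/-- **The small cases.** -/
theorem smallD {c : ℕ × ℕ × ℕ × ℤ × ℕ} (hc : c ∈ dcases) {u m k P N : ℕ} {ε : ℤ} (hu : u = c.1) (hm : 4 ≤ m)
    (hm2 : m % 2 = c.2.1) (hP : c.2.2.2.2 * P = AN c.2.2.2.1 (m - c.2.2.1) u) (hk : 2 ≤ k) (hkm : k + 1 < m)
    (hke : k < 2 * (m - c.2.2.1 - k)) (hε : (ε = 1 ∧ k % 2 = 1) ∨ ε = -1) (h : DTor u m k ε N) (hN : 1 ≤ N)
    (hNP : N < 2 * P) : P ≤ 3281 := by
  obtain ⟨h1, h2, -, h3, h4, h5, -⟩ := dcases_facts c hc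
  rw [← hu] at h1 h2
  have hP0 : 1 ≤ P := by omega
  rcases Nat.lt_or_ge m 30 with hm30 | hm30
  · have h6 := finD c hc m (List.mem_range.2 hm30) hm hm2 k (List.mem_range.2 (by omega)) hk hkm hke ε
      (by rcases hε with ⟨rfl, -⟩ | rfl <;> simp) (by
        rcases hε with ⟨-, h⟩ | h
        · exact fun _ => h
        · intro h7; rw [h7] at h; norm_num at h)
    rw [← hu, ← hP] at h6
    have h7 := Nat.le_of_dvd (by omega) (LDD_dvd h hkm)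
    rcases h5 with h8 | h8 | h8 <;> rw [h8] at h6 <;> omega
  · exfalso
    have h6 := lowN_D (u := u) (B := m - 1 - k) (N := N) h1 (by omega) hN
      (fun b hb hbB s hs => h.int (by omega) hb (by omega) hs)
    have h7 : P ≤ u ^ m + 1 := by
      have h8 : P ≤ c.2.2.2.2 * P := by rcases h5 with h8 | h8 | h8 <;> rw [h8] <;> omega
      have h9 := AN_le (s := c.2.2.2.1) (k := m - c.2.2.1) (u := u) h4
      have h10 : u ^ (m - c.2.2.1) ≤ u ^ m := Nat.pow_le_pow_right (by omega) (by omega)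
      omega
    have h8 : u ^ (m + 4) ≤ u ^ (4 * (m - 1 - k) - 4) := Nat.pow_le_pow_right (by omega) (by omega)
    have h9 : u ^ m * 2 ^ 4 ≤ u ^ (m + 4) := by
      rw [pow_add]
      exact Nat.mul_le_mul_left _ (Nat.pow_le_pow_left h1 4)
    have h10 : 2 ≤ u ^ m := h1.trans (Nat.le_self_pow (by omega) u)
    omega

end Cfsg.Agent.R2.Spec.E
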