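import Cfsg.Agent.R2.Spec.E.NonC

/-!
# S3435, packet NON-D (helper19): the tori of `PΩ^±_2m(u)` containing `w`

* `Duel.torD` : the tori `(u ^ k - ε) × (u ^ b - ε')`, `k + b < m`;
* `Duel.twoD`, `Duel.H_dvd_fD`, `Duel.copPD` : the second number is even, `H ∣ f'`, `P` is prime to `u ^ 2 - 1`.
-/

set_option autoImplicit false
set_option linter.unusedSectionVars false

namespace Cfsg.Agent.R2.Spec.E

open Cfsg Cfsg.Agent.H426.LieFam Cfsg.Agent.R2.Spec Cfsg.Agent.R2.Spec.P1 Cfsg.Agent.R2.Spec.F1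
open Cfsg.Agent.R2.Spec.P1.Eig (AN AN_one AN_neg)
open Cfsg.Agent.R2.Spec.X5 (torB)

theorem dvd_AN_of_clsD {t : Fam} {m u w j : ℕ} (ht : t = .oplus m ∨ t = .ominus m) (hw : w.Prime)
    (hc : cls t u w = j) (hj : 1 ≤ j) (hu : 1 ≤ u) : w ∣ AN (sgn' j) (eta j) u := by
  refine dvd_AN_of_cls (t := .psp m) (m := m) (Or.inl rfl) hw ?_ hj hu
  rcases ht with rfl | rfl
  · exact hc
  · exact hc

/-- the divisibilities coming from the tori -/
def DTor (u m k : ℕ) (ε : ℤ) (N : ℕ) : Prop :=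
  ∀ b : ℕ, 1 ≤ b → k + b < m → ∀ s : ℤ, s = 1 ∨ s = -1 → AN ε k u ∣ 2 * N ∧ AN s b u ∣ 2 * N

section

variable {t : Fam} {p f i j : ℕ} {t' : Fam} {v f' i' j' w H : ℕ} {S : Type} [Group S] [Finite S]

/-- the orders of the tori containing `w` -/
theorem Duel.torD (h : Duel t p f i j t' v f' i' j' w H S) {m : ℕ} (ht : t' = .oplus m ∨ t' = .ominus m)
    {b : ℕ} (hb : 1 ≤ b) (hkm : eta j' + b < m) {s : ℤ} (hs : s = 1 ∨ s = -1) :
    ∃ o c, c ∣ 2 ∧ o * c = Nat.lcm (AN (sgn' j') (eta j') (v ^ f')) (AN s b (v ^ f')) ∧ o ∣ ttor t (p ^ f) j := by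
  have hj3 := h.j'3
  have hk := one_le_eta (k := j') (by omega)
  have hu := h.u_two
  have hB : Cfsg.Agent.R2.Spec.X5.IsB t' m := by
    rcases ht with rfl | rfl
    · exact rfl
    · exact rfl
  obtain ⟨x, c, hc, hx⟩ := torB h.v_prime h.is hB hk hb hkm (sgn'_pm j') hs
  have h1 : w ∣ orderOf x * c := by
    rw [hx]
    exact (dvd_AN_of_clsD ht h.w_prime h.clsw' (by omega) (by omega)).trans (Nat.dvd_lcm_left _ _)
  have h2 : w ∣ orderOf x := by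
    rcases h.w_prime.dvd_mul.1 h1 with h3 | h3
    · exact h3
    · exfalso
      have h4 := Nat.le_of_dvd (by norm_num) (h3.trans hc)
      have := h.w5
      omega
  exact ⟨orderOf x, c, hc, hx, h.ordw x h2⟩

theorem Duel.dtor (h : Duel t p f i j t' v f' i' j' w H S) {m : ℕ} (ht : t' = .oplus m ∨ t' = .ominus m) :
    DTor (v ^ f') m (eta j') (sgn' j') (ttor t (p ^ f) j) := by
  intro b hb hkm s hs
  obtain ⟨o, c, hc, ho, hN⟩ := h.torD ht hb hkm hs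
  have h1 : Nat.lcm (AN (sgn' j') (eta j') (v ^ f')) (AN s b (v ^ f')) ∣ 2 * ttor t (p ^ f) j := by
    rw [← ho, mul_comm 2]
    exact Nat.mul_dvd_mul hN hc
  exact ⟨(Nat.dvd_lcm_left _ _).trans h1, (Nat.dvd_lcm_right _ _).trans h1⟩

/-- the second number is even if `u` is odd -/
theorem Duel.twoD (h : Duel t p f i j t' v f' i' j' w H S) {m : ℕ} (ht : t' = .oplus m ∨ t' = .ominus m)
    (hkm : eta j' + 1 < m) (hu : (v ^ f') % 2 = 1) : 2 ∣ ttor t (p ^ f) j := by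
  obtain ⟨s, hs, h4⟩ : ∃ s : ℤ, (s = 1 ∨ s = -1) ∧ 4 ∣ AN s 1 (v ^ f') := by
    have h1 : (v ^ f') % 4 = 1 ∨ (v ^ f') % 4 = 3 := by omega
    rcases h1 with h1 | h1
    · exact ⟨1, Or.inl rfl, by rw [AN_one, pow_one]; omega⟩
    · exact ⟨-1, Or.inr rfl, by rw [AN_neg, pow_one]; omega⟩
  obtain ⟨o, c, hc, ho, h1⟩ := h.torD ht le_rfl hkm hs
  have h2 : 4 ∣ o * c := by
    rw [ho]
    exact h4.trans (Nat.dvd_lcm_right _ _)
  have h3 : 2 * 2 ∣ o * 2 := h2.trans (Nat.mul_dvd_mul_left o hc)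
  exact (Nat.dvd_of_mul_dvd_mul_right (by norm_num) h3).trans h1

/-- the cofactor divides `f'` -/
theorem Duel.H_dvd_fD (h : Duel t p f i j t' v f' i' j' w H S) {m : ℕ} (ht : t' = .oplus m ∨ t' = .ominus m)
    (hj : ¬ top t' j') (hkm : eta j' + 1 < m) : H ∣ f' := by
  have h1 := (h.H_dvd hj).1
  have h2 : ¬ 2 ∣ H := by
    by_cases hv : v = 2
    · have h3 := h.not_dvd_H hj h.v_prime (Or.inl rfl) (Or.inl rfl)
      rwa [hv] at h3
    · intro h3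
      have h4 : (v ^ f') % 2 = 1 := pow_odd (Nat.odd_iff.1 (h.v_prime.odd_of_ne_two hv)) f'
      have h5 := Nat.dvd_gcd (h3.trans h.H_dvd_M) (h.twoD ht hkm h4)
      rw [h.copMN] at h5
      omega
  have h3 : Nat.Coprime H (2 ^ 3) := Nat.Coprime.pow_right 3 ((Nat.coprime_two_right).2 (by
    rw [← Nat.not_even_iff_odd, even_iff_two_dvd]
    exact h2))
  exact h3.dvd_of_dvd_mul_left h1

/-- the isolated number is prime to `u ^ 2 - 1` -/
theorem Duel.copPD (h : Duel t p f i j t' v f' i' j' w H S) {m : ℕ} (ht : t' = .oplus m ∨ t' = .ominus m)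
    (hj : ¬ top t' j') (hkm : eta j' + 1 < m) :
    Nat.Coprime (ttor t' (v ^ f') i') ((v ^ f' - 1) * (v ^ f' + 1)) := by
  have hu := h.u_two
  refine Nat.Coprime.symm (Nat.coprime_of_dvd fun z hz hzu hzP => ?_)
  have hzM : z ∣ ttor t (p ^ f) i := by
    rw [h.eqM]
    exact hzP.mul_left H
  have hzN : z ∣ ttor t (p ^ f) j := by
    have h1 : cls t' (v ^ f') z ≤ 2 := cls_le_two_of (hz.dvd_mul.1 hzu) (by omega)
    by_cases hz2 : z = 2
    · rw [hz2] at hzu ⊢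
      refine h.twoD ht hkm ?_
      rcases hz.dvd_mul.1 (by rw [hz2]; exact hzu) with h2 | h2
      · rw [hz2] at h2; omega
      · rw [hz2] at h2; omega
    · exact h.dvd_N hj hz (Or.inr h1) (Or.inr (Or.inl hz2))
  have h5 := Nat.dvd_gcd hzM hzN
  rw [h.copMN] at h5
  exact hz.one_lt.ne' (Nat.dvd_one.1 h5)

/-- the class `j'` -/
theorem Duel.etaD (h : Duel t p f i j t' v f' i' j' w H S) {m : ℕ} (ht : t' = .oplus m ∨ t' = .ominus m)
    (hm : 4 ≤ m) (hj : ¬ top t' j') : 2 ≤ eta j' ∧ eta j' + 1 < m ∧ (sgn' j' = 1 ∧ eta j' % 2 = 1 ∨ sgn' j' = -1) := by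
  have hj3 := h.j'3
  have hmem := h.memj'
  have h1 : eta j' + 1 ≤ m ∧ j' ≠ 2 * (m - 1) ∧ ¬ (j' = m - 1 ∧ m % 2 = 0) := by
    rcases ht with rfl | rfl
    · have hmem' : eta j' + 1 ≤ m ∨ (j' = m ∧ m % 2 = 1) := hmem
      have hj' : ¬ ((j' = m ∧ m % 2 = 1) ∨ j' = 2 * (m - 1) ∨ (j' = m - 1 ∧ m % 2 = 0)) := hj
      refine ⟨?_, ?_, ?_⟩
      · tauto
      · tauto
      · tauto
    · have hmem' : eta j' + 1 ≤ m ∨ j' = 2 * m := hmem
      have hj' : ¬ (j' = 2 * m ∨ j' = 2 * (m - 1) ∨ (j' = m - 1 ∧ m % 2 = 0)) := hj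
      refine ⟨?_, ?_, ?_⟩
      · tauto
      · tauto
      · tauto
  obtain ⟨h2, h3, h4⟩ := h1
  rcases eta_cases j' with ⟨h5, h6⟩ | ⟨h5, h6⟩
  · rw [Nat.odd_iff] at h5
    refine ⟨by omega, by omega, Or.inl ⟨by rw [sgn', if_pos h5], by omega⟩⟩
  · rw [Nat.even_iff] at h5
    exact ⟨by omega, by omega, Or.inr (by rw [sgn', if_neg (by omega)])⟩

end

end Cfsg.Agent.R2.Spec.E
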