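import Cfsg.Agent.R2.Spec.P1.TopLin
import Cfsg.Agent.R2.Spec.E.Duel

/-!
# The engine (helper29): the linear relations between the isolated numbers

`LinRel q s A B c` : `(q + s) A = q B + c`, `s = ±1`.
-/

set_option autoImplicit false

namespace Cfsg.Agent.R2.Spec.E

open Cfsg Cfsg.Agent.H426.LieFam Cfsg.Agent.R2.Spec Cfsg.Agent.R2.Spec.P1 Cfsg.Agent.R2.Spec.F1

/-- the linear relation -/
structure LinRel (q : ℕ) (s : ℤ) (A B : ℕ) (c : ℤ) : Prop where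
  hs : s = 1 ∨ s = -1
  eq : ((q : ℤ) + s) * A = q * B + c

theorem cast_pow_sub {q n : ℕ} (hq : 1 ≤ q) : ((q ^ n - 1 : ℕ) : ℤ) = (q : ℤ) ^ n - 1 := by
  rw [Nat.cast_sub (Nat.one_le_pow _ _ hq)]
  push_cast
  ring

/-- the isolated numbers of `L_n(q)` -/
theorem val_psl {n q : ℕ} (hn : 2 ≤ n) (hq : 2 ≤ q) :
    ttor (.psl n) q n * (Nat.gcd n (q - 1) * (q - 1)) = q ^ n - 1 ∧
      ttor (.psl n) q (n - 1) * Nat.gcd n (q - 1) = q ^ (n - 1) - 1 := by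
  have hg0 : 0 < Nat.gcd n (q - 1) := Nat.gcd_pos_of_pos_left _ (by omega)
  constructor
  · have hs : ((q : ℤ) - 1).natAbs = q - 1 := by omega
    have h1 := gcd_mul_dvd_ua' (s := (q : ℤ)) (n := n) hs
    have h2 : Cfsg.Agent.R2.Spec.X7.ua (q : ℤ) n = q ^ n - 1 := by
      unfold Cfsg.Agent.R2.Spec.X7.ua
      rw [← cast_pow_sub (by omega)]
      exact Int.natAbs_natCast _
    rw [h2] at h1
    rw [ttor, if_pos rfl, mul_comm (q - 1) (Nat.gcd n (q - 1))]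
    exact Nat.div_mul_cancel h1
  · rw [ttor, if_neg (by omega)]
    exact Nat.div_mul_cancel ((Nat.gcd_dvd_right _ _).trans (Nat.sub_one_dvd_pow_sub_one q (n - 1)))

theorem lin_psl {n q : ℕ} (hn : 2 ≤ n) (hq : 2 ≤ q) : ∃ e : ℕ, e * Nat.gcd n (q - 1) = q - 1 ∧
    LinRel q (-1) (ttor (.psl n) q n) (ttor (.psl n) q (n - 1)) e := by
  obtain ⟨h1, h2⟩ := val_psl hn hq
  have hg0 : 0 < Nat.gcd n (q - 1) := Nat.gcd_pos_of_pos_left _ (by omega)
  obtain ⟨e, he⟩ := Nat.gcd_dvd_right n (q - 1)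
  refine ⟨e, by rw [mul_comm]; exact he.symm, Or.inr rfl, ?_⟩
  have h3 : ((ttor (.psl n) q n : ℕ) : ℤ) * (Nat.gcd n (q - 1) * ((q : ℤ) - 1)) = (q : ℤ) ^ n - 1 := by
    rw [← cast_pow_sub (by omega), ← h1]
    push_cast [Nat.cast_sub (show 1 ≤ q by omega)]
    ring
  have h4 : ((ttor (.psl n) q (n - 1) : ℕ) : ℤ) * Nat.gcd n (q - 1) = (q : ℤ) ^ (n - 1) - 1 := by
    rw [← cast_pow_sub (by omega), ← h2]
    push_cast
    ring
  have h5 : (q : ℤ) - 1 = Nat.gcd n (q - 1) * e := by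
    have : ((q - 1 : ℕ) : ℤ) = (q : ℤ) - 1 := by push_cast [Nat.cast_sub (show 1 ≤ q by omega)]; ring
    rw [← this]
    exact_mod_cast he
  have h6 : (q : ℤ) ^ n = q * (q : ℤ) ^ (n - 1) := by
    rw [← pow_succ']
    congr 1
    omega
  have hg : ((Nat.gcd n (q - 1) : ℕ) : ℤ) ≠ 0 := by exact_mod_cast hg0.ne'
  apply mul_right_cancel₀ hg
  linear_combination h3 + h6 - (q : ℤ) * h4 + h5

/-- the isolated numbers of `U_n(q)` -/
theorem val_psu {n q : ℕ} (hn : 2 ≤ n) (hq : 2 ≤ q) :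
    ttor (.psu n) q n * (Nat.gcd n (q + 1) * (q + 1)) = (if n % 2 = 0 then q ^ n - 1 else q ^ n + 1) ∧
      ttor (.psu n) q (n - 1) * Nat.gcd n (q + 1) = (if n % 2 = 0 then q ^ (n - 1) + 1 else q ^ (n - 1) - 1) := by
  have hg0 : 0 < Nat.gcd n (q + 1) := Nat.gcd_pos_of_pos_left _ (by omega)
  have hs : (-(q : ℤ) - 1).natAbs = q + 1 := by omega
  constructor
  · have h1 := gcd_mul_dvd_ua' (s := -(q : ℤ)) (n := n) hs
    have h2 : Cfsg.Agent.R2.Spec.X7.ua (-(q : ℤ)) n = (if n % 2 = 0 then q ^ n - 1 else q ^ n + 1) := by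
      unfold Cfsg.Agent.R2.Spec.X7.ua
      split_ifs with h
      · rw [(Nat.even_iff.2 h).neg_pow, ← cast_pow_sub (by omega)]
        exact Int.natAbs_natCast _
      · have h' : Odd n := Nat.odd_iff.2 (by omega)
        rw [h'.neg_pow, show -(q : ℤ) ^ n - 1 = -((q ^ n + 1 : ℕ) : ℤ) by push_cast; ring, Int.natAbs_neg]
        exact Int.natAbs_natCast _
    rw [h2] at h1
    rw [ttor, if_pos rfl, mul_comm (q + 1) (Nat.gcd n (q + 1))]
    exact Nat.div_mul_cancel h1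
  · rw [ttor, if_neg (by omega)]
    refine Nat.div_mul_cancel ((Nat.gcd_dvd_right _ _).trans ?_)
    split_ifs with h
    · have h' : Odd (n - 1) := Nat.odd_iff.2 (by omega)
      simpa using Odd.nat_add_dvd_pow_add_pow q 1 h'
    · obtain ⟨k, hk⟩ : ∃ k, n - 1 = 2 * k := ⟨(n - 1) / 2, by omega⟩
      rw [hk, pow_mul]
      exact (Dvd.intro (q - 1) (by
        have : (q + 1) * (q - 1) = q ^ 2 - 1 := by
          zify [show 1 ≤ q by omega, Nat.one_le_pow 2 q (by omega)]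
          ring
        exact this)).trans (Nat.sub_one_dvd_pow_sub_one (q ^ 2) k)

theorem lin_psu {n q : ℕ} (hn : 2 ≤ n) (hq : 2 ≤ q) : ∃ e : ℕ, e * Nat.gcd n (q + 1) = q + 1 ∧
    LinRel q 1 (ttor (.psu n) q n) (ttor (.psu n) q (n - 1)) (if n % 2 = 0 then -(e : ℤ) else e) := by
  obtain ⟨h1, h2⟩ := val_psu hn hq
  have hg0 : 0 < Nat.gcd n (q + 1) := Nat.gcd_pos_of_pos_left _ (by omega)
  obtain ⟨e, he⟩ := Nat.gcd_dvd_right n (q + 1)
  refine ⟨e, by rw [mul_comm]; exact he.symm, Or.inl rfl, ?_⟩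
  have h5 : (q : ℤ) + 1 = Nat.gcd n (q + 1) * e := by exact_mod_cast he
  have h6 : (q : ℤ) ^ n = q * (q : ℤ) ^ (n - 1) := by
    rw [← pow_succ']
    congr 1
    omega
  have hg : ((Nat.gcd n (q + 1) : ℕ) : ℤ) ≠ 0 := by exact_mod_cast hg0.ne'
  apply mul_right_cancel₀ hg
  by_cases h : n % 2 = 0
  · rw [if_pos h] at h1 h2 ⊢
    have h3 : ((ttor (.psu n) q n : ℕ) : ℤ) * (Nat.gcd n (q + 1) * ((q : ℤ) + 1)) = (q : ℤ) ^ n - 1 := by
      rw [← cast_pow_sub (by omega), ← h1]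
      push_cast
      ring
    have h4 : ((ttor (.psu n) q (n - 1) : ℕ) : ℤ) * Nat.gcd n (q + 1) = (q : ℤ) ^ (n - 1) + 1 := by
      exact_mod_cast h2
    linear_combination h3 + h6 - (q : ℤ) * h4 - h5
  · rw [if_neg h] at h1 h2 ⊢
    have h3 : ((ttor (.psu n) q n : ℕ) : ℤ) * (Nat.gcd n (q + 1) * ((q : ℤ) + 1)) = (q : ℤ) ^ n + 1 := by
      exact_mod_cast h1
    have h4 : ((ttor (.psu n) q (n - 1) : ℕ) : ℤ) * Nat.gcd n (q + 1) = (q : ℤ) ^ (n - 1) - 1 := by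
      rw [← cast_pow_sub (by omega), ← h2]
      push_cast
      ring
    linear_combination h3 + h6 - (q : ℤ) * h4 + h5

end Cfsg.Agent.R2.Spec.E
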