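import Cfsg.Agent.R2.Spec.E.Rel

/-!
# The engine (helper29): the linear relations, symplectic and orthogonal groups
-/

set_option autoImplicit false

namespace Cfsg.Agent.R2.Spec.E

open Cfsg Cfsg.Agent.H426.LieFam Cfsg.Agent.R2.Spec Cfsg.Agent.R2.Spec.P1 Cfsg.Agent.R2.Spec.F1

theorem pow_mod_four_odd {q k : ℕ} (hq : q % 2 = 1) (hk : k % 2 = 0) : q ^ k % 4 = 1 := by
  obtain ⟨j, rfl⟩ : ∃ j, k = 2 * j := ⟨k / 2, by omega⟩
  rw [pow_mul]
  have h1 : q ^ 2 % 4 = 1 := by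
    have h2 : q % 4 = 1 ∨ q % 4 = 3 := by omega
    rw [Nat.pow_mod]
    rcases h2 with h2 | h2 <;> rw [h2]
  rw [Nat.pow_mod, h1, one_pow, Nat.one_mod]

theorem pow_odd_mod_four {q k : ℕ} (hq : q % 2 = 1) (hk : k % 2 = 1) : q ^ k % 4 = q % 4 := by
  obtain ⟨j, rfl⟩ : ∃ j, k = j + 1 := ⟨k - 1, by omega⟩
  rw [pow_succ, Nat.mul_mod, pow_mod_four_odd hq (by omega), one_mul, Nat.mod_mod]

theorem pow_odd {q : ℕ} (hq : q % 2 = 1) (k : ℕ) : q ^ k % 2 = 1 :=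
  Nat.odd_iff.1 ((Nat.odd_iff.2 hq).pow)

/-- the isolated numbers of `PSp_2n(q)`, `Ω_{2n+1}(q)` -/
theorem val_psp {n q : ℕ} (hn : 1 ≤ n) (hq : 2 ≤ q) :
    ttor (.psp n) q (2 * n) * Nat.gcd 2 (q - 1) = q ^ n + 1 ∧ ttor (.psp n) q n * Nat.gcd 2 (q - 1) = q ^ n - 1 := by
  have h0 : Nat.gcd 2 (q - 1) ∣ q ^ n - 1 := (Nat.gcd_dvd_right _ _).trans (Nat.sub_one_dvd_pow_sub_one q n)
  constructor
  · rw [ttor, if_pos rfl]
    refine Nat.div_mul_cancel ?_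
    have h1 : Nat.gcd 2 (q - 1) ∣ 2 := Nat.gcd_dvd_left _ _
    have h2 := Nat.dvd_add h0 h1
    have h3 := Nat.one_le_pow n q (by omega)
    rwa [show q ^ n - 1 + 2 = q ^ n + 1 by omega] at h2
  · rw [ttor, if_neg (by omega)]
    exact Nat.div_mul_cancel h0

theorem ttor_oodd (n q i : ℕ) : ttor (.oodd n) q i = ttor (.psp n) q i := rfl

theorem gcd_two_odd {q : ℕ} (h : q % 2 = 1) : Nat.gcd 2 (q - 1) = 2 :=
  Nat.gcd_eq_left (by omega)

theorem gcd_two_even {q : ℕ} (hq : 2 ≤ q) (h : q % 2 = 0) : Nat.gcd 2 (q - 1) = 1 := by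
  rw [Nat.gcd_comm]
  exact Nat.Coprime.symm ((Nat.coprime_two_left (n := q - 1)).2 (Nat.odd_iff.2 (by omega)))

/-- the numbers of `POmega^+_{2n}(q)`, `n` odd -/
theorem val_oplus_odd {n q : ℕ} (hn : 3 ≤ n) (hn2 : n % 2 = 1) (hq : 2 ≤ q) :
    ttor (.oplus n) q n * Nat.gcd 4 (q ^ n - 1) = q ^ n - 1 ∧
      ttor (.oplus n) q (2 * (n - 1)) * Nat.gcd 4 (q ^ n - 1) = (q ^ (n - 1) + 1) * (q + 1) := by
  constructor
  · rw [ttor, if_pos rfl]
    exact Nat.div_mul_cancel (Nat.gcd_dvd_right _ _)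
  · rw [ttor, if_neg (by omega), if_neg (by omega), if_neg (by omega)]
    refine Nat.div_mul_cancel ?_
    rcases Nat.mod_two_eq_zero_or_one q with h | h
    · have h1 : (q ^ n - 1) % 2 = 1 := by
        have h2 : q ^ n % 2 = 0 := by
          obtain ⟨k, rfl⟩ : ∃ k, n = k + 1 := ⟨n - 1, by omega⟩
          rw [pow_succ, Nat.mul_mod, h, mul_zero, Nat.zero_mod]
        have h3 := Nat.one_le_pow n q (by omega)
        omega
      have h4 : Nat.gcd 4 (q ^ n - 1) = 1 := by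
        have : Nat.Coprime (2 ^ 2) (q ^ n - 1) :=
          Nat.Coprime.pow_left 2 ((Nat.coprime_two_left).2 (Nat.odd_iff.2 h1))
        exact this
      rw [h4]
      exact one_dvd _
    · refine (Nat.gcd_dvd_left _ _).trans ?_
      have h1 : 2 ∣ q ^ (n - 1) + 1 := by have := pow_odd h (n - 1); omega
      have h2 : 2 ∣ q + 1 := by omega
      exact mul_dvd_mul h1 h2

/-- the numbers of `POmega^+_{2n}(q)`, `n` even -/
theorem val_oplus_even {n q : ℕ} (hn : 4 ≤ n) (hn2 : n % 2 = 0) (hq : 2 ≤ q) :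
    ttor (.oplus n) q (2 * (n - 1)) * Nat.gcd 2 (q - 1) = q ^ (n - 1) + 1 ∧
      ttor (.oplus n) q (n - 1) * Nat.gcd 2 (q - 1) = q ^ (n - 1) - 1 := by
  obtain ⟨h1, h2⟩ := val_psp (n := n - 1) (q := q) (by omega) hq
  have h3 : ttor (.psp (n - 1)) q (2 * (n - 1)) = (q ^ (n - 1) + 1) / Nat.gcd 2 (q - 1) := by
    rw [ttor, if_pos rfl]
  have h4 : ttor (.psp (n - 1)) q (n - 1) = (q ^ (n - 1) - 1) / Nat.gcd 2 (q - 1) := by
    rw [ttor, if_neg (by omega)]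
  constructor
  · rw [ttor, if_neg (by omega), if_neg (by omega), if_pos hn2, ← h3]
    exact h1
  · rw [ttor, if_neg (by omega), if_pos rfl, ← h4]
    exact h2

theorem gcd_minus {n q : ℕ} (hn : 1 ≤ n) {a b : ℕ} (ha : q % 2 = 1 → 2 ∣ a) (hb : q % 2 = 1 → 2 ∣ b) :
    Nat.gcd 4 (q ^ n + 1) ∣ a * b := by
  rcases Nat.mod_two_eq_zero_or_one q with h | h
  · have h1 : (q ^ n + 1) % 2 = 1 := by
      have h2 : q ^ n % 2 = 0 := by
        obtain ⟨k, rfl⟩ : ∃ k, n = k + 1 := ⟨n - 1, by omega⟩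
        rw [pow_succ, Nat.mul_mod, h, mul_zero, Nat.zero_mod]
      omega
    have h4 : Nat.gcd 4 (q ^ n + 1) = 1 := by
      have : Nat.Coprime (2 ^ 2) (q ^ n + 1) :=
        Nat.Coprime.pow_left 2 ((Nat.coprime_two_left).2 (Nat.odd_iff.2 h1))
      exact this
    rw [h4]
    exact one_dvd _
  · exact (Nat.gcd_dvd_left _ _).trans (mul_dvd_mul (ha h) (hb h))

/-- the numbers of `POmega^-_{2n}(q)` -/
theorem val_ominus {n q : ℕ} (hn : 3 ≤ n) (hq : 2 ≤ q) :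
    ttor (.ominus n) q (2 * n) * Nat.gcd 4 (q ^ n + 1) = q ^ n + 1 ∧
      ttor (.ominus n) q (2 * (n - 1)) * Nat.gcd 4 (q ^ n + 1) = (q ^ (n - 1) + 1) * (q - 1) ∧
      ttor (.ominus n) q (n - 1) * Nat.gcd 4 (q ^ n + 1) = (q ^ (n - 1) - 1) * (q + 1) := by
  refine ⟨?_, ?_, ?_⟩
  · rw [ttor, if_pos rfl]
    exact Nat.div_mul_cancel (Nat.gcd_dvd_right _ _)
  · rw [ttor, if_neg (by omega), if_neg (by omega)]
    exact Nat.div_mul_cancel (gcd_minus (by omega)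
      (fun h => by have := pow_odd h (n - 1); omega) (fun h => by omega))
  · rw [ttor, if_neg (by omega), if_pos rfl]
    exact Nat.div_mul_cancel (gcd_minus (by omega)
      (fun h => by have := pow_odd h (n - 1); have := Nat.one_le_pow (n - 1) q (by omega); omega) (fun h => by omega))

/-- the relation of `POmega^+_{2n}(q)`, `n` odd -/
theorem lin_oplus_odd {n q : ℕ} (hn : 3 ≤ n) (hn2 : n % 2 = 1) (hq : 2 ≤ q) :
    ∃ e : ℕ, e * Nat.gcd 4 (q ^ n - 1) = (q + 1) ^ 2 ∧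
      LinRel q 1 (ttor (.oplus n) q n) (ttor (.oplus n) q (2 * (n - 1))) (-(e : ℤ)) := by
  obtain ⟨h1, h2⟩ := val_oplus_odd hn hn2 hq
  have hg0 : 0 < Nat.gcd 4 (q ^ n - 1) := Nat.gcd_pos_of_pos_left _ (by omega)
  have hd : Nat.gcd 4 (q ^ n - 1) ∣ (q + 1) ^ 2 := by
    rcases Nat.mod_two_eq_zero_or_one q with h | h
    · have h3 : Nat.gcd 4 (q ^ n - 1) = 1 := by
        have h4 : (q ^ n - 1) % 2 = 1 := by
          have h5 : q ^ n % 2 = 0 := by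
            obtain ⟨k, rfl⟩ : ∃ k, n = k + 1 := ⟨n - 1, by omega⟩
            rw [pow_succ, Nat.mul_mod, h, mul_zero, Nat.zero_mod]
          have h6 := Nat.one_le_pow n q (by omega)
          omega
        have : Nat.Coprime (2 ^ 2) (q ^ n - 1) :=
          Nat.Coprime.pow_left 2 ((Nat.coprime_two_left).2 (Nat.odd_iff.2 h4))
        exact this
      rw [h3]
      exact one_dvd _
    · refine (Nat.gcd_dvd_left _ _).trans ?_
      rw [pow_two]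
      exact mul_dvd_mul (show 2 ∣ q + 1 by omega) (show 2 ∣ q + 1 by omega)
  obtain ⟨e, he⟩ := hd
  refine ⟨e, by rw [mul_comm]; exact he.symm, Or.inl rfl, ?_⟩
  have h3 : ((ttor (.oplus n) q n : ℕ) : ℤ) * Nat.gcd 4 (q ^ n - 1) = (q : ℤ) ^ n - 1 := by
    rw [← cast_pow_sub (by omega)]
    exact_mod_cast h1
  have h4 : ((ttor (.oplus n) q (2 * (n - 1)) : ℕ) : ℤ) * Nat.gcd 4 (q ^ n - 1) = ((q : ℤ) ^ (n - 1) + 1) * (q + 1) := by
    exact_mod_cast h2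
  have h5 : ((q : ℤ) + 1) ^ 2 = Nat.gcd 4 (q ^ n - 1) * e := by exact_mod_cast he
  have h6 : (q : ℤ) ^ n = q * (q : ℤ) ^ (n - 1) := by
    rw [← pow_succ']
    congr 1
    omega
  have hg : ((Nat.gcd 4 (q ^ n - 1) : ℕ) : ℤ) ≠ 0 := by exact_mod_cast hg0.ne'
  apply mul_right_cancel₀ hg
  linear_combination ((q : ℤ) + 1) * h3 + ((q : ℤ) + 1) * h6 - (q : ℤ) * h4 - h5

/-- the relation of `POmega^-_{2n}(q)` -/
theorem lin_ominus {n q : ℕ} (hn : 3 ≤ n) (hq : 2 ≤ q) :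
    ∃ e : ℕ, e * Nat.gcd 4 (q ^ n + 1) = (q - 1) ^ 2 ∧
      LinRel q (-1) (ttor (.ominus n) q (2 * n)) (ttor (.ominus n) q (2 * (n - 1))) (-(e : ℤ)) := by
  obtain ⟨h1, h2, -⟩ := val_ominus hn hq
  have hg0 : 0 < Nat.gcd 4 (q ^ n + 1) := Nat.gcd_pos_of_pos_left _ (by omega)
  have hd : Nat.gcd 4 (q ^ n + 1) ∣ (q - 1) ^ 2 := by
    rw [pow_two]
    exact gcd_minus (by omega) (fun h => by omega) (fun h => by omega)
  obtain ⟨e, he⟩ := hd
  refine ⟨e, by rw [mul_comm]; exact he.symm, Or.inr rfl, ?_⟩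
  have hq1 : ((q - 1 : ℕ) : ℤ) = (q : ℤ) - 1 := by push_cast [Nat.cast_sub (show 1 ≤ q by omega)]; ring
  have h3 : ((ttor (.ominus n) q (2 * n) : ℕ) : ℤ) * Nat.gcd 4 (q ^ n + 1) = (q : ℤ) ^ n + 1 := by
    exact_mod_cast h1
  have h4 : ((ttor (.ominus n) q (2 * (n - 1)) : ℕ) : ℤ) * Nat.gcd 4 (q ^ n + 1) =
      ((q : ℤ) ^ (n - 1) + 1) * (q - 1) := by
    rw [← hq1]
    exact_mod_cast h2
  have h5 : ((q : ℤ) - 1) ^ 2 = Nat.gcd 4 (q ^ n + 1) * e := by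
    rw [← hq1]
    exact_mod_cast he
  have h6 : (q : ℤ) ^ n = q * (q : ℤ) ^ (n - 1) := by
    rw [← pow_succ']
    congr 1
    omega
  have hg : ((Nat.gcd 4 (q ^ n + 1) : ℕ) : ℤ) ≠ 0 := by exact_mod_cast hg0.ne'
  apply mul_right_cancel₀ hg
  linear_combination ((q : ℤ) - 1) * h3 + ((q : ℤ) - 1) * h6 - (q : ℤ) * h4 - h5

end Cfsg.Agent.R2.Spec.E
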