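import Cfsg.Agent.R2.Spec.E.Elim

/-!
# The engine (helper29): the relation of two isolated numbers of `S`
-/

set_option autoImplicit false

namespace Cfsg.Agent.R2.Spec.E

open Cfsg Cfsg.Agent.H426.LieFam Cfsg.Agent.R2.Spec Cfsg.Agent.R2.Spec.P1 Cfsg.Agent.R2.Spec.F1

/-- the relation of the isolated numbers of `S` -/
structure SNum (t' : Fam) (u i' j' : ℕ) (k d : ℕ) (s a' b' c' : ℤ) : Prop where
  rel : SRel u k d s a' b' c'
  eq : a' * ttor t' u i' = b' * ttor t' u j' + c'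
  lin : k = 0 → (∃ m, t' = .psl m ∧ s = -1 ∧ d = Nat.gcd m (u - 1) ∧
      ((i' = m ∧ j' + 1 = m ∧ a' = u + s) ∨ (i' + 1 = m ∧ j' = m ∧ b' = u + s))) ∨
    (∃ m, t' = .psu m ∧ s = 1 ∧ d = Nat.gcd m (u + 1) ∧
      ((i' = m ∧ j' + 1 = m ∧ a' = u + s) ∨ (i' + 1 = m ∧ j' = m ∧ b' = u + s)))
  sum : k = 1 → |c'| = 1 → ∃ e : ℕ, 1 ≤ e ∧ ttor t' u i' + ttor t' u j' = u ^ e
  min : k = 2 → s = -1 → ∃ m, t' = .ominus m ∧ (a' = u + s → i' = 2 * m ∧ j' = 2 * (m - 1))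
  lk : (∃ m, t' = .psl m ∨ t' = .psu m) → k = 0
  sp : (∃ m, t' = .psp m ∨ t' = .oodd m ∨ (t' = .oplus m ∧ m % 2 = 0)) → k = 1

/-- the minus type, classes `2m` and `m-1` -/
theorem lin_ominus' {n q : ℕ} (hn : 3 ≤ n) (hq : 2 ≤ q) :
    ∃ e : ℕ, e * Nat.gcd 4 (q ^ n + 1) = (q + 1) ^ 2 ∧
      ((q : ℤ) + 1) * ttor (.ominus n) q (2 * n) = q * ttor (.ominus n) q (n - 1) + e := by
  obtain ⟨h1, -, h2⟩ := val_ominus hn hq
  have hg0 : 0 < Nat.gcd 4 (q ^ n + 1) := Nat.gcd_pos_of_pos_left _ (by omega)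
  have hd : Nat.gcd 4 (q ^ n + 1) ∣ (q + 1) ^ 2 := by
    rw [pow_two]
    exact gcd_minus (by omega) (fun h => by omega) (fun h => by omega)
  obtain ⟨e, he⟩ := hd
  refine ⟨e, by rw [mul_comm]; exact he.symm, ?_⟩
  have h3 : ((ttor (.ominus n) q (2 * n) : ℕ) : ℤ) * Nat.gcd 4 (q ^ n + 1) = (q : ℤ) ^ n + 1 := by
    exact_mod_cast h1
  have h4 : ((ttor (.ominus n) q (n - 1) : ℕ) : ℤ) * Nat.gcd 4 (q ^ n + 1) = ((q : ℤ) ^ (n - 1) - 1) * (q + 1) := by
    rw [← cast_pow_sub (by omega)]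
    exact_mod_cast h2
  have h5 : ((q : ℤ) + 1) ^ 2 = Nat.gcd 4 (q ^ n + 1) * e := by exact_mod_cast he
  have h6 : (q : ℤ) ^ n = q * (q : ℤ) ^ (n - 1) := by
    rw [← pow_succ']
    congr 1
    omega
  have hg : ((Nat.gcd 4 (q ^ n + 1) : ℕ) : ℤ) ≠ 0 := by exact_mod_cast hg0.ne'
  apply mul_right_cancel₀ hg
  linear_combination ((q : ℤ) + 1) * h3 + ((q : ℤ) + 1) * h6 - (q : ℤ) * h4 + h5

/-- the minus type, classes `2(m-1)` and `m-1` -/
theorem lin_ominus'' {n q : ℕ} (hn : 3 ≤ n) (hq : 2 ≤ q) :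
    ∃ e : ℕ, e * Nat.gcd 4 (q ^ n + 1) = 2 * ((q + 1) * (q - 1)) ∧
      ((q : ℤ) + 1) * ttor (.ominus n) q (2 * (n - 1)) = (q - 1) * ttor (.ominus n) q (n - 1) + e := by
  obtain ⟨-, h1, h2⟩ := val_ominus hn hq
  have hg0 : 0 < Nat.gcd 4 (q ^ n + 1) := Nat.gcd_pos_of_pos_left _ (by omega)
  have hd : Nat.gcd 4 (q ^ n + 1) ∣ 2 * ((q + 1) * (q - 1)) :=
    (gcd_minus (n := n) (q := q) (by omega) (fun h => by omega) (fun h => by omega)).mul_left 2
  obtain ⟨e, he⟩ := hd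
  refine ⟨e, by rw [mul_comm]; exact he.symm, ?_⟩
  have hq1 : ((q - 1 : ℕ) : ℤ) = (q : ℤ) - 1 := by push_cast [Nat.cast_sub (show 1 ≤ q by omega)]; ring
  have h3 : ((ttor (.ominus n) q (2 * (n - 1)) : ℕ) : ℤ) * Nat.gcd 4 (q ^ n + 1) =
      ((q : ℤ) ^ (n - 1) + 1) * (q - 1) := by
    rw [← hq1]
    exact_mod_cast h1
  have h4 : ((ttor (.ominus n) q (n - 1) : ℕ) : ℤ) * Nat.gcd 4 (q ^ n + 1) = ((q : ℤ) ^ (n - 1) - 1) * (q + 1) := by
    rw [← cast_pow_sub (by omega)]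
    exact_mod_cast h2
  have h5 : 2 * (((q : ℤ) + 1) * (q - 1)) = Nat.gcd 4 (q ^ n + 1) * e := by
    rw [← hq1]
    exact_mod_cast he
  have hg : ((Nat.gcd 4 (q ^ n + 1) : ℕ) : ℤ) ≠ 0 := by exact_mod_cast hg0.ne'
  apply mul_right_cancel₀ hg
  linear_combination ((q : ℤ) + 1) * h3 - ((q : ℤ) - 1) * h4 + h5

theorem snum_psp {m u : ℕ} (hm : 1 ≤ m) (hu : 2 ≤ u) :
    ∃ e : ℤ, (|e| = 1 ∨ |e| = 2) ∧ (1 : ℤ) * ttor (.psp m) u (2 * m) = 1 * ttor (.psp m) u m + e ∧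
      (|e| = 1 → ttor (.psp m) u (2 * m) + ttor (.psp m) u m = u ^ m) := by
  obtain ⟨h1, h2⟩ := val_psp hm hu
  have h3 := Nat.one_le_pow m u (by omega)
  rcases Nat.mod_two_eq_zero_or_one u with h | h
  · rw [gcd_two_even hu h, mul_one] at h1 h2
    refine ⟨2, Or.inr (by norm_num), by omega, fun h4 => ?_⟩
    norm_num at h4
  · rw [gcd_two_odd h] at h1 h2
    exact ⟨1, Or.inl (by norm_num), by omega, fun _ => by omega⟩

theorem snum_oplus {m u : ℕ} (hm : 4 ≤ m) (hm2 : m % 2 = 0) (hu : 2 ≤ u) :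
    ∃ e : ℤ, (|e| = 1 ∨ |e| = 2) ∧ (1 : ℤ) * ttor (.oplus m) u (2 * (m - 1)) = 1 * ttor (.oplus m) u (m - 1) + e ∧
      (|e| = 1 → ttor (.oplus m) u (2 * (m - 1)) + ttor (.oplus m) u (m - 1) = u ^ (m - 1)) := by
  obtain ⟨h1, h2⟩ := val_oplus_even hm hm2 hu
  have h3 := Nat.one_le_pow (m - 1) u (by omega)
  rcases Nat.mod_two_eq_zero_or_one u with h | h
  · rw [gcd_two_even hu h, mul_one] at h1 h2
    refine ⟨2, Or.inr (by norm_num), by omega, fun h4 => ?_⟩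
    norm_num at h4
  · rw [gcd_two_odd h] at h1 h2
    exact ⟨1, Or.inl (by norm_num), by omega, fun _ => by omega⟩

/-- the symmetric relation -/
theorem SNum.swap {t' : Fam} {u i' j' k d : ℕ} {s a' b' c' : ℤ} (h : SNum t' u i' j' k d s a' b' c')
    (h3 : k = 2 → s = -1 → b' ≠ u + s) : ∃ s', SNum t' u j' i' k d s' b' a' (-c') := by
  obtain ⟨s', hs', h1⟩ := h.rel.symm
  refine ⟨s', h1, by linear_combination -h.eq, ?_, ?_, ?_, h.lk, h.sp⟩
  · intro hk
    rw [hs' (by omega)]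
    rcases h.lin hk with ⟨m, h4, h5, h6, h7⟩ | ⟨m, h4, h5, h6, h7⟩
    · refine Or.inl ⟨m, h4, h5, h6, ?_⟩
      rcases h7 with ⟨h8, h9, h10⟩ | ⟨h8, h9, h10⟩
      · exact Or.inr ⟨h9, h8, h10⟩
      · exact Or.inl ⟨h9, h8, h10⟩
    · refine Or.inr ⟨m, h4, h5, h6, ?_⟩
      rcases h7 with ⟨h8, h9, h10⟩ | ⟨h8, h9, h10⟩
      · exact Or.inr ⟨h9, h8, h10⟩
      · exact Or.inl ⟨h9, h8, h10⟩
  · intro hk hc
    rw [abs_neg] at hc
    obtain ⟨e, he, h4⟩ := h.sum hk hc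
    exact ⟨e, he, by rw [add_comm]; exact h4⟩
  · intro hk hs
    have h4 := hs' (by omega)
    rw [h4] at hs ⊢
    obtain ⟨m, hm, -⟩ := h.min hk hs
    exact ⟨m, hm, fun h5 => absurd h5 (h3 hk hs)⟩

theorem abs_natCast' (n : ℕ) : |(n : ℤ)| = n := Nat.abs_cast n

/-- **The relation of two isolated numbers.** -/
theorem snum {t' : Fam} {u i' j' : ℕ} (hu : 2 ≤ u) (hr : 4 ≤ rk t') (hi : top t' i') (hj : top t' j') (hij : i' ≠ j') :
    ∃ k d s a' b' c', SNum t' u i' j' k d s a' b' c' := by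
  have lin1 : ∀ s : ℤ, ((u : ℤ) + s = u + s) := fun _ => rfl
  cases t' with
  | psl m =>
    change 4 ≤ m at hr
    obtain ⟨e, he, h1⟩ := lin_psl (n := m) (q := u) (by omega) hu
    have hcast : ((u - 1 : ℕ) : ℤ) = (u : ℤ) + -1 := by push_cast [Nat.cast_sub (show 1 ≤ u by omega)]; ring
    have hS : SNum (.psl m) u m (m - 1) 0 (Nat.gcd m (u - 1)) (-1) (u + -1) u e := by
      refine ⟨.A1 (-1) (Or.inr rfl) _ _ ?_, h1.eq, fun _ => Or.inl ⟨m, rfl, rfl, rfl, Or.inl ⟨rfl, by omega, rfl⟩⟩,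
        fun h => absurd h (by norm_num), fun h => absurd h (by norm_num), fun _ => rfl,
        fun h => by obtain ⟨m, h | h | ⟨h, -⟩⟩ := h <;> exact Fam.noConfusion h⟩
      rw [abs_natCast', ← hcast]
      exact_mod_cast (by rw [mul_comm]; exact he)
    obtain ⟨hi3, hi⟩ := hi
    obtain ⟨hj3, hj⟩ := hj
    rcases hi with rfl | hi
    · obtain rfl : j' = i' - 1 := by omega
      exact ⟨_, _, _, _, _, _, hS⟩
    · obtain rfl : j' = m := by omega
      obtain rfl : i' = j' - 1 := by omega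
      obtain ⟨s', h2⟩ := hS.swap (fun h => absurd h (by norm_num))
      exact ⟨_, _, _, _, _, _, h2⟩
  | psu m =>
    change 4 ≤ m at hr
    obtain ⟨e, he, h1⟩ := lin_psu (n := m) (q := u) (by omega) hu
    have hS : SNum (.psu m) u m (m - 1) 0 (Nat.gcd m (u + 1)) 1 (u + 1) u (if m % 2 = 0 then -(e : ℤ) else e) := by
      refine ⟨.A1 1 (Or.inl rfl) _ _ ?_, h1.eq, fun _ => Or.inr ⟨m, rfl, rfl, rfl, Or.inl ⟨rfl, by omega, rfl⟩⟩,
        fun h => absurd h (by norm_num), fun h => absurd h (by norm_num), fun _ => rfl,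
        fun h => by obtain ⟨m, h | h | ⟨h, -⟩⟩ := h <;> exact Fam.noConfusion h⟩
      have h2 : |(if m % 2 = 0 then -(e : ℤ) else e)| = e := by
        split_ifs
        · rw [abs_neg, abs_natCast']
        · rw [abs_natCast']
      rw [h2]
      exact_mod_cast (by rw [mul_comm]; exact he)
    obtain ⟨hi3, hi⟩ := hi
    obtain ⟨hj3, hj⟩ := hj
    rcases hi with rfl | hi
    · obtain rfl : j' = i' - 1 := by omega
      exact ⟨_, _, _, _, _, _, hS⟩
    · obtain rfl : j' = m := by omega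
      obtain rfl : i' = j' - 1 := by omega
      obtain ⟨s', h2⟩ := hS.swap (fun h => absurd h (by norm_num))
      exact ⟨_, _, _, _, _, _, h2⟩
  | psp m =>
    change 4 ≤ m at hr
    obtain ⟨e, he, h1, h2⟩ := snum_psp (m := m) (u := u) (by omega) hu
    have hS : SNum (.psp m) u (2 * m) m 1 1 1 1 1 e :=
      ⟨.C e he, h1, fun h => absurd h (by norm_num), fun _ h => ⟨m, by omega, h2 h⟩, fun h => absurd h (by norm_num),
        fun h => by obtain ⟨m, h | h⟩ := h <;> exact Fam.noConfusion h, fun _ => rfl⟩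
    have hi' : i' = 2 * m ∨ (i' = m ∧ m % 2 = 1) := hi
    have hj' : j' = 2 * m ∨ (j' = m ∧ m % 2 = 1) := hj
    rcases hi' with rfl | ⟨rfl, hm⟩
    · obtain rfl : j' = m := by omega
      exact ⟨_, _, _, _, _, _, hS⟩
    · obtain rfl : j' = 2 * i' := by omega
      obtain ⟨s', h3⟩ := hS.swap (fun h => absurd h (by norm_num))
      exact ⟨_, _, _, _, _, _, h3⟩
  | oodd m =>
    change 4 ≤ m at hr
    obtain ⟨e, he, h1, h2⟩ := snum_psp (m := m) (u := u) (by omega) hu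
    have hS : SNum (.oodd m) u (2 * m) m 1 1 1 1 1 e :=
      ⟨.C e he, h1, fun h => absurd h (by norm_num), fun _ h => ⟨m, by omega, h2 h⟩, fun h => absurd h (by norm_num),
        fun h => by obtain ⟨m, h | h⟩ := h <;> exact Fam.noConfusion h, fun _ => rfl⟩
    have hi' : i' = 2 * m ∨ (i' = m ∧ m % 2 = 1) := hi
    have hj' : j' = 2 * m ∨ (j' = m ∧ m % 2 = 1) := hj
    rcases hi' with rfl | ⟨rfl, hm⟩
    · obtain rfl : j' = m := by omega
      exact ⟨_, _, _, _, _, _, hS⟩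
    · obtain rfl : j' = 2 * i' := by omega
      obtain ⟨s', h3⟩ := hS.swap (fun h => absurd h (by norm_num))
      exact ⟨_, _, _, _, _, _, h3⟩
  | oplus m =>
    change 4 ≤ m at hr
    have hi' : (i' = m ∧ m % 2 = 1) ∨ i' = 2 * (m - 1) ∨ (i' = m - 1 ∧ m % 2 = 0) := hi
    have hj' : (j' = m ∧ m % 2 = 1) ∨ j' = 2 * (m - 1) ∨ (j' = m - 1 ∧ m % 2 = 0) := hj
    rcases Nat.mod_two_eq_zero_or_one m with hm | hm
    · obtain ⟨e, he, h1, h2⟩ := snum_oplus (m := m) (u := u) hr hm hu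
      have hS : SNum (.oplus m) u (2 * (m - 1)) (m - 1) 1 1 1 1 1 e :=
        ⟨.C e he, h1, fun h => absurd h (by norm_num), fun _ h => ⟨m - 1, by omega, h2 h⟩,
          fun h => absurd h (by norm_num), fun h => by obtain ⟨m, h | h⟩ := h <;> exact Fam.noConfusion h, fun _ => rfl⟩
      rcases Nat.lt_or_ge i' m with h5 | h5
      · obtain rfl : i' = m - 1 := by omega
        obtain rfl : j' = 2 * (m - 1) := by omega
        obtain ⟨s', h3⟩ := hS.swap (fun h => absurd h (by norm_num))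
        exact ⟨_, _, _, _, _, _, h3⟩
      · obtain rfl : i' = 2 * (m - 1) := by omega
        obtain rfl : j' = m - 1 := by omega
        exact ⟨_, _, _, _, _, _, hS⟩
    · obtain ⟨e, he, h1⟩ := lin_oplus_odd (n := m) (q := u) (by omega) hm hu
      have hS : SNum (.oplus m) u m (2 * (m - 1)) 2 (Nat.gcd 4 (u ^ m - 1)) 1 (u + 1) u (-(e : ℤ)) := by
        refine ⟨.D1 1 (Or.inl rfl) _ (Nat.gcd_dvd_left _ _) _ ?_, h1.eq, fun h => absurd h (by norm_num),
          fun h => absurd h (by norm_num), fun _ h => absurd h (by norm_num), fun h => by obtain ⟨m, h | h⟩ := h <;> exact Fam.noConfusion h, fun h => by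
            obtain ⟨m', h | h | ⟨h, h'⟩⟩ := h
            · exact Fam.noConfusion h
            · exact Fam.noConfusion h
            · cases h
              omega⟩
        rw [abs_neg, abs_natCast']
        exact_mod_cast (by rw [mul_comm]; exact he)
      rcases Nat.lt_or_ge i' (m + 1) with h5 | h5
      · obtain rfl : i' = m := by omega
        obtain rfl : j' = 2 * (i' - 1) := by omega
        exact ⟨_, _, _, _, _, _, hS⟩
      · obtain rfl : i' = 2 * (m - 1) := by omega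
        obtain rfl : j' = m := by omega
        obtain ⟨s', h3⟩ := hS.swap (fun _ h => absurd h (by norm_num))
        exact ⟨_, _, _, _, _, _, h3⟩
  | ominus m =>
    change 4 ≤ m at hr
    have hi' : i' = 2 * m ∨ i' = 2 * (m - 1) ∨ (i' = m - 1 ∧ m % 2 = 0) := hi
    have hj' : j' = 2 * m ∨ j' = 2 * (m - 1) ∨ (j' = m - 1 ∧ m % 2 = 0) := hj
    obtain ⟨e, he, h1⟩ := lin_ominus (n := m) (q := u) (by omega) hu
    obtain ⟨e2, he2, h2⟩ := lin_ominus' (n := m) (q := u) (by omega) hu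
    obtain ⟨e3, he3, h3⟩ := lin_ominus'' (n := m) (q := u) (by omega) hu
    have hcast : ((u - 1 : ℕ) : ℤ) = (u : ℤ) + -1 := by push_cast [Nat.cast_sub (show 1 ≤ u by omega)]; ring
    have hS1 : SNum (.ominus m) u (2 * m) (2 * (m - 1)) 2 (Nat.gcd 4 (u ^ m + 1)) (-1) (u + -1) u (-(e : ℤ)) := by
      refine ⟨.D1 (-1) (Or.inr rfl) _ (Nat.gcd_dvd_left _ _) _ ?_, h1.eq, fun h => absurd h (by norm_num),
        fun h => absurd h (by norm_num), fun _ _ => ⟨m, rfl, fun _ => ⟨rfl, rfl⟩⟩,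
        fun h => by obtain ⟨m, h | h⟩ := h <;> exact Fam.noConfusion h,
        fun h => by obtain ⟨m, h | h | ⟨h, -⟩⟩ := h <;> exact Fam.noConfusion h⟩
      rw [abs_neg, abs_natCast', ← hcast]
      exact_mod_cast (by rw [mul_comm]; exact he)
    have hS2 : SNum (.ominus m) u (2 * m) (m - 1) 2 (Nat.gcd 4 (u ^ m + 1)) 1 (u + 1) u e2 := by
      refine ⟨.D1 1 (Or.inl rfl) _ (Nat.gcd_dvd_left _ _) _ ?_, h2, fun h => absurd h (by norm_num),
        fun h => absurd h (by norm_num), fun _ h => absurd h (by norm_num), fun h => by obtain ⟨m, h | h⟩ := h <;> exact Fam.noConfusion h,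
        fun h => by obtain ⟨m, h | h | ⟨h, -⟩⟩ := h <;> exact Fam.noConfusion h⟩
      rw [abs_natCast']
      exact_mod_cast (by rw [mul_comm]; exact he2)
    have hS3 : SNum (.ominus m) u (2 * (m - 1)) (m - 1) 3 (Nat.gcd 4 (u ^ m + 1)) 1 (u + 1) (u - 1) e3 := by
      refine ⟨.E1 1 (Or.inl rfl) _ (Nat.gcd_dvd_left _ _) _ ?_, h3, fun h => absurd h (by norm_num),
        fun h => absurd h (by norm_num), fun h => absurd h (by norm_num), fun h => by obtain ⟨m, h | h⟩ := h <;> exact Fam.noConfusion h,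
        fun h => by obtain ⟨m, h | h | ⟨h, -⟩⟩ := h <;> exact Fam.noConfusion h⟩
      have hcast' : ((u - 1 : ℕ) : ℤ) = (u : ℤ) - 1 := by push_cast [Nat.cast_sub (show 1 ≤ u by omega)]; ring
      rw [abs_natCast', ← hcast']
      exact_mod_cast (by rw [mul_comm]; exact he3)
    rcases hi' with rfl | rfl | ⟨rfl, hm⟩
    · rcases hj' with rfl | rfl | ⟨rfl, hm⟩
      · exact absurd rfl hij
      · exact ⟨_, _, _, _, _, _, hS1⟩
      · exact ⟨_, _, _, _, _, _, hS2⟩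
    · rcases hj' with rfl | rfl | ⟨rfl, hm⟩
      · obtain ⟨s', h4⟩ := hS1.swap (fun _ _ h => by omega)
        exact ⟨_, _, _, _, _, _, h4⟩
      · exact absurd rfl hij
      · exact ⟨_, _, _, _, _, _, hS3⟩
    · rcases hj' with rfl | rfl | ⟨rfl, hm⟩
      · obtain ⟨s', h4⟩ := hS2.swap (fun _ h => absurd h (by norm_num))
        exact ⟨_, _, _, _, _, _, h4⟩
      · obtain ⟨s', h4⟩ := hS3.swap (fun h => absurd h (by norm_num))
        exact ⟨_, _, _, _, _, _, h4⟩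
      · exact absurd rfl hij
  | _ => exact hi.elim

/-- rank three -/
theorem snum_three {t' : Fam} {u i' j' : ℕ} (hu : 2 ≤ u) (ht : t' = .psp 3 ∨ t' = .oodd 3) (hi : top t' i')
    (hj : top t' j') (hij : i' ≠ j') : ∃ k d s a' b' c', SNum t' u i' j' k d s a' b' c' := by
  rcases ht with rfl | rfl
  · obtain ⟨e, he, h1, h2⟩ := snum_psp (m := 3) (u := u) (by omega) hu
    have hS : SNum (.psp 3) u (2 * 3) 3 1 1 1 1 1 e :=
      ⟨.C e he, h1, fun h => absurd h (by norm_num), fun _ h => ⟨3, by omega, h2 h⟩, fun h => absurd h (by norm_num),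
        fun h => by obtain ⟨m, h | h⟩ := h <;> exact Fam.noConfusion h, fun _ => rfl⟩
    have hi' : i' = 2 * 3 ∨ (i' = 3 ∧ 3 % 2 = 1) := hi
    have hj' : j' = 2 * 3 ∨ (j' = 3 ∧ 3 % 2 = 1) := hj
    rcases hi' with rfl | ⟨rfl, hm⟩
    · obtain rfl : j' = 3 := by omega
      exact ⟨_, _, _, _, _, _, hS⟩
    · obtain rfl : j' = 2 * 3 := by omega
      obtain ⟨s', h3⟩ := hS.swap (fun h => absurd h (by norm_num))
      exact ⟨_, _, _, _, _, _, h3⟩
  · obtain ⟨e, he, h1, h2⟩ := snum_psp (m := 3) (u := u) (by omega) hu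
    have hS : SNum (.oodd 3) u (2 * 3) 3 1 1 1 1 1 e :=
      ⟨.C e he, h1, fun h => absurd h (by norm_num), fun _ h => ⟨3, by omega, h2 h⟩, fun h => absurd h (by norm_num),
        fun h => by obtain ⟨m, h | h⟩ := h <;> exact Fam.noConfusion h, fun _ => rfl⟩
    have hi' : i' = 2 * 3 ∨ (i' = 3 ∧ 3 % 2 = 1) := hi
    have hj' : j' = 2 * 3 ∨ (j' = 3 ∧ 3 % 2 = 1) := hj
    rcases hi' with rfl | ⟨rfl, hm⟩
    · obtain rfl : j' = 3 := by omega
      exact ⟨_, _, _, _, _, _, hS⟩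
    · obtain rfl : j' = 2 * 3 := by omega
      obtain ⟨s', h3⟩ := hS.swap (fun h => absurd h (by norm_num))
      exact ⟨_, _, _, _, _, _, h3⟩

/-- the rank condition of the engine -/
def RkS (t' : Fam) : Prop := 4 ≤ rk t' ∨ t' = .psp 3 ∨ t' = .oodd 3

theorem RkS.two {t' : Fam} (h : RkS t') : 2 ≤ rk t' := by
  rcases h with h | rfl | rfl
  · omega
  · exact (by decide : 2 ≤ 3)
  · exact (by decide : 2 ≤ 3)

theorem snum_rk {t' : Fam} {u i' j' : ℕ} (hu : 2 ≤ u) (hr : RkS t') (hi : top t' i') (hj : top t' j') (hij : i' ≠ j') :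
    ∃ k d s a' b' c', SNum t' u i' j' k d s a' b' c' := by
  rcases hr with hr | hr
  · exact snum hu hr hi hj hij
  · exact snum_three hu hr hi hj hij

end Cfsg.Agent.R2.Spec.E
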